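import Cfsg.Agent.Lib.Spor.JankoFourCentral.LocalPairs
import Cfsg.Agent.Lib.Spor.SubgroupCore
import Cfsg.Agent.Lib.Spor.M24Order
import Cfsg.Agent.Lib.Spor.JankoFourTen.Data

/-!
Coordinates for the subgroup `V` of order `2^11`, its extensions by groups of permutations, and the
distinguished Sylow 2-subgroup.
-/

set_option autoImplicit false
set_option maxRecDepth 100000

namespace CfsgLib.Spor.JankoFourTen

open Cfsg CfsgLib.Spor CfsgLib.Spor.JankoFourCentral CfsgLib.Base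
open scoped Pointwise symmDiff

theorem enc_zero (l : List ℕ) : enc l 0 = 0 := by
  induction l with
  | nil => rfl
  | cons b r ih => simp [enc, ih]

theorem enc_xor (l : List ℕ) (a b : ℕ) : enc l (a ^^^ b) = enc l a ^^^ enc l b := by
  induction l generalizing a b with
  | nil => simp [enc]
  | cons x r ih =>
    have h2 : (a ^^^ b) / 2 = a / 2 ^^^ b / 2 := by
      refine Nat.eq_of_testBit_eq fun i => ?_
      rw [Nat.testBit_div_two, Nat.testBit_xor, Nat.testBit_xor, Nat.testBit_div_two,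
        Nat.testBit_div_two]
    simp only [enc, h2, ih, Nat.testBit_xor]
    cases a.testBit 0 <;> cases b.testBit 0 <;> simp [Nat.xor_assoc, Nat.xor_left_comm]

theorem ev_enc {l : List ℕ} (h : ∀ b ∈ l, Ev b) (c : ℕ) : Ev (enc l c) := by
  induction l generalizing c with
  | nil => exact ev_zero
  | cons x r ih =>
    have hr := ih (fun b hb => h b (List.mem_cons_of_mem _ hb)) (c / 2)
    unfold enc
    refine Ev.xor ?_ hr
    split
    · exact h x List.mem_cons_self
    · exact ev_zero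

theorem exists_enc {l : List ℕ} {m : ℕ} (h : m ∈ spanList l) :
    ∃ c < 2 ^ l.length, enc l c = m := by
  induction l generalizing m with
  | nil => exact ⟨0, by simp, by simpa [spanList, enc, eq_comm] using h⟩
  | cons x r ih =>
    simp only [spanList, List.mem_append, List.mem_map] at h
    rcases h with h | ⟨a, ha, rfl⟩
    · obtain ⟨c, hc, rfl⟩ := ih h
      refine ⟨2 * c, by rw [List.length_cons, pow_succ]; omega, ?_⟩
      rw [enc]
      simp
    · obtain ⟨c, hc, rfl⟩ := ih ha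
      refine ⟨2 * c + 1, by rw [List.length_cons, pow_succ]; omega, ?_⟩
      rw [enc, show (2 * c + 1) / 2 = c by omega]
      simp

/-- the coordinates of a code of a vector -/
def code (c : ℕ) : ℕ := enc evBasis c

theorem evBasis_length : evBasis.length = 11 := by decide +kernel

theorem ev_evBasis {b : ℕ} (hb : b ∈ evBasis) : Ev b := by
  have := List.all_eq_true.1 base_check.2.2.2.2.2.2.2 b hb
  simp only [Bool.and_eq_true, Nat.blt_eq, Nat.beq_eq] at this
  exact ev_of_check this.1 this.2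

theorem ev_code (c : ℕ) : Ev (code c) := ev_enc (fun _ => ev_evBasis) c

theorem code_inj_kernel : ((List.range 2048).all fun c =>
    Nat.beq c 0 || !inCode (enc evBasis c)) = true := by
  decide +kernel

/-- the permutation with a given packed form -/
noncomputable def perm (a : ℕ) : M24 :=
  open _root_.Classical in
  if h : ∃ σ : M24, Rep (σ : Equiv.Perm GolayPt) a then h.choose else 1

theorem perm_rep {a : ℕ} (h : isM24P a = true) : Rep (perm a : Equiv.Perm GolayPt) a := by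
  obtain ⟨σ, hσ, hr⟩ := exists_rep_M24 h
  have he : ∃ σ : M24, Rep (σ : Equiv.Perm GolayPt) a := ⟨⟨σ, hσ⟩, hr⟩
  rw [perm, dif_pos he]
  exact he.choose_spec

theorem perm_eq {σ : M24} {a : ℕ} (h : Rep (σ : Equiv.Perm GolayPt) a) : perm a = σ := by
  have he : ∃ σ : M24, Rep (σ : Equiv.Perm GolayPt) a := ⟨σ, h⟩
  rw [perm, dif_pos he]
  exact Subtype.ext (he.choose_spec.inj h)

/-- the listed Sylow 2-subgroup inside `M24` -/
def sylM : Subgroup M24 := Subgp.sylS.subgroupOf M24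

theorem mem_sylM {σ : M24} : σ ∈ sylM ↔ (σ : Equiv.Perm GolayPt) ∈ genGroup syl2Gens := Iff.rfl

theorem natCard_sylM : Nat.card sylM = 1024 := by
  rw [sylM, Nat.card_congr (Subgroup.subgroupOfEquivOfLe Subgp.sylS_le).toEquiv, Subgp.natCard_sylS]

end CfsgLib.Spor.JankoFourTen

namespace CfsgLib.Spor.JankoFourCentral.Eleven

open Cfsg CfsgLib.Spor CfsgLib.Spor.JankoFourCentral CfsgLib.Spor.JankoFourTen CfsgLib.Base
open scoped Pointwise symmDiff

variable {G : Type*} [Group G] [Finite G] {z : G} {A : Type*} [AddCommGroup A] (D : Eleven z A)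

omit [Finite G] in
/-- the vector with given coordinates -/
def cv (c : ℕ) : G := D.vm (code c)

omit [Finite G] in
theorem cv_mem (c : ℕ) : D.cv c ∈ D.V := D.vm_mem _

omit [Finite G] in
theorem cv_xor (a b : ℕ) : D.cv (a ^^^ b) = D.cv a * D.cv b := by
  rw [cv, code, enc_xor, D.vm_xor]; rfl

omit [Finite G] in
theorem cv_zero : D.cv 0 = 1 := by rw [cv, code, enc_zero, D.vm_zero]

omit [Finite G] in
theorem exists_cv {v : G} (hv : v ∈ D.V) : ∃ c < 2048, D.cv c = v := by
  obtain ⟨m, hm, rfl⟩ := D.exists_vm hv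
  obtain ⟨c, hc, rfl⟩ := exists_enc hm
  rw [evBasis_length] at hc
  exact ⟨c, hc, rfl⟩

omit [Finite G] in
theorem cv_inj {a b : ℕ} (ha : a < 2048) (hb : b < 2048) (h : D.cv a = D.cv b) : a = b := by
  have h1 : D.cv (a ^^^ b) = 1 := by
    rw [D.cv_xor, h]; exact D.vm_sq _
  have h2 := D.inCode_of_vm_eq_one (ev_code _) h1
  have hlt : a ^^^ b < 2048 := Nat.xor_lt_two_pow (n := 11) ha hb
  have h3 := List.all_eq_true.1 code_inj_kernel _ (List.mem_range.2 hlt)
  simp only [Bool.or_eq_true, Bool.not_eq_true', Nat.beq_eq] at h3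
  rcases h3 with h3 | h3
  · exact (Nat.xor_eq_zero_iff).1 h3
  · unfold code at h2
    rw [h2] at h3
    exact absurd h3 Bool.false_ne_true.symm

omit [Finite G] in
theorem dec_unique {u u' : G} {σ σ' : M24} (hu : u ∈ D.V) (hu' : u' ∈ D.V)
    (h : u * D.L σ = u' * D.L σ') : u = u' ∧ σ = σ' := by
  have h2 : D.L σ * (D.L σ')⁻¹ ∈ D.K ⊓ D.V := by
    refine Subgroup.mem_inf.2 ⟨mul_mem (D.L_mem_K _) (inv_mem (D.L_mem_K _)), ?_⟩
    rw [show D.L σ * (D.L σ')⁻¹ = u⁻¹ * u' * (u'⁻¹ * (u * D.L σ) * (D.L σ')⁻¹) by group, h,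
      show u'⁻¹ * (u' * D.L σ') * (D.L σ')⁻¹ = 1 by group, mul_one]
    exact mul_mem (inv_mem hu) hu'
  rw [D.inf, Subgroup.mem_bot, mul_inv_eq_one] at h2
  have := D.L_inj h2
  subst this
  exact ⟨mul_right_cancel h, rfl⟩

omit [Finite G] in
theorem mul_L {u u' : G} (σ σ' : M24) :
    u * D.L σ * (u' * D.L σ') = u * (D.L σ * u' * (D.L σ)⁻¹) * D.L (σ * σ') := by
  rw [D.L_mul]; group

/-- the extension of `V` by a group of permutations -/
def semi (H : Subgroup M24) : Subgroup G where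
  carrier := {x | ∃ v ∈ D.V, ∃ σ ∈ H, x = v * D.L σ}
  one_mem' := ⟨1, one_mem _, 1, one_mem _, by rw [D.L_one, one_mul]⟩
  mul_mem' := by
    rintro _ _ ⟨u, hu, σ, hσ, rfl⟩ ⟨u', hu', σ', hσ', rfl⟩
    exact ⟨_, mul_mem hu (D.L_conj_mem σ hu'), _, mul_mem hσ hσ', D.mul_L σ σ'⟩
  inv_mem' := by
    rintro _ ⟨u, hu, σ, hσ, rfl⟩
    exact ⟨D.L σ⁻¹ * u⁻¹ * (D.L σ⁻¹)⁻¹, D.L_conj_mem _ (inv_mem hu), σ⁻¹, inv_mem hσ, by simp only [D.L_inv]; group⟩

theorem natCard_semi (H : Subgroup M24) : Nat.card (D.semi H) = 2 ^ 11 * Nat.card H := by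
  let f : D.V × H → D.semi H := fun p => ⟨p.1 * D.L p.2, p.1, p.1.2, p.2, p.2.2, rfl⟩
  have hf : Function.Bijective f := by
    constructor
    · rintro ⟨u, σ⟩ ⟨u', σ'⟩ h
      obtain ⟨h1, h2⟩ := D.dec_unique u.2 u'.2 (congrArg Subtype.val h)
      exact Prod.ext (Subtype.ext h1) (Subtype.ext h2)
    · rintro ⟨x, u, hu, σ, hσ, rfl⟩
      exact ⟨(⟨u, hu⟩, ⟨σ, hσ⟩), rfl⟩
  rw [← Nat.card_eq_of_bijective f hf, Nat.card_prod, D.card]

theorem V_le_semi (H : Subgroup M24) : D.V ≤ D.semi H := fun v hv =>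
  ⟨v, hv, 1, one_mem _, by rw [D.L_one, mul_one]⟩

theorem semi_le (H : Subgroup M24) : D.semi H ≤ Subgroup.normalizer (D.V : Set G) := by
  rintro _ ⟨u, hu, σ, -, rfl⟩
  exact mul_mem (Subgroup.le_normalizer hu) (D.L_mem σ)

theorem semi_top : D.semi ⊤ = Subgroup.normalizer (D.V : Set G) := by
  refine le_antisymm (D.semi_le ⊤) fun g hg => ?_
  obtain ⟨v, hv, σ, rfl⟩ := D.decompose hg
  exact ⟨v, hv, σ, trivial, rfl⟩

/-- the distinguished Sylow 2-subgroup -/
def sylT : Subgroup G := D.semi sylM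

theorem natCard_sylT : Nat.card D.sylT = 2 ^ 21 := by
  rw [sylT, D.natCard_semi, natCard_sylM]; norm_num

/-- every 2-subgroup is conjugate into the distinguished Sylow subgroup -/
theorem exists_conj_le_sylT {P : Subgroup G} (hP : IsPGroup 2 P) :
    ∃ g : G, ∀ x ∈ P, g * x * g⁻¹ ∈ D.sylT := by
  obtain ⟨T1, hT1⟩ := (IsPGroup.of_card D.natCard_sylT).exists_le_sylow
  have hV : D.V ≤ (T1 : Subgroup G) := (D.V_le_semi _).trans hT1
  have hN : (T1 : Subgroup G) ≤ Subgroup.normalizer (D.V : Set G) := by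
    intro t ht
    refine D.mem_normalizer_of_map (D.eq_conj_of_le T1 t hV ?_)
    rintro _ ⟨v, hv, rfl⟩
    exact mul_mem (mul_mem ht (hV hv)) (inv_mem ht)
  have heq : D.sylT = (T1 : Subgroup G) := by
    refine Subgroup.eq_of_le_of_card_ge hT1 ?_
    have hd := Subgroup.card_dvd_of_le hN
    rw [← D.semi_top, D.natCard_semi, Subgroup.card_top, natCard_M24] at hd
    obtain ⟨n, hn⟩ := IsPGroup.iff_card.1 T1.2
    rw [hn] at hd ⊢
    rw [D.natCard_sylT]
    refine Nat.pow_le_pow_right (by norm_num) ?_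
    by_contra hlt
    have h22 : (2 : ℕ) ^ 22 ∣ 2 ^ 11 * 244823040 :=
      (pow_dvd_pow 2 (by omega : 22 ≤ n)).trans hd
    norm_num at h22
  obtain ⟨S, hS⟩ := hP.exists_le_sylow
  obtain ⟨g, hg⟩ := MulAction.exists_smul_eq G S T1
  refine ⟨g, fun x hx => ?_⟩
  rw [heq, ← hg, Sylow.coe_subgroup_smul]
  exact ⟨x, hS hx, rfl⟩

end CfsgLib.Spor.JankoFourCentral.Eleven
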