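import Cfsg.Agent.Lib.Spor.JankoFourTen.CensusMask

/-!
Elementary abelian subgroups of order `2^10` in the distinguished Sylow 2-subgroup: either inside
`V`, or with image the pointwise stabiliser of the octad and meeting `V` in its fixed space.
-/

set_option autoImplicit false
set_option maxRecDepth 100000

namespace CfsgLib.Spor.JankoFourTen

open Cfsg CfsgLib.Spor CfsgLib.Spor.JankoFourCentral
open scoped Pointwise symmDiff

theorem one_rep : Rep ((1 : M24) : Equiv.Perm GolayPt) idP := rep_one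

theorem compP_eq_idP {σ τ : Equiv.Perm GolayPt} {a b : ℕ} (h : Rep σ a) (h' : Rep τ b)
    (e : σ * τ = 1) : compP a b = idP := by
  have h2 : compP idP idP = idP := by decide +kernel
  rw [h.compP_eq h', e, ← mul_one (1 : Equiv.Perm GolayPt), ← rep_one.compP_eq rep_one]
  exact h2

theorem exists_ip {σ : M24} (hσ : σ ∈ sylM) (hsq : σ * σ = 1) (hne : σ ≠ 1) :
    ∃ i < 191, perm (ip i) = σ := by
  obtain ⟨k, hk, hr⟩ := listed_complete syl2_listed hσ
  have h := List.all_eq_true.1 inv_check.2.2 k (List.mem_range.2 hk)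
  simp only [Bool.or_eq_true, Bool.not_eq_true', List.any_eq_true] at h
  rcases h with (h | h) | ⟨x, hx, h⟩
  · rw [← Bool.not_eq_true, Nat.beq_eq] at h
    exact absurd (compP_eq_idP hr hr (congrArg Subtype.val hsq)) h
  · refine absurd (Subtype.ext ?_) hne
    have h1 : Rep ((σ : Equiv.Perm GolayPt) * 1) (compP (getT 120 syl2Tbl k) idP) := hr.mul rep_one
    rw [mul_one, Nat.eq_of_beq_eq_true h] at h1
    exact h1.inj rep_one
  · obtain ⟨i, hi, rfl⟩ := List.getElem_of_mem hx
    refine ⟨i, inv_check.1 ▸ hi, perm_eq ?_⟩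
    rw [ip, List.getD_eq_getElem _ _ hi, ← Nat.eq_of_beq_eq_true h]
    exact hr

theorem pT_half {i j : ℕ} (hi : i < 191) (hj : j ≤ i) :
    pT i j = pT j i ∧
    ((pT i j = 255 ∧ (i = j ∨ perm (ip i) * perm (ip j) ≠ perm (ip j) * perm (ip i))) ∨
      (pT i j < 191 ∧ perm (ip i) * perm (ip j) = perm (ip (pT i j)))) := by
  obtain ⟨hri, -, -⟩ := ip_facts hi
  obtain ⟨hrj, -, -⟩ := ip_facts (lt_of_le_of_lt hj hi)
  have h := List.all_eq_true.1 (List.all_eq_true.1 prod_check i (List.mem_range.2 hi)) j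
    (List.mem_range.2 (by omega))
  simp only [Bool.and_eq_true, Nat.beq_eq] at h
  refine ⟨h.1, ?_⟩
  cases hb : Nat.beq (pT i j) 255
  · rw [hb] at h
    simp only [cond_false, Bool.and_eq_true, Nat.blt_eq, List.all_eq_true, List.mem_range,
      Nat.beq_eq] at h
    obtain ⟨-, hlt, hp⟩ := h
    obtain ⟨hrp, -, -⟩ := ip_facts hlt
    refine Or.inr ⟨hlt, Subtype.ext (Equiv.ext fun p => idx_injective ?_)⟩
    have := hp (idx p) (idx_lt p)
    rwa [hrj.get, hri.get, hrp.get] at this
  · rw [hb] at h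
    refine Or.inl ⟨Nat.eq_of_beq_eq_true hb, ?_⟩
    simp only [cond_true, Bool.or_eq_true, Nat.beq_eq, List.any_eq_true, List.mem_range,
      Bool.not_eq_true'] at h
    rcases h.2 with h | ⟨p, hp, h⟩
    · exact Or.inl h
    · refine Or.inr fun e => ?_
      rw [← Bool.not_eq_true, Nat.beq_eq, hrj p hp, hri p hp, hri.get, hrj.get] at h
      exact h (congrArg idx (congrArg (fun s : M24 => (s : Equiv.Perm GolayPt) (pt p)) e))

theorem pT_prod {i j : ℕ} (hi : i < 191) (hj : j < 191)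
    (hc : perm (ip i) * perm (ip j) = perm (ip j) * perm (ip i))
    (hne : perm (ip i) ≠ perm (ip j)) :
    pT i j < 191 ∧ perm (ip i) * perm (ip j) = perm (ip (pT i j)) := by
  rcases le_or_gt j i with h | h
  · rcases (pT_half hi h).2 with ⟨-, e | e⟩ | h'
    exacts [absurd (congrArg (fun k => perm (ip k)) e) hne, absurd hc e, h']
  · obtain ⟨hs, h'⟩ := pT_half hj h.le
    rcases h' with ⟨-, e | e⟩ | h'
    exacts [absurd e (by omega), absurd hc.symm e, ⟨hs ▸ h'.1, by rw [hc, h'.2, hs]⟩]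

theorem testBit_aboveMask {s t : ℕ} (h : s < t) (ht : t < 191) :
    (aboveMask s).testBit t = true := by
  have key : ((List.range 191).all fun s => (List.range 191).all fun t =>
      !Nat.blt s t || (aboveMask s).testBit t) = true := by decide +kernel
  have := List.all_eq_true.1 (List.all_eq_true.1 key s (List.mem_range.2 (by omega))) t
    (List.mem_range.2 ht)
  simpa [show Nat.blt s t = true by rw [Nat.blt_eq]; exact h] using this

theorem prodsK_spec (s : ℕ) : ∀ (r acc : List ℕ) (k : List ℕ → Bool),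
    prodsK s r acc k = k ((r.map fun c => pT c s).reverse ++ acc)
  | [], acc, k => by simp [prodsK]
  | c :: r, acc, k => by rw [prodsK, force_eq, prodsK_spec s r]; simp

theorem goodK_spec : ∀ (r : List ℕ) (g : ℕ) (k : ℕ → Bool),
    goodK r g k = k (r.foldl (fun g c => g &&& gT.getD c 0) g)
  | [], g, k => rfl
  | c :: r, g, k => by rw [goodK, force_eq, goodK_spec r]; rfl

theorem testBit_foldl (t : ℕ) : ∀ (r : List ℕ) (g : ℕ), g.testBit t = true →
    (∀ c ∈ r, (gT.getD c 0).testBit t = true) →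
    (r.foldl (fun g c => g &&& gT.getD c 0) g).testBit t = true
  | [], _, h, _ => h
  | c :: r, g, h, h' => testBit_foldl t r _
      (by rw [Nat.testBit_and, h, h' c List.mem_cons_self]; rfl)
      fun c hc => h' c (List.mem_cons_of_mem _ hc)

theorem filtK_spec (g : ℕ) : ∀ (r acc : List ℕ) (k : List ℕ → Bool),
    filtK g r acc k = k ((r.filter g.testBit).reverse ++ acc)
  | [], acc, k => by simp [filtK]
  | t :: r, acc, k => by
    rw [filtK, force_eq]
    cases h : g.testBit t <;> simp [h, filtK_spec g r]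

theorem rootOK_all {s : ℕ} (hs : s < 191) : rootOK s = true := by
  have key : ∀ a n : ℕ, rootsOK a n = true → a ≤ s → s < a + n → rootOK s = true := by
    intro a n h h1 h2
    rw [rootsOK, List.all_map, List.all_eq_true] at h
    have := h (s - a) (List.mem_range.2 (by omega))
    rwa [Function.comp_apply, Nat.add_sub_cancel' h1] at this
  rcases lt_or_ge s 3 with h | h
  · exact key _ _ census_check_0 (by omega) (by omega)
  rcases lt_or_ge s 8 with h | h
  · exact key _ _ census_check_1 (by omega) (by omega)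
  rcases lt_or_ge s 14 with h | h
  · exact key _ _ census_check_2 (by omega) (by omega)
  rcases lt_or_ge s 20 with h | h
  · exact key _ _ census_check_3 (by omega) (by omega)
  rcases lt_or_ge s 30 with h | h
  · exact key _ _ census_check_4 (by omega) (by omega)
  rcases lt_or_ge s 40 with h | h
  · exact key _ _ census_check_5 (by omega) (by omega)
  rcases lt_or_ge s 70 with h | h
  · exact key _ _ census_check_6 (by omega) (by omega)
  · exact key _ _ census_check_7 (by omega) (by omega)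

/-- the element is trivial or one of the listed involutions -/
def InC (C : List ℕ) (σ : M24) : Prop := σ = 1 ∨ ∃ c ∈ C, perm (ip c) = σ

/-- a commutative group of listed involutions fixing many codes is the stabiliser of the octad -/
theorem leaf_of_census (S : Finset M24) (F : Finset ℕ)
    (hone : (1 : M24) ∈ S) (hmem : ∀ σ ∈ S, σ ∈ sylM)
    (hmul : ∀ σ ∈ S, ∀ τ ∈ S, σ * τ ∈ S) (hcomm : ∀ σ ∈ S, ∀ τ ∈ S, σ * τ = τ * σ)
    (hsq : ∀ σ ∈ S, σ * σ = 1) (hlt : ∀ c ∈ F, c < 2048)
    (hfix : ∀ i < 191, perm (ip i) ∈ S → ∀ c ∈ F,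
      inCode (code c ^^^ actP (ip i) (code c)) = true)
    (hbig : 1024 ≤ S.card * F.card) :
    S = {1} ∨ ((∀ σ ∈ S, σ = 1 ∨ ∃ i ∈ eIdx, perm (ip i) = σ) ∧ S.card = 16 ∧ F.card = 64 ∧
      ∀ c ∈ F, wMask.testBit c = true) := by
  classical
  have hidx : ∀ σ ∈ S, σ ≠ 1 → ∃ i < 191, perm (ip i) = σ := fun σ hσ hne =>
    exists_ip (hmem σ hσ) (hsq σ hσ) hne
  have hfun : ∀ i < 191, perm (ip i) ∈ S → ∀ e ∈ cfOf i, ∀ c ∈ F,
      (funMask e.2).testBit c = true := fun i hi hS e he c hc =>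
    funMask_fixed hi he (hlt c hc) (hfix i hi hS c hc)
  -- a node containing the whole group
  have hleaf : ∀ C m d, okC C m d = true → Inv F m d → (∀ σ ∈ S, InC C σ) →
      S = {1} ∨ ((∀ σ ∈ S, σ = 1 ∨ ∃ i ∈ eIdx, perm (ip i) = σ) ∧ S.card = 16 ∧ F.card = 64 ∧
        ∀ c ∈ F, wMask.testBit c = true) := by
    intro C m d hok hI hall
    have hsub : S ⊆ insert 1 (C.toFinset.image fun c => perm (ip c)) := by
      intro σ hσ
      rcases hall σ hσ with rfl | ⟨c, hc, rfl⟩
      · exact Finset.mem_insert_self _ _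
      · exact Finset.mem_insert_of_mem (Finset.mem_image.2 ⟨c, List.mem_toFinset.2 hc, rfl⟩)
    have hS : S.card ≤ C.length + 1 :=
      le_trans (Finset.card_le_card hsub) (le_trans (Finset.card_insert_le _ _)
        (Nat.succ_le_succ (le_trans Finset.card_image_le (List.toFinset_card_le C))))
    have hF : F.card ≤ ((Finset.range 2048).filter fun a => m.testBit a = true).card :=
      Finset.card_le_card fun c hc => Finset.mem_filter.2 ⟨Finset.mem_range.2 (hlt c hc), hI.mem c hc⟩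
    simp only [okC, Bool.or_eq_true, Bool.and_eq_true, Nat.blt_eq, Nat.beq_eq] at hok
    rcases hok with (hok | hok) | ⟨⟨hlen, hm⟩, hall'⟩
    · left
      refine Finset.eq_singleton_iff_unique_mem.2 ⟨hone, fun σ hσ => ?_⟩
      rcases hall σ hσ with rfl | ⟨c, hc, -⟩
      · rfl
      · rw [List.length_eq_zero_iff.1 hok] at hc; exact absurd hc List.not_mem_nil
    · have := Nat.mul_le_mul hS (hF.trans hI.card)
      omega
    · right
      have hW : ((Finset.range 2048).filter fun a => wMask.testBit a = true).card ≤ 64 := by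
        decide +kernel
      rw [hm] at hF hI
      refine ⟨fun σ hσ => ?_, ?_, ?_, hI.mem⟩
      · rcases hall σ hσ with h | ⟨c, hc, h⟩
        · exact Or.inl h
        · have := List.all_eq_true.1 hall' c hc
          simp only [List.any_eq_true, Nat.beq_eq] at this
          obtain ⟨x, hx, rfl⟩ := this
          exact Or.inr ⟨_, hx, h⟩
      · have hS' : S.card ≤ 16 := by omega
        have := Nat.mul_le_mul (le_refl S.card) (hF.trans hW)
        omega
      · have hS' : S.card ≤ 16 := by omega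
        have := Nat.mul_le_mul hS' (le_refl F.card)
        omega
  -- descending from a node
  have hmain : ∀ n C m d cand, chk n C m d cand = true → Inv F m d →
      (∀ c ∈ C, c < 191 ∧ perm (ip c) ∈ S) → (∀ σ τ, InC C σ → InC C τ → InC C (σ * τ)) →
      (∀ t < 191, perm (ip t) ∈ S → ¬ InC C (perm (ip t)) → (∀ c ∈ C, t < pT c t) → t ∈ cand) →
      S = {1} ∨ ((∀ σ ∈ S, σ = 1 ∨ ∃ i ∈ eIdx, perm (ip i) = σ) ∧ S.card = 16 ∧ F.card = 64 ∧
        ∀ c ∈ F, wMask.testBit c = true) := by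
    intro n
    induction n with
    | zero => intro C m d cand h; simp [chk] at h
    | succ n ih =>
      intro C m d cand h hI hC hgrp hcand
      rw [chk, Bool.and_eq_true] at h
      by_cases hall : ∀ σ ∈ S, InC C σ
      · exact hleaf C m d h.1 hI hall
      have hex : ∃ t, t < 191 ∧ perm (ip t) ∈ S ∧ ¬ InC C (perm (ip t)) := by
        push Not at hall
        obtain ⟨σ, hσ, hn⟩ := hall
        obtain ⟨i, hi, rfl⟩ := hidx σ hσ fun e => hn (Or.inl e)
        exact ⟨i, hi, hσ, hn⟩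
      obtain ⟨s, ⟨hs, hsS, hsC⟩, hmin⟩ :
          ∃ s, (s < 191 ∧ perm (ip s) ∈ S ∧ ¬ InC C (perm (ip s))) ∧
            ∀ t < s, ¬ (t < 191 ∧ perm (ip t) ∈ S ∧ ¬ InC C (perm (ip t))) :=
        ⟨Nat.find hex, Nat.find_spec hex, fun t ht => Nat.find_min hex ht⟩
      obtain ⟨hrs, hs2, hs1⟩ := ip_facts hs
      have hprod : ∀ c ∈ C, pT c s < 191 ∧ perm (ip c) * perm (ip s) = perm (ip (pT c s)) :=
        fun c hc => pT_prod (hC c hc).1 hs (hcomm _ (hC c hc).2 _ hsS)
          fun e => hsC (Or.inr ⟨c, hc, e⟩)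
      have hlow : ∀ c ∈ C, s < pT c s := by
        intro c hc
        obtain ⟨hp, hpe⟩ := hprod c hc
        have hnC : ¬ InC C (perm (ip (pT c s))) := fun hin => by
          have := hgrp _ _ (Or.inr ⟨c, hc, rfl⟩) hin
          rw [← hpe, ← mul_assoc, (ip_facts (hC c hc).1).2.1, one_mul] at this
          exact hsC this
        rcases lt_trichotomy (pT c s) s with hlt' | he | hgt
        · exact absurd ⟨hp, hpe ▸ hmul _ (hC c hc).2 _ hsS, hnC⟩ (hmin _ hlt')
        · rw [he] at hpe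
          exact absurd (mul_eq_right.1 hpe) (ip_facts (hC c hc).1).2.2
        · exact hgt
      have h2 := List.all_eq_true.1 h.2 s (hcand s hs hsS hsC hlow)
      rw [prodsK_spec, List.append_nil] at h2
      set ps := (C.map fun c => pT c s).reverse with hps
      obtain ⟨m', d', hI', h3⟩ := stepK_spec _ _ _ _ hI (hfun s hs hsS) h2
      rw [goodK_spec, filtK_spec, List.append_nil] at h3
      have hnew : ∀ σ, InC (C ++ s :: ps) σ ↔ InC C σ ∨ InC C (σ * perm (ip s)) := by
        intro σ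
        constructor
        · rintro (h | ⟨c, hc, rfl⟩)
          · exact Or.inl (Or.inl h)
          · simp only [List.mem_append, List.mem_cons, hps, List.mem_reverse, List.mem_map] at hc
            rcases hc with hc | rfl | ⟨c', hc', rfl⟩
            · exact Or.inl (Or.inr ⟨c, hc, rfl⟩)
            · exact Or.inr (Or.inl hs2)
            · exact Or.inr (Or.inr ⟨c', hc', by
                rw [← (hprod c' hc').2, mul_assoc, hs2, mul_one]⟩)
        · rintro (h | h)
          · exact h.imp id fun ⟨c, hc, e⟩ => ⟨c, List.mem_append_left _ hc, e⟩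
          · have e : σ = σ * perm (ip s) * perm (ip s) := by rw [mul_assoc, hs2, mul_one]
            rcases h with h | ⟨c, hc, hce⟩
            · refine Or.inr ⟨s, by simp, ?_⟩
              rw [e, h, one_mul]
            · refine Or.inr ⟨pT c s, by
                simp only [List.mem_append, List.mem_cons, hps, List.mem_reverse, List.mem_map]
                exact Or.inr (Or.inr ⟨c, hc, rfl⟩), ?_⟩
              rw [← (hprod c hc).2, hce, ← e]
      have hinS : ∀ σ, InC C σ → σ ∈ S := by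
        rintro _ (rfl | ⟨c, hc, rfl⟩)
        exacts [hone, (hC c hc).2]
      refine ih _ _ _ _ h3 hI' ?_ ?_ ?_
      · intro c hc
        simp only [List.mem_append, List.mem_cons, hps, List.mem_reverse, List.mem_map] at hc
        rcases hc with hc | rfl | ⟨c', hc', rfl⟩
        exacts [hC c hc, ⟨hs, hsS⟩,
          ⟨(hprod c' hc').1, (hprod c' hc').2 ▸ hmul _ (hC c' hc').2 _ hsS⟩]
      · intro σ τ hσ hτ
        have hmS : ∀ σ, InC (C ++ s :: ps) σ → σ ∈ S := fun σ h => by
          rcases (hnew σ).1 h with h | h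
          · exact hinS σ h
          · have := hmul _ (hinS _ h) _ hsS
            rwa [mul_assoc, hs2, mul_one] at this
        have hcs : perm (ip s) * τ = τ * perm (ip s) := hcomm _ hsS _ (hmS τ hτ)
        rw [hnew]
        rcases (hnew σ).1 hσ with hσ' | hσ' <;> rcases (hnew τ).1 hτ with hτ' | hτ'
        · exact Or.inl (hgrp _ _ hσ' hτ')
        · exact Or.inr (by rw [mul_assoc]; exact hgrp _ _ hσ' hτ')
        · refine Or.inr ?_
          rw [mul_assoc, ← hcs, ← mul_assoc]; exact hgrp _ _ hσ' hτ'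
        · refine Or.inl ?_
          have := hgrp _ _ hσ' hτ'
          rwa [mul_assoc σ, ← mul_assoc (perm (ip s)), hcs, mul_assoc τ, hs2, mul_one] at this
      · intro t ht htS htC htlt
        have htC' : ¬ InC C (perm (ip t)) := fun h => htC ((hnew _).2 (Or.inl h))
        have htc : t ∈ cand := hcand t ht htS htC' fun c hc => htlt c (List.mem_append_left _ hc)
        have hst : s < t := by
          rcases lt_trichotomy t s with h | rfl | h
          · exact absurd ⟨ht, htS, htC'⟩ (hmin t h)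
          · exact absurd (Or.inr ⟨t, by simp, rfl⟩) htC
          · exact h
        rw [List.mem_reverse, List.mem_filter]
        refine ⟨htc, testBit_foldl t _ _ (testBit_aboveMask hst ht) fun c hc => ?_⟩
        have hcC : c ∈ C ++ s :: ps := List.mem_append_right _ hc
        have hc' : c < 191 ∧ perm (ip c) ∈ S := by
          simp only [List.mem_cons, hps, List.mem_reverse, List.mem_map] at hc
          rcases hc with rfl | ⟨c', hc'', rfl⟩
          exacts [⟨hs, hsS⟩, ⟨(hprod c' hc'').1, (hprod c' hc'').2 ▸ hmul _ (hC c' hc'').2 _ hsS⟩]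
        have hg := List.all_eq_true.1 (List.all_eq_true.1 gT_check c (List.mem_range.2 hc'.1)) t
          (List.mem_range.2 ht)
        rw [beq_iff_eq] at hg
        rw [hg, Bool.and_eq_true, Nat.blt_eq, Nat.blt_eq]
        exact ⟨htlt c hcC, (pT_prod hc'.1 ht (hcomm _ hc'.2 _ htS)
          fun e => htC (Or.inr ⟨c, hcC, e⟩)).1⟩
  by_cases hall : ∀ σ ∈ S, σ = 1
  · exact Or.inl (Finset.eq_singleton_iff_unique_mem.2 ⟨hone, hall⟩)
  have hex : ∃ t, t < 191 ∧ perm (ip t) ∈ S := by
    push Not at hall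
    obtain ⟨σ, hσ, hn⟩ := hall
    obtain ⟨i, hi, rfl⟩ := hidx σ hσ hn
    exact ⟨i, hi, hσ⟩
  obtain ⟨s, ⟨hs, hsS⟩, hmin⟩ : ∃ s, (s < 191 ∧ perm (ip s) ∈ S) ∧
      ∀ t < s, ¬ (t < 191 ∧ perm (ip t) ∈ S) :=
    ⟨Nat.find hex, Nat.find_spec hex, fun t ht => Nat.find_min hex ht⟩
  obtain ⟨hrs, hs2, hs1⟩ := ip_facts hs
  obtain ⟨m', d', hI', h3⟩ := stepK_spec _ _ _ _ (inv_full hlt) (hfun s hs hsS) (rootOK_all hs)
  rw [goodK_spec, filtK_spec, List.append_nil] at h3
  refine hmain _ _ _ _ _ h3 hI' (by simpa using ⟨hs, hsS⟩) ?_ ?_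
  · rintro σ τ (rfl | ⟨c, hc, rfl⟩) (rfl | ⟨c', hc', rfl⟩)
    · exact Or.inl (one_mul 1)
    · exact Or.inr ⟨c', hc', (one_mul _).symm⟩
    · exact Or.inr ⟨c, hc, (mul_one _).symm⟩
    · rw [List.mem_singleton] at hc hc'
      rw [hc, hc']
      exact Or.inl hs2
  · intro t ht htS htC htlt
    have hst : s < t := by
      rcases lt_trichotomy t s with h | rfl | h
      · exact absurd ⟨ht, htS⟩ (hmin t h)
      · exact absurd (Or.inr ⟨t, by simp, rfl⟩) htC
      · exact h
    rw [List.mem_reverse, List.mem_filter]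
    refine ⟨List.mem_range.2 ht, testBit_foldl t _ _ (testBit_aboveMask hst ht) fun c hc => ?_⟩
    rw [List.mem_singleton] at hc
    subst hc
    have hg := List.all_eq_true.1 (List.all_eq_true.1 gT_check c (List.mem_range.2 hs)) t
      (List.mem_range.2 ht)
    rw [beq_iff_eq] at hg
    rw [hg, Bool.and_eq_true, Nat.blt_eq, Nat.blt_eq]
    exact ⟨htlt c (by simp), (pT_prod hs ht (hcomm _ hsS _ htS)
      fun e => htC (Or.inr ⟨c, by simp, e⟩)).1⟩

end CfsgLib.Spor.JankoFourTen

namespace CfsgLib.Spor.JankoFourCentral.Eleven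

open Cfsg CfsgLib.Spor CfsgLib.Spor.JankoFourCentral CfsgLib.Spor.JankoFourTen
open scoped Pointwise symmDiff

variable {G : Type*} [Group G] [Finite G] {z : G} {A : Type*} [AddCommGroup A] (D : Eleven z A)

/-- the elementary abelian subgroups of order `2^10` of the Sylow subgroup -/
theorem census {B : Subgroup G} (hB : B ≤ D.sylT) (he : Cfsg.IsElementaryAbelian 2 B)
    (hc : Nat.card B = 2 ^ 10) :
    B ≤ D.V ∨
      ((∀ x ∈ B, ∃ v ∈ D.V, ∃ b < 16, x = v * D.L (perm (eList.getD b 0))) ∧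
       (∀ b < 16, ∃ v ∈ D.V, v * D.L (perm (eList.getD b 0)) ∈ B) ∧
       (∀ a < 64, D.cv (enc wCodes a) ∈ B) ∧
       ∀ x ∈ B, x ∈ D.V → ∃ a < 64, x = D.cv (enc wCodes a)) := by
  classical
  let _ : Fintype M24 := Fintype.ofFinite _
  obtain ⟨⟨hcm⟩, hexp⟩ := he
  have hcomm : ∀ x ∈ B, ∀ y ∈ B, x * y = y * x := fun x hx y hy =>
    congrArg Subtype.val (hcm.comm ⟨x, hx⟩ ⟨y, hy⟩)
  have hsqB : ∀ x ∈ B, x * x = 1 := fun x hx => by rw [← pow_two]; exact hexp x hx
  set S : Finset M24 := Finset.univ.filter fun σ => ∃ v ∈ D.V, v * D.L σ ∈ B with hS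
  set F : Finset ℕ := (Finset.range 2048).filter fun c => D.cv c ∈ B with hF
  have hmemS : ∀ {σ : M24}, σ ∈ S ↔ ∃ v ∈ D.V, v * D.L σ ∈ B := fun {σ} => by simp [hS]
  have hmemF : ∀ {c : ℕ}, c ∈ F ↔ c < 2048 ∧ D.cv c ∈ B := fun {c} => by simp [hF]
  have hdec : ∀ x ∈ B, ∃ v ∈ D.V, ∃ σ ∈ sylM, x = v * D.L σ := fun x hx => hB hx
  have hone : (1 : M24) ∈ S := hmemS.2 ⟨1, one_mem _, by rw [D.L_one, one_mul]; exact one_mem _⟩
  have hmul : ∀ σ ∈ S, ∀ τ ∈ S, σ * τ ∈ S := fun σ hσ τ hτ => by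
    obtain ⟨u, hu, hu'⟩ := hmemS.1 hσ
    obtain ⟨w, hw, hw'⟩ := hmemS.1 hτ
    refine hmemS.2 ⟨_, mul_mem hu (D.L_conj_mem σ hw), ?_⟩
    rw [← D.mul_L σ τ]
    exact mul_mem hu' hw'
  have hcS : ∀ σ ∈ S, ∀ τ ∈ S, σ * τ = τ * σ := fun σ hσ τ hτ => by
    obtain ⟨u, hu, hu'⟩ := hmemS.1 hσ
    obtain ⟨w, hw, hw'⟩ := hmemS.1 hτ
    have h := hcomm _ hu' _ hw'
    rw [D.mul_L, D.mul_L] at h
    exact (D.dec_unique (mul_mem hu (D.L_conj_mem σ hw)) (mul_mem hw (D.L_conj_mem τ hu)) h).2
  have hsS : ∀ σ ∈ S, σ * σ = 1 := fun σ hσ => by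
    obtain ⟨u, hu, hu'⟩ := hmemS.1 hσ
    have h := hsqB _ hu'
    rw [D.mul_L] at h
    exact (D.dec_unique (mul_mem hu (D.L_conj_mem σ hu)) (one_mem _)
      (h.trans (by rw [D.L_one, one_mul] : (1 : G) = 1 * D.L 1))).2
  have hfix : ∀ i < 191, perm (ip i) ∈ S → ∀ c ∈ F,
      inCode (code c ^^^ actP (ip i) (code c)) = true := by
    intro i hi hS' c hc'
    obtain ⟨u, hu, hu'⟩ := hmemS.1 hS'
    obtain ⟨hr, -, -⟩ := ip_facts hi
    have h := hcomm _ hu' _ (hmemF.1 hc').2
    have h1 : u * D.L (perm (ip i)) * D.cv c * (u * D.L (perm (ip i)))⁻¹ = D.cv c := by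
      rw [h, mul_inv_cancel_right]
    rw [show u * D.L (perm (ip i)) * D.cv c * (u * D.L (perm (ip i)))⁻¹ =
      u * (D.L (perm (ip i)) * D.cv c * (D.L (perm (ip i)))⁻¹) * u⁻¹ by group,
      D.V_comm hu (D.L_conj_mem _ (D.cv_mem c)), mul_inv_cancel_right, cv,
      D.L_vm hr (ev_code c)] at h1
    refine D.inCode_of_vm_eq_one ((ev_code c).xor (ev_of_rep hr (ev_code c))) ?_
    rw [D.vm_xor, h1, D.vm_sq]
  have hbig : 1024 ≤ S.card * F.card := by
    have hlift : ∀ σ : S, ∃ v ∈ D.V, v * D.L σ.1 ∈ B := fun σ => hmemS.1 σ.2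
    choose lift hlV hlB using hlift
    have key : ∀ x : B, ∃ σ : S, ∃ c ∈ F, (x : G) = D.cv c * (lift σ * D.L σ.1) := by
      rintro ⟨x, hx⟩
      obtain ⟨v, hv, σ, -, rfl⟩ := hdec x hx
      have hσ : σ ∈ S := hmemS.2 ⟨v, hv, hx⟩
      obtain ⟨c, hc', hce⟩ := D.exists_cv (mul_mem hv (inv_mem (hlV ⟨σ, hσ⟩)))
      refine ⟨⟨σ, hσ⟩, c, hmemF.2 ⟨hc', ?_⟩, by rw [hce]; group⟩
      rw [hce, show v * (lift ⟨σ, hσ⟩)⁻¹ = v * D.L σ * (lift ⟨σ, hσ⟩ * D.L σ)⁻¹ by group]
      exact mul_mem hx (inv_mem (hlB ⟨σ, hσ⟩))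
    choose fσ fc hfc hfe using key
    have hinj : Function.Injective fun x : B => ((fσ x, ⟨fc x, hfc x⟩) : S × F) := by
      intro x y h
      simp only [Prod.mk.injEq, Subtype.mk.injEq] at h
      exact Subtype.ext (by rw [hfe x, hfe y, h.1, h.2])
    have := Nat.card_le_card_of_injective _ hinj
    rw [hc, Nat.card_prod, Nat.card_eq_fintype_card, Nat.card_eq_fintype_card, Fintype.card_coe,
      Fintype.card_coe] at this
    simpa using this
  rcases leaf_of_census S F hone (fun σ hσ => by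
      obtain ⟨v, hv, hv'⟩ := hmemS.1 hσ
      obtain ⟨w, hw, τ, hτ, e⟩ := hdec _ hv'
      rw [(D.dec_unique hv hw e).2]; exact hτ)
    hmul hcS hsS (fun c hc => (hmemF.1 hc).1) hfix hbig with h | ⟨hE, hS16, hF64, hFW⟩
  · left
    intro x hx
    obtain ⟨v, hv, σ, -, rfl⟩ := hdec x hx
    have hσ : σ ∈ S := hmemS.2 ⟨v, hv, hx⟩
    rw [h, Finset.mem_singleton] at hσ
    rw [hσ, D.L_one, mul_one]
    exact hv
  · right
    obtain ⟨hW, -, -, -, hEl, hEi⟩ := wMask_check
    have hsub : S ⊆ (Finset.range 16).image fun b => perm (eList.getD b 0) := by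
      intro σ hσ
      rw [Finset.mem_image]
      rcases hE σ hσ with rfl | ⟨i, hi, rfl⟩
      · exact ⟨0, by simp, perm_eq (show Rep ((1 : M24) : Equiv.Perm GolayPt) _ by decide +kernel)⟩
      · have h := List.all_eq_true.1 hEi i hi
        simp only [Bool.and_eq_true, List.any_eq_true, Nat.beq_eq] at h
        obtain ⟨x, hx, hxe⟩ := h.2
        obtain ⟨b, hb, rfl⟩ := List.getElem_of_mem hx
        refine ⟨b, Finset.mem_range.2 (lt_of_lt_of_le hb (le_of_eq (by rfl))), ?_⟩
        rw [List.getD_eq_getElem _ _ hb, hxe]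
    have himg : S = (Finset.range 16).image fun b => perm (eList.getD b 0) :=
      Finset.eq_of_subset_of_card_le hsub (hS16 ▸ le_trans Finset.card_image_le (by simp))
    have hWsub : F ⊆ (Finset.range 64).image (enc wCodes) := by
      intro c hc'
      have h := List.all_eq_true.1 hW c (List.mem_range.2 (hmemF.1 hc').1)
      simp only [Bool.or_eq_true, Bool.not_eq_true', List.any_eq_true, List.mem_range,
        Nat.beq_eq] at h
      rcases h with h | ⟨a, ha, hae⟩
      · rw [hFW c hc'] at h; exact absurd h (by simp)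
      · exact Finset.mem_image.2 ⟨a, Finset.mem_range.2 ha, hae⟩
    have hFimg : F = (Finset.range 64).image (enc wCodes) :=
      Finset.eq_of_subset_of_card_le hWsub (hF64 ▸ le_trans Finset.card_image_le (by simp))
    refine ⟨fun x hx => ?_, fun b hb => ?_, fun a ha => ?_, fun x hx hxV => ?_⟩
    · obtain ⟨v, hv, σ, -, rfl⟩ := hdec x hx
      have hσ : σ ∈ S := hmemS.2 ⟨v, hv, hx⟩
      rw [himg, Finset.mem_image] at hσ
      obtain ⟨b, hb, rfl⟩ := hσ
      exact ⟨v, hv, b, Finset.mem_range.1 hb, rfl⟩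
    · exact hmemS.1 (himg ▸ Finset.mem_image.2 ⟨b, Finset.mem_range.2 hb, rfl⟩)
    · exact (hmemF.1 (hFimg ▸ Finset.mem_image.2 ⟨a, Finset.mem_range.2 ha, rfl⟩)).2
    · obtain ⟨c, hc', rfl⟩ := D.exists_cv hxV
      obtain ⟨a, ha, rfl⟩ := Finset.mem_image.1 (hFimg ▸ hmemF.2 ⟨hc', hx⟩)
      exact ⟨a, Finset.mem_range.1 ha, rfl⟩

end CfsgLib.Spor.JankoFourCentral.Eleven
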