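import Cfsg.Agent.Lib.Spor.Syl2
import Cfsg.Agent.Lib.Spor.JankoFourCentral.Checks
import Cfsg.Agent.Lib.Spor.JankoFourTen.Data

/-!
Kernel checks for the census of elementary abelian subgroups in the Sylow 2-subgroup `2^11` by the
listed Sylow 2-subgroup of `M24`.
-/

set_option autoImplicit false
set_option maxRecDepth 100000

namespace CfsgLib.Spor.JankoFourTen

open CfsgLib.Spor CfsgLib.Spor.JankoFourCentral

/-- a listed involution -/
def ip (i : ℕ) : ℕ := invL.getD i 0

/-- the index of the product of two commuting involutions -/
def pT (i j : ℕ) : ℕ := (prodT.getD (i / 16) 0 >>> (8 * (191 * (i % 16) + j))) &&& 255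

/-- all codes -/
def fullMask : ℕ := 2 ^ 2048 - 1

/-- the functionals of an involution -/
def cfOf (i : ℕ) : List (ℕ × ℕ) := cfT.getD i []

/-- the codes annihilated by one functional -/
def funMask (cf : ℕ) : ℕ := fullMask ^^^ enc xCols cf

/-- pass the numeral of a number on -/
def force {α : Sort*} : ℕ → (ℕ → α) → α
  | 0, k => k 0
  | n + 1, k => k (n + 1)

/-- cut down to the common fixed codes, lowering the bound at each proper step -/
def stepK : List (ℕ × ℕ) → ℕ → ℕ → (ℕ → ℕ → Bool) → Bool
  | [], m, d, k => k m d
  | e :: r, m, d, k => force (m &&& funMask e.2) fun n =>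
      bif Nat.beq n m then stepK r n d k else force (d - 1) fun d' => stepK r n d' k

/-- products with one involution -/
def prodsK (s : ℕ) : List ℕ → List ℕ → (List ℕ → Bool) → Bool
  | [], acc, k => k acc
  | c :: r, acc, k => force (pT c s) fun p => prodsK s r (p :: acc) k

/-- the candidates compatible with all given involutions -/
def goodK : List ℕ → ℕ → (ℕ → Bool) → Bool
  | [], g, k => k g
  | c :: r, g, k => force (g &&& gT.getD c 0) fun g' => goodK r g' k

/-- the bit set of the indices above one -/
def aboveMask (s : ℕ) : ℕ := (2 ^ 191 - 1) - (2 ^ (s + 1) - 1)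

/-- the surviving candidates -/
def filtK (g : ℕ) : List ℕ → List ℕ → (List ℕ → Bool) → Bool
  | [], acc, k => k acc
  | t :: r, acc, k => force t fun t' =>
      bif g.testBit t' then filtK g r (t' :: acc) k else filtK g r acc k

/-- the test at a node -/
def okC (C : List ℕ) (m d : ℕ) : Bool :=
  Nat.beq C.length 0 || Nat.blt ((C.length + 1) * 2 ^ d) 1024 ||
    (Nat.beq C.length 15 && Nat.beq m wMask && C.all fun i => eIdx.any (Nat.beq i))

/-- the search -/
def chk : ℕ → List ℕ → ℕ → ℕ → List ℕ → Bool
  | 0, _, _, _, _ => false
  | n + 1, C, m, d, cand => okC C m d && cand.all fun s =>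
      prodsK s C [] fun ps => stepK (cfOf s) m d fun m' d' =>
        goodK (s :: ps) (aboveMask s) fun g =>
          filtK g cand [] fun cand' => chk n (C ++ s :: ps) m' d' cand'

/-- the part of the search below one root -/
def rootOK (s : ℕ) : Bool :=
  stepK (cfOf s) fullMask 11 fun m d =>
    goodK [s] (aboveMask s) fun g => filtK g (List.range 191) [] fun cand => chk 11 [s] m d cand

/-- the part of the search below a range of roots -/
def rootsOK (a n : ℕ) : Bool := ((List.range n).map (a + ·)).all rootOK

theorem census_check_0 : rootsOK 0 3 = true := by decide +kernel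

theorem census_check_1 : rootsOK 3 5 = true := by decide +kernel

theorem census_check_2 : rootsOK 8 6 = true := by decide +kernel

theorem census_check_3 : rootsOK 14 6 = true := by decide +kernel

theorem census_check_4 : rootsOK 20 10 = true := by decide +kernel

theorem census_check_5 : rootsOK 30 10 = true := by decide +kernel

theorem census_check_6 : rootsOK 40 30 = true := by decide +kernel

theorem census_check_7 : rootsOK 70 121 = true := by decide +kernel

theorem prod_check : ((List.range 191).all fun i => (List.range (i + 1)).all fun j =>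
    Nat.beq (pT i j) (pT j i) &&
    bif Nat.beq (pT i j) 255 then Nat.beq i j || (List.range 24).any fun p =>
      !Nat.beq (getP (ip i) (getP (ip j) p)) (getP (ip j) (getP (ip i) p))
    else Nat.blt (pT i j) 191 && (List.range 24).all fun p =>
      Nat.beq (getP (ip i) (getP (ip j) p)) (getP (ip (pT i j)) p)) = true := by
  decide +kernel

theorem gT_check : ((List.range 191).all fun c => (List.range 191).all fun t =>
    (gT.getD c 0).testBit t == (Nat.blt t (pT c t) && Nat.blt (pT c t) 191)) = true := by
  decide +kernel

theorem inv_check : invL.length = 191 ∧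
    (invL.all fun a => isM24P a && Nat.beq (compP a a) idP && !Nat.beq (compP a idP) idP) = true ∧
    ((List.range 1024).all fun i =>
      !Nat.beq (compP (getT 120 syl2Tbl i) (getT 120 syl2Tbl i)) idP ||
        Nat.beq (compP (getT 120 syl2Tbl i) idP) idP ||
        invL.any (Nat.beq (getT 120 syl2Tbl i))) = true := by
  decide +kernel

theorem xCols_check : xCols.length = 11 ∧ evBasis.length = 11 ∧
    ((List.range 11).all fun j => (List.range 2048).all fun c =>
      (xCols.getD j 0).testBit c == c.testBit j) = true := by
  decide +kernel

theorem cf_check : ((List.range 191).all fun i => (cfOf i).all fun e => Nat.blt e.1 12 &&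
    (List.range 11).all fun j =>
      (pop ((golayBasis.getD e.1 0 ^^^ actP (ip i) (golayBasis.getD e.1 0)) &&& evBasis.getD j 0) % 2).beq
        ((enc xCols e.2).testBit (2 ^ j)).toNat) = true := by
  decide +kernel

theorem code_inj_check : ((List.range 2048).all fun c =>
    Nat.beq c 0 || !inCode (enc evBasis c)) = true := by
  decide +kernel

theorem wMask_check :
    ((List.range 2048).all fun c => !wMask.testBit c || (List.range 64).any fun a => Nat.beq (enc wCodes a) c) = true ∧
    wBasis.length = 6 ∧ wCodes.length = 6 ∧
    ((List.range 6).all fun j => Nat.blt (wCodes.getD j 0) 2048 &&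
      inCode (enc evBasis (wCodes.getD j 0) ^^^ wBasis.getD j 0)) = true ∧
    eIdx.length = 15 ∧ (eIdx.all fun i => Nat.blt i 191 && eList.any (Nat.beq (ip i))) = true := by
  decide +kernel

end CfsgLib.Spor.JankoFourTen
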