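import Cfsg.Agent.Lib.Spor.JankoFourTen.Basic
import Cfsg.Agent.Lib.Spor.JankoFourTen.CensusCheck

/-!
Sets of codes as bit masks: the fixed codes of an involution lie in its kernel masks, and a proper
closed subset has at most half as many elements.
-/

set_option autoImplicit false
set_option maxRecDepth 100000

namespace CfsgLib.Spor.JankoFourTen

open Cfsg CfsgLib.Spor CfsgLib.Spor.JankoFourCentral
open scoped Pointwise symmDiff

theorem force_eq {α : Sort*} (n : ℕ) (k : ℕ → α) : force n k = k n := by cases n <;> rfl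

/-- parity of the number of common bits -/
def par (m b : ℕ) : ℕ := pop (m &&& b) % 2

theorem natCast_par (m b : ℕ) : (par m b : ZMod 2) = ∑ p, word m p * word b p := by
  rw [par, ZMod.natCast_mod, natCast_pop_and]

theorem par_lt (m b : ℕ) : par m b < 2 := Nat.mod_lt _ (by norm_num)

theorem par_eq_of_cast {a b : ℕ} (ha : a < 2) (hb : b < 2) (h : (a : ZMod 2) = b) : a = b := by
  have := congrArg ZMod.val h
  rwa [ZMod.val_natCast, ZMod.val_natCast, Nat.mod_eq_of_lt ha, Nat.mod_eq_of_lt hb] at this

theorem par_xor_left (a b f : ℕ) : par (a ^^^ b) f = (par a f + par b f) % 2 := by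
  refine par_eq_of_cast (par_lt _ _) (Nat.mod_lt _ (by norm_num)) ?_
  simp [natCast_par, word_xor, add_mul, Finset.sum_add_distrib]

theorem par_xor_right (m a b : ℕ) : par m (a ^^^ b) = (par m a + par m b) % 2 := by
  refine par_eq_of_cast (par_lt _ _) (Nat.mod_lt _ (by norm_num)) ?_
  simp [natCast_par, word_xor, mul_add, Finset.sum_add_distrib]

theorem par_comm (a b : ℕ) : par a b = par b a := by rw [par, par, Nat.and_comm]

theorem toSet_and (x y : ℕ) : toSet (x &&& y) = toSet x ∩ toSet y := by
  ext p; simp [Nat.testBit_and]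

theorem par_actP {σ : Equiv.Perm GolayPt} {a : ℕ} (h : Rep σ a) (hs : σ * σ = 1) (m b : ℕ) :
    par (actP a m) b = par m (actP a b) := by
  rw [par, par, ← card_toSet, ← card_toSet, toSet_and, toSet_and, h.toSet_actP, h.toSet_actP]
  congr 1
  rw [← Finset.card_smul_finset σ (σ • toSet m ∩ toSet b), Finset.smul_finset_inter, smul_smul, hs,
    one_smul]

/-- a fixed code is orthogonal to every displacement of a code word -/
theorem par_fixed {σ : Equiv.Perm GolayPt} {a : ℕ} (h : Rep σ a) (hs : σ * σ = 1) {m : ℕ}
    (hm : inCode (m ^^^ actP a m) = true) {b : ℕ} (hb : b ∈ golayBasis) :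
    par m (b ^^^ actP a b) = 0 := by
  have h1 : par (m ^^^ actP a m) b = 0 := by
    simp only [inCode, List.all_eq_true, Nat.beq_eq] at hm
    exact hm b hb
  rw [par_xor_right, ← par_actP h hs, ← par_xor_left]
  exact h1

theorem xor_induction {P : ℕ → Prop} (h0 : P 0) (hb : ∀ j < 11, P (2 ^ j))
    (hx : ∀ a b, a < 2048 → b < 2048 → P a → P b → P (a ^^^ b)) {c : ℕ} (hc : c < 2048) : P c := by
  have key : ((List.range 2048).all fun c =>
      Nat.beq (enc ((List.range 11).map fun j => 2 ^ j) c) c) = true := by decide +kernel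
  have hx' : c ∈ spanList ((List.range 11).map fun j => 2 ^ j) := by
    rw [← Nat.eq_of_beq_eq_true (List.all_eq_true.1 key c (List.mem_range.2 hc))]
    exact enc_mem_spanList _ _
  refine (spanList_induction (P := fun m => m < 2048 ∧ P m) ⟨by norm_num, h0⟩ ?_ ?_ c hx').2
  · intro b hb'
    obtain ⟨j, hj, rfl⟩ := List.mem_map.1 hb'
    rw [List.mem_range] at hj
    exact ⟨Nat.pow_lt_pow_right (by norm_num) hj, hb j hj⟩
  · exact fun a b ha hb => ⟨Nat.xor_lt_two_pow (n := 11) ha.1 hb.1, hx a b ha.1 hb.1 ha.2 hb.2⟩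

/-- a mask whose bits depend linearly on the index -/
def Lin (X : ℕ) : Prop := ∀ a < 2048, ∀ b < 2048, X.testBit (a ^^^ b) = (X.testBit a ^^ X.testBit b)

theorem Lin.xor {X Y : ℕ} (hX : Lin X) (hY : Lin Y) : Lin (X ^^^ Y) := by
  intro a ha b hb
  simp only [Nat.testBit_xor, hX a ha b hb, hY a ha b hb]
  cases X.testBit a <;> cases X.testBit b <;> cases Y.testBit a <;> cases Y.testBit b <;> rfl

theorem lin_zero : Lin 0 := fun _ _ _ _ => by simp

theorem lin_enc {l : List ℕ} (h : ∀ X ∈ l, Lin X) (c : ℕ) : Lin (enc l c) := by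
  induction l generalizing c with
  | nil => exact lin_zero
  | cons x r ih =>
    unfold enc
    refine Lin.xor ?_ (ih (fun b hb => h b (List.mem_cons_of_mem _ hb)) _)
    split
    · exact h x List.mem_cons_self
    · exact lin_zero

theorem lin_xCols (cf : ℕ) : Lin (enc xCols cf) := by
  refine lin_enc (fun X hX => ?_) cf
  obtain ⟨j, hj, rfl⟩ := List.getElem_of_mem hX
  intro a ha b hb
  have h := List.all_eq_true.1 xCols_check.2.2 j (List.mem_range.2 (xCols_check.1 ▸ hj))
  have key : ∀ c < 2048, xCols[j].testBit c = c.testBit j := fun c hc => by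
    have := List.all_eq_true.1 h c (List.mem_range.2 hc)
    rwa [beq_iff_eq, List.getD_eq_getElem _ _ hj] at this
  rw [key a ha, key b hb, key _ (Nat.xor_lt_two_pow (n := 11) ha hb), Nat.testBit_xor]

theorem testBit_fullMask (c : ℕ) : fullMask.testBit c = decide (c < 2048) :=
  Nat.testBit_two_pow_sub_one 2048 c

theorem lin_bit_zero {X : ℕ} (h : Lin X) : X.testBit 0 = false := by
  simpa using h 0 (by norm_num) 0 (by norm_num)

theorem ip_facts {i : ℕ} (hi : i < 191) :
    Rep (perm (ip i) : Equiv.Perm GolayPt) (ip i) ∧ perm (ip i) * perm (ip i) = 1 ∧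
      perm (ip i) ≠ 1 := by
  have h := List.all_eq_true.1 inv_check.2.1 (ip i) (by
    rw [ip, List.getD_eq_getElem _ _ (by rw [inv_check.1]; exact hi)]
    exact List.getElem_mem _)
  simp only [Bool.and_eq_true, Nat.beq_eq, Bool.not_eq_true'] at h
  obtain ⟨⟨hm, hsq⟩, hne⟩ := h
  have hr := perm_rep hm
  refine ⟨hr, Subtype.ext ?_, fun e => ?_⟩
  · refine (hr.mul hr).inj ?_
    rw [hsq]
    exact rep_one
  · rw [e] at hr
    have h1 : compP (ip i) idP = idP := by
      have h2 : compP idP idP = idP := by decide +kernel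
      have h3 : Rep ((1 : M24) : Equiv.Perm GolayPt) idP := rep_one
      rw [hr.compP_eq h3, ← h3.compP_eq h3]
      exact h2
    rw [← Bool.not_eq_true, Nat.beq_eq] at hne
    exact hne h1

/-- fixed codes lie in the kernel masks -/
theorem funMask_fixed {i : ℕ} (hi : i < 191) {e : ℕ × ℕ} (he : e ∈ cfOf i) {c : ℕ} (hc : c < 2048)
    (hfix : inCode (code c ^^^ actP (ip i) (code c)) = true) : (funMask e.2).testBit c = true := by
  obtain ⟨hr, hsq, -⟩ := ip_facts hi
  have h := List.all_eq_true.1 (List.all_eq_true.1 cf_check i (List.mem_range.2 hi)) e he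
  simp only [Bool.and_eq_true, Nat.blt_eq, List.all_eq_true, List.mem_range, Nat.beq_eq] at h
  obtain ⟨hk, hj⟩ := h
  set b := golayBasis.getD e.1 0 with hb
  set f := b ^^^ actP (ip i) b with hf
  have key : ∀ c < 2048, par (code c) f = ((enc xCols e.2).testBit c).toNat := fun c hc => by
    refine xor_induction (P := fun c => par (code c) f = ((enc xCols e.2).testBit c).toNat) ?_
      ?_ ?_ hc
    · rw [lin_bit_zero (lin_xCols _), code, enc_zero, par, Nat.zero_and]
      decide +kernel
    · intro j hj'
      have hg : ((List.range 11).all fun j => Nat.beq (enc evBasis (2 ^ j)) (evBasis.getD j 0)) = true := by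
        decide +kernel
      have hg' := Nat.eq_of_beq_eq_true (List.all_eq_true.1 hg j (List.mem_range.2 hj'))
      rw [code, hg', par_comm]
      exact hj j hj'
    · intro a b' ha hb' pa pb
      rw [code, enc_xor, par_xor_left, lin_xCols _ a ha b' hb']
      simp only [code] at pa pb
      rw [pa, pb]
      cases (enc xCols e.2).testBit a <;> cases (enc xCols e.2).testBit b' <;> rfl
  have hmem : b ∈ golayBasis := by
    rw [hb, List.getD_eq_getElem _ _ (show e.1 < golayBasis.length from hk)]
    exact List.getElem_mem _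
  have h0 := par_fixed hr (congrArg Subtype.val hsq) hfix hmem
  rw [key c hc] at h0
  rw [funMask, Nat.testBit_xor, testBit_fullMask, decide_eq_true hc]
  revert h0
  cases (enc xCols e.2).testBit c <;> simp

/-- a closed set of codes with at most `2^d` elements containing the fixed codes `F` -/
structure Inv (F : Finset ℕ) (m d : ℕ) : Prop where
  zero : m.testBit 0 = true
  closed : ∀ a < 2048, ∀ b < 2048, m.testBit a = true → m.testBit b = true →
    m.testBit (a ^^^ b) = true
  high : ∀ a, 2048 ≤ a → m.testBit a = false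
  card : ((Finset.range 2048).filter fun a => m.testBit a = true).card ≤ 2 ^ d
  mem : ∀ c ∈ F, m.testBit c = true

theorem inv_full {F : Finset ℕ} (hF : ∀ c ∈ F, c < 2048) : Inv F fullMask 11 where
  zero := by rw [testBit_fullMask]; rfl
  closed a ha b hb _ _ := by
    rw [testBit_fullMask, decide_eq_true (Nat.xor_lt_two_pow (n := 11) ha hb)]
  high a ha := by rw [testBit_fullMask, decide_eq_false (not_lt.2 ha)]
  card := le_trans (Finset.card_filter_le _ _) (by simp)
  mem c hc := by rw [testBit_fullMask, decide_eq_true (hF c hc)]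

theorem Inv.step {F : Finset ℕ} {m d : ℕ} (h : Inv F m d) (cf : ℕ)
    (hF : ∀ c ∈ F, (funMask cf).testBit c = true) (hne : m &&& funMask cf ≠ m) :
    Inv F (m &&& funMask cf) (d - 1) := by
  have hl := lin_xCols cf
  have hbit : ∀ a < 2048, (funMask cf).testBit a = !(enc xCols cf).testBit a := fun a ha => by
    rw [funMask, Nat.testBit_xor, testBit_fullMask, decide_eq_true ha, Bool.true_xor]
  obtain ⟨c₀, hc₀, hm₀, hn₀⟩ : ∃ c₀ < 2048, m.testBit c₀ = true ∧ (funMask cf).testBit c₀ = false := by
    by_contra hno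
    push Not at hno
    refine hne (Nat.eq_of_testBit_eq fun a => ?_)
    rw [Nat.testBit_and]
    by_cases ha : a < 2048
    · cases hm : m.testBit a
      · rfl
      · simpa using hno a ha hm
    · simp [h.high a (by omega)]
  have hcard : 2 * ((Finset.range 2048).filter fun a => (m &&& funMask cf).testBit a = true).card ≤
      ((Finset.range 2048).filter fun a => m.testBit a = true).card := by
    set N := (Finset.range 2048).filter fun a => (m &&& funMask cf).testBit a = true with hN
    have hsub : N ∪ N.image (· ^^^ c₀) ⊆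
        (Finset.range 2048).filter fun a => m.testBit a = true := by
      intro a ha
      rw [Finset.mem_union, Finset.mem_image] at ha
      rw [Finset.mem_filter, Finset.mem_range]
      rcases ha with ha | ⟨b, hb, rfl⟩
      · simp only [hN, Finset.mem_filter, Finset.mem_range, Nat.testBit_and,
          Bool.and_eq_true] at ha
        exact ⟨ha.1, ha.2.1⟩
      · simp only [hN, Finset.mem_filter, Finset.mem_range, Nat.testBit_and,
          Bool.and_eq_true] at hb
        exact ⟨Nat.xor_lt_two_pow (n := 11) hb.1 hc₀, h.closed b hb.1 c₀ hc₀ hb.2.1 hm₀⟩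
    have hdis : Disjoint N (N.image (· ^^^ c₀)) := by
      rw [Finset.disjoint_left]
      intro a ha ha'
      obtain ⟨b, hb, rfl⟩ := Finset.mem_image.1 ha'
      simp only [hN, Finset.mem_filter, Finset.mem_range, Nat.testBit_and, Bool.and_eq_true] at ha hb
      have e := ha.2.2
      rw [hbit _ ha.1, hl b hb.1 c₀ hc₀] at e
      have e1 := hb.2.2
      rw [hbit b hb.1] at e1
      rw [hbit c₀ hc₀] at hn₀
      revert e e1 hn₀
      cases (enc xCols cf).testBit b <;> cases (enc xCols cf).testBit c₀ <;> simp
    have := Finset.card_le_card hsub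
    rw [Finset.card_union_of_disjoint hdis,
      Finset.card_image_of_injective _ (fun x y e => by simpa using e)] at this
    omega
  refine ⟨?_, ?_, ?_, ?_, ?_⟩
  · rw [Nat.testBit_and, h.zero, hbit 0 (by norm_num), lin_bit_zero hl]; rfl
  · intro a ha b hb h1 h2
    rw [Nat.testBit_and, Bool.and_eq_true] at h1 h2 ⊢
    refine ⟨h.closed a ha b hb h1.1 h2.1, ?_⟩
    have e1 := h1.2; have e2 := h2.2
    rw [hbit a ha] at e1
    rw [hbit b hb] at e2
    rw [hbit _ (Nat.xor_lt_two_pow (n := 11) ha hb), hl a ha b hb]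
    revert e1 e2
    cases (enc xCols cf).testBit a <;> cases (enc xCols cf).testBit b <;> simp
  · intro a ha; rw [Nat.testBit_and, h.high a ha]; rfl
  · have hd := h.card
    have h1 : 0 < ((Finset.range 2048).filter fun a => (m &&& funMask cf).testBit a = true).card :=
      Finset.card_pos.2 ⟨0, by
        rw [Finset.mem_filter, Finset.mem_range, Nat.testBit_and, h.zero, hbit 0 (by norm_num),
          lin_bit_zero hl]
        exact ⟨by norm_num, rfl⟩⟩
    cases d with
    | zero => simp at hd; omega
    | succ d => rw [pow_succ] at hd; simp only [add_tsub_cancel_right]; omega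
  · intro c hc; rw [Nat.testBit_and, h.mem c hc, hF c hc]; rfl

/-- the search step preserves the invariant -/
theorem stepK_spec {F : Finset ℕ} : ∀ (r : List (ℕ × ℕ)) (m d : ℕ) (k : ℕ → ℕ → Bool),
    Inv F m d → (∀ e ∈ r, ∀ c ∈ F, (funMask e.2).testBit c = true) → stepK r m d k = true →
    ∃ m' d', Inv F m' d' ∧ k m' d' = true
  | [], m, d, _, h, _, hk => ⟨m, d, h, hk⟩
  | e :: r, m, d, k, h, hr, hk => by
    rw [stepK, force_eq] at hk
    have hr' : ∀ e' ∈ r, ∀ c ∈ F, (funMask e'.2).testBit c = true := fun e' he =>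
      hr e' (List.mem_cons_of_mem _ he)
    cases hb : Nat.beq (m &&& funMask e.2) m
    · rw [hb, cond_false, force_eq] at hk
      exact stepK_spec r _ _ k (h.step e.2 (hr e List.mem_cons_self) fun e0 => by
        rw [e0, Nat.beq_refl] at hb; exact Bool.false_ne_true hb.symm) hr' hk
    · rw [hb, cond_true] at hk
      rw [Nat.eq_of_beq_eq_true hb] at hk
      exact stepK_spec r _ _ k h hr' hk

end CfsgLib.Spor.JankoFourTen
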