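import Cfsg.Agent.Lib.Spor.JankoFourTen.Orbit

/-!
A 2-subgroup of order `2^20` of the normaliser containing the subgroup of order `2^10` with a
complement to it.
-/

set_option autoImplicit false
set_option maxRecDepth 100000

namespace CfsgLib.Spor.JankoFourTen

open Cfsg CfsgLib.Spor CfsgLib.Spor.JankoFourCentral
open scoped Pointwise symmDiff

theorem ev_uwBasis {b : ℕ} (hb : b ∈ uwBasis) : Ev b := by
  rcases List.mem_append.1 hb with h | h
  · have := List.all_eq_true.1 wC_check.2 b h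
    simp only [Bool.and_eq_true, Nat.blt_eq, Nat.beq_eq] at this
    exact ev_of_check this.1 this.2
  · have := List.all_eq_true.1 uAct_check.2.1 b h
    simp only [Bool.and_eq_true, Nat.blt_eq, Nat.beq_eq] at this
    exact ev_of_check this.1 this.2

theorem ev_uw (c : ℕ) : Ev (enc uwBasis c) := ev_enc (fun _ => ev_uwBasis) c

theorem uw_low {c : ℕ} (hc : c < 64) : enc uwBasis c = enc wBasis c :=
  Nat.eq_of_beq_eq_true (List.all_eq_true.1 tp_check.2.2.2.1 c (List.mem_range.2 hc))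

theorem perm_idP : perm ((0, idP) : ℕ × ℕ).2 = 1 :=
  perm_eq (σ := 1) rep_one

theorem perm_eq_of_canon {σ τ : M24} {a b : ℕ} (ha : Rep (σ : Equiv.Perm GolayPt) a)
    (hb : Rep (τ : Equiv.Perm GolayPt) b) (h : compP idP a = compP idP b) : σ = τ := by
  have h1 : Rep (1 * (σ : Equiv.Perm GolayPt)) (compP idP a) := rep_one.mul ha
  have h2 : Rep (1 * (τ : Equiv.Perm GolayPt)) (compP idP b) := rep_one.mul hb
  rw [one_mul] at h1 h2
  rw [h] at h1
  exact Subtype.ext (h1.inj h2)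

/-- a pair is the code of an element -/
def GoodP (x : ℕ × ℕ) : Prop := Ev x.1 ∧ ∃ σ : M24, Rep (σ : Equiv.Perm GolayPt) x.2

theorem GoodP.mul {x y : ℕ × ℕ} (hx : GoodP x) (hy : GoodP y) : GoodP (pMul x y) := by
  obtain ⟨σ, hσ⟩ := hx.2
  obtain ⟨τ, hτ⟩ := hy.2
  exact ⟨hx.1.xor (ev_of_rep hσ hy.1), σ * τ, hσ.mul hτ⟩

theorem xGen_facts {i : ℕ} (hi : i < 10) : isM24P (xGen i).2 = true ∧
    (∃ c < 1024, inCode ((xGen i).1 ^^^ enc uwBasis c) = true) ∧
    (∃ k < 1024, getT 120 syl2Tbl k = (xGen i).2) ∧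
    pEq (pMul (xGen i) (xGen i)) (xEl i (pcSquares.getD i 0)) = true ∧
    pcSquares.getD i 0 < 2 ^ i ∧
    ∀ j < i, (pcConjs.getD i []).getD j 0 < 2 ^ i ∧
      pEq (pMul (xGen i) (xGen j)) (pMul (xEl i ((pcConjs.getD i []).getD j 0)) (xGen i)) = true := by
  have h := List.all_eq_true.1 pc_check i (List.mem_range.2 hi)
  simp only [Bool.and_eq_true, List.any_eq_true, List.mem_range, List.all_eq_true, Nat.beq_eq,
    Nat.blt_eq] at h
  obtain ⟨⟨⟨⟨⟨h1, h2⟩, h3⟩, h4⟩, h5⟩, h6⟩ := h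
  exact ⟨h1, h2, h3, h4, h5, h6⟩

theorem goodP_xGen {i : ℕ} (hi : i < 10) : GoodP (xGen i) :=
  ⟨ev_code _, perm (xGen i).2, perm_rep (xGen_facts hi).1⟩

theorem goodP_xEl : ∀ (n : ℕ), n ≤ 10 → ∀ c, GoodP (xEl n c)
  | 0, _, _ => ⟨ev_zero, 1, rep_one⟩
  | n + 1, hn, c => by
    rw [xEl]
    cases c.testBit n
    · exact goodP_xEl n (by omega) c
    · exact (goodP_xEl n (by omega) c).mul (goodP_xGen (by omega))

end CfsgLib.Spor.JankoFourTen

namespace CfsgLib.Spor.JankoFourCentral.Eleven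

open Cfsg CfsgLib.Spor CfsgLib.Spor.JankoFourCentral CfsgLib.Spor.JankoFourTen
open scoped Pointwise symmDiff

variable {G : Type*} [Group G] [Finite G] {z : G} {A : Type*} [AddCommGroup A] (D : Eleven z A)

/-- the vectors in the subgroup of order `2^20` -/
def uwV : Subgroup G where
  carrier := {x | ∃ c < 1024, D.vm (enc uwBasis c) = x}
  one_mem' := ⟨0, by norm_num, by rw [enc_zero, D.vm_zero]⟩
  mul_mem' := by
    rintro _ _ ⟨a, ha, rfl⟩ ⟨b, hb, rfl⟩
    exact ⟨a ^^^ b, Nat.xor_lt_two_pow (n := 10) ha hb, by rw [enc_xor, D.vm_xor]⟩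
  inv_mem' := by
    rintro _ ⟨a, ha, rfl⟩
    exact ⟨a, ha, (D.vm_inv _).symm⟩

omit [Finite G] in
theorem uwV_le : D.uwV ≤ D.V := by
  rintro _ ⟨c, -, rfl⟩; exact D.vm_mem _

omit [Finite G] in
theorem natCard_uwV : Nat.card D.uwV = 1024 := by
  let f : Fin 1024 → D.uwV := fun c => ⟨_, c, c.2, rfl⟩
  have hf : Function.Bijective f := by
    refine ⟨fun a b e => Fin.ext ?_, ?_⟩
    · have e' : D.vm (enc uwBasis a) = D.vm (enc uwBasis b) := congrArg Subtype.val e
      have h1 : D.vm (enc uwBasis ((a : ℕ) ^^^ b)) = 1 := by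
        rw [enc_xor, D.vm_xor, e', D.vm_sq]
      have h2 := D.inCode_of_vm_eq_one (ev_uw _) h1
      have h3 := List.all_eq_true.1 tp_check.2.2.1 _
        (List.mem_range.2 (Nat.xor_lt_two_pow (n := 10) a.2 b.2))
      simp only [Bool.or_eq_true, Bool.not_eq_true', Nat.beq_eq, h2, Bool.true_eq_false,
        or_false] at h3
      exact Nat.xor_eq_zero_iff.1 h3
    · rintro ⟨_, c, hc, rfl⟩
      exact ⟨⟨c, hc⟩, rfl⟩
  rw [← Nat.card_eq_of_bijective f hf, Nat.card_fin]

/-- the lift of the complement to a homomorphism -/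
noncomputable def LHom : M24 →* G := ⟨⟨fun σ => D.L σ, D.L_one⟩, fun a b => D.L_mul a b⟩

theorem sylM_normalizes : ∀ σ ∈ sylM, D.L σ ∈ Subgroup.normalizer (D.uwV : Set G) ∧
    D.L σ ∈ Subgroup.normalizer (D.tenA : Set G) := by
  intro σ hσ
  let H : Subgroup M24 := (Subgroup.normalizer (D.uwV : Set G) ⊓
    Subgroup.normalizer (D.tenA : Set G)).comap D.LHom
  have hmem : ∀ ρ (hρ : ρ ∈ genGroup syl2Gens), (⟨ρ, genGroup_le _ hρ⟩ : M24) ∈ H := by
    intro ρ hρ
    induction hρ using Subgroup.closure_induction with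
    | mem x hx =>
      obtain ⟨hxM, a, ha, hr⟩ := hx
      have h := List.all_eq_true.1 tp_check.2.1 a ha
      simp only [Bool.and_eq_true, List.all_eq_true, List.any_eq_true, List.mem_range,
        Nat.beq_eq] at h
      obtain ⟨⟨⟨-, huw⟩, hw⟩, he⟩ := h
      let s : M24 := ⟨x, hxM⟩
      show D.L s ∈ Subgroup.normalizer (D.uwV : Set G) ⊓ Subgroup.normalizer (D.tenA : Set G)
      refine Subgroup.mem_inf.2 ⟨mem_normalizer_of_conj ?_, mem_normalizer_of_conj ?_⟩
      · rintro _ ⟨c, hc, rfl⟩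
        refine bit_induction (P := fun c => D.L s * D.vm (enc uwBasis c) * (D.L s)⁻¹ ∈ D.uwV)
          10 ?_ ?_ ?_ c hc
        · rw [enc_zero, D.vm_zero, mul_one, mul_inv_cancel]; exact one_mem _
        · intro j hj
          obtain ⟨d, hd, hde⟩ := huw j hj
          rw [D.L_vm (σ := s) hr (ev_uw _), enc_two_pow _ _ (by rw [tp_check.2.2.2.2]; exact hj)]
          refine ⟨d, hd, (D.vm_eq (ev_of_rep hr ?_) (ev_uw d) hde).symm⟩
          rw [← enc_two_pow uwBasis j (by rw [tp_check.2.2.2.2]; exact hj)]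
          exact ev_uw _
        · intro a b _ _ pa pb
          have := mul_mem pa pb
          rwa [show D.L s * D.vm (enc uwBasis a) * (D.L s)⁻¹ *
            (D.L s * D.vm (enc uwBasis b) * (D.L s)⁻¹) =
            D.L s * (D.vm (enc uwBasis a) * D.vm (enc uwBasis b)) * (D.L s)⁻¹ by group,
            ← D.vm_xor, ← enc_xor] at this
      · rintro _ ⟨c, hc, rfl⟩
        refine bit_induction (P := fun c => D.L s * D.tv c * (D.L s)⁻¹ ∈ D.tenA) 10 ?_ ?_ ?_ c hc
        · rw [D.tv_zero, mul_one, mul_inv_cancel]; exact one_mem _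
        · intro j hj
          rcases lt_or_ge j 6 with h6 | h6
          · rw [D.tv_low (Nat.pow_lt_pow_right (a := 2) (n := 6) (by norm_num) h6),
              D.L_vm (σ := s) hr (ev_wBasis _)]
            obtain ⟨b, hb, hbe⟩ := D.vm_of_inW (ev_of_rep hr (ev_wBasis _)) (hw j h6)
            rw [hbe, ← D.tv_wC hb]
            exact D.tv_mem (by omega)
          · obtain ⟨i, rfl⟩ := Nat.exists_eq_add_of_le h6
            have hb : 2 ^ i < 16 := Nat.pow_lt_pow_right (a := 2) (n := 4) (by norm_num) (by omega)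
            obtain ⟨b, hb', hbe⟩ := he i (by omega)
            have hmul : s * eP (2 ^ i) = eP b * s := by
              refine Subtype.ext ((hr.mul (eP_rep hb)).inj ?_)
              rw [hbe]
              exact (eP_rep hb').mul hr
            rw [show 2 ^ (6 + i) = 64 * 2 ^ i by rw [pow_add]; norm_num, D.tv_high,
              ← D.L_mul, hmul, D.L_mul, mul_inv_cancel_right, ← D.tv_high]
            exact D.tv_mem (by omega)
        · intro a b ha hb pa pb
          have := mul_mem pa pb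
          rwa [show D.L s * D.tv a * (D.L s)⁻¹ * (D.L s * D.tv b * (D.L s)⁻¹) =
            D.L s * (D.tv a * D.tv b) * (D.L s)⁻¹ by group, D.tv_mul ha hb] at this
    | one => exact one_mem H
    | mul x y hx hy px py => exact mul_mem px py
    | inv x hx px => exact inv_mem px
  exact Subgroup.mem_inf.1
    (hmem _ hσ : D.L σ ∈ Subgroup.normalizer (D.uwV : Set G) ⊓ Subgroup.normalizer (D.tenA : Set G))

/-- the subgroup of order `2^20` -/
def tpG : Subgroup G where
  carrier := {x | ∃ w ∈ D.uwV, ∃ σ ∈ sylM, x = w * D.L σ}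
  one_mem' := ⟨1, one_mem _, 1, one_mem _, by rw [D.L_one, one_mul]⟩
  mul_mem' := by
    rintro _ _ ⟨u, hu, σ, hσ, rfl⟩ ⟨u', hu', σ', hσ', rfl⟩
    exact ⟨_, mul_mem hu ((Subgroup.mem_normalizer_iff.1 (D.sylM_normalizes σ hσ).1 _).1 hu'), _,
      mul_mem hσ hσ', D.mul_L σ σ'⟩
  inv_mem' := by
    rintro _ ⟨u, hu, σ, hσ, rfl⟩
    exact ⟨D.L σ⁻¹ * u⁻¹ * (D.L σ⁻¹)⁻¹,
      (Subgroup.mem_normalizer_iff.1 (D.sylM_normalizes _ (inv_mem hσ)).1 _).1 (inv_mem hu),
      σ⁻¹, inv_mem hσ, by simp only [D.L_inv]; group⟩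

theorem natCard_tpG : Nat.card D.tpG = 2 ^ 20 := by
  let f : D.uwV × sylM → D.tpG := fun p => ⟨p.1 * D.L p.2, p.1, p.1.2, p.2, p.2.2, rfl⟩
  have hf : Function.Bijective f := by
    constructor
    · rintro ⟨u, σ⟩ ⟨u', σ'⟩ h
      obtain ⟨h1, h2⟩ := D.dec_unique (D.uwV_le u.2) (D.uwV_le u'.2) (congrArg Subtype.val h)
      exact Prod.ext (Subtype.ext h1) (Subtype.ext h2)
    · rintro ⟨x, u, hu, σ, hσ, rfl⟩
      exact ⟨(⟨u, hu⟩, ⟨σ, hσ⟩), rfl⟩
  rw [← Nat.card_eq_of_bijective f hf, Nat.card_prod, D.natCard_uwV, natCard_sylM]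
  norm_num

theorem uwV_normalizes : D.uwV ≤ Subgroup.normalizer (D.tenA : Set G) := by
  rintro _ ⟨c, hc, rfl⟩
  refine bit_induction (P := fun c => D.vm (enc uwBasis c) ∈
    Subgroup.normalizer (D.tenA : Set G)) 10 ?_ ?_ ?_ c hc
  · rw [enc_zero, D.vm_zero]; exact one_mem _
  · intro j hj
    rcases lt_or_ge j 6 with h6 | h6
    · have h64 : 2 ^ j < 64 := Nat.pow_lt_pow_right (a := 2) (n := 6) (by norm_num) h6
      rw [uw_low h64, ← D.tv_low h64]
      exact Subgroup.le_normalizer (D.tv_mem (by omega))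
    · obtain ⟨i, rfl⟩ := Nat.exists_eq_add_of_le h6
      rw [enc_two_pow _ _ (by rw [tp_check.2.2.2.2]; exact hj)]
      have e : uwBasis.getD (6 + i) 0 = uReps.getD i 0 := by
        have h6 : wBasis.length = 6 := wMask_check.2.1
        rw [uwBasis, List.getD_append_right _ _ _ _ (by omega), h6, Nat.add_sub_cancel_left]
      rw [e]
      exact (D.uRep_act (by omega)).1
  · intro a b _ _ pa pb
    rw [enc_xor, D.vm_xor]
    exact mul_mem pa pb

theorem tpG_le : D.tpG ≤ Subgroup.normalizer (D.tenA : Set G) := by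
  rintro _ ⟨u, hu, σ, hσ, rfl⟩
  exact mul_mem (D.uwV_normalizes hu) (D.sylM_normalizes σ hσ).2

theorem tenA_le_tpG : D.tenA ≤ D.tpG := by
  rintro _ ⟨a, ha, rfl⟩
  refine ⟨D.cv (wC (a % 64)), ⟨a % 64, by omega, ?_⟩, eP (a / 64),
    eP_mem_sylM _ (by omega), rfl⟩
  rw [uw_low (Nat.mod_lt _ (by norm_num)), ← D.cv_wC (Nat.mod_lt _ (by norm_num))]

/-- the element with a given pair as code -/
noncomputable def eG (x : ℕ × ℕ) : G := D.vm x.1 * D.L (perm x.2)

omit [Finite G] in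
theorem eG_mul {x y : ℕ × ℕ} (hx : GoodP x) (hy : GoodP y) :
    D.eG (pMul x y) = D.eG x * D.eG y := by
  obtain ⟨σ, hσ⟩ := hx.2
  obtain ⟨τ, hτ⟩ := hy.2
  rw [eG, eG, eG, perm_eq hσ, perm_eq hτ, D.mul_L, D.L_vm hσ hy.1, pMul]
  rw [perm_eq (σ := σ * τ) (hσ.mul hτ), D.vm_xor]

omit [Finite G] in
theorem eG_eq {x y : ℕ × ℕ} (hx : GoodP x) (hy : GoodP y) (h : pEq x y = true) :
    D.eG x = D.eG y := by
  simp only [pEq, Bool.and_eq_true, Nat.beq_eq] at h
  obtain ⟨σ, hσ⟩ := hx.2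
  obtain ⟨τ, hτ⟩ := hy.2
  rw [eG, eG, perm_eq hσ, perm_eq hτ, perm_eq_of_canon hσ hτ h.2, D.vm_eq hx.1 hy.1 h.1]

/-- a complement generator -/
noncomputable def xG (i : ℕ) : G := D.eG (xGen i)

/-- the subgroup generated by the first complement generators -/
noncomputable def xSub (n : ℕ) : Subgroup G := Subgroup.closure {g | ∃ j < n, D.xG j = g}

omit [Finite G] in
theorem xG_mem {n j : ℕ} (hj : j < n) : D.xG j ∈ D.xSub n :=
  Subgroup.subset_closure ⟨j, hj, rfl⟩

omit [Finite G] in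
theorem xSub_mono {n m : ℕ} (h : n ≤ m) : D.xSub n ≤ D.xSub m :=
  (Subgroup.closure_le _).2 fun _ ⟨_, hj, e⟩ => e ▸ D.xG_mem (hj.trans_le h)

omit [Finite G] in
theorem eG_xEl_mem : ∀ (n : ℕ), n ≤ 10 → ∀ c, D.eG (xEl n c) ∈ D.xSub n
  | 0, _, _ => by
    rw [xEl, eG, D.vm_zero, perm_idP, D.L_one, one_mul]
    exact one_mem _
  | n + 1, hn, c => by
    rw [xEl]
    cases c.testBit n
    · exact D.xSub_mono (Nat.le_succ n) (eG_xEl_mem n (by omega) c)
    · rw [cond_true, D.eG_mul (goodP_xEl n (by omega) c) (goodP_xGen (by omega))]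
      exact mul_mem (D.xSub_mono (Nat.le_succ n) (eG_xEl_mem n (by omega) c))
        (D.xG_mem (Nat.lt_succ_self n))

omit [Finite G] in
theorem xEl_congr : ∀ (n : ℕ) (c d : ℕ), (∀ i < n, c.testBit i = d.testBit i) →
    xEl n c = xEl n d
  | 0, _, _, _ => rfl
  | n + 1, c, d, h => by
    rw [xEl, xEl, h n (Nat.lt_succ_self n), xEl_congr n c d fun i hi => h i (by omega)]

omit [Finite G] in
theorem xEl_small : ∀ (n m : ℕ) (c : ℕ), c < 2 ^ n → n ≤ m → xEl m c = xEl n c := by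
  intro n m c hc hnm
  induction m with
  | zero => obtain rfl : n = 0 := by omega
            rfl
  | succ m ih =>
    rcases Nat.eq_or_lt_of_le hnm with rfl | hlt
    · rfl
    · rw [xEl, Nat.testBit_eq_false_of_lt (lt_of_lt_of_le hc (Nat.pow_le_pow_right (by norm_num)
        (by omega))), cond_false, ih (by omega)]

/-- the elements of the partial complements -/
theorem exists_xEl : ∀ (n : ℕ), n ≤ 10 → ∀ y ∈ D.xSub n, ∃ c < 2 ^ n, D.eG (xEl n c) = y := by
  intro n
  induction n with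
  | zero =>
    intro _ y hy
    have h0 : D.xSub 0 ≤ ⊥ := (Subgroup.closure_le _).2 fun _ ⟨_, hj, _⟩ => absurd hj (Nat.not_lt_zero _)
    refine ⟨0, by norm_num, ?_⟩
    rw [Subgroup.mem_bot.1 (h0 hy), xEl, eG, D.vm_zero, perm_idP, D.L_one, one_mul]
  | succ n ih =>
    intro hn y hy
    have hn' : n < 10 := by omega
    obtain ⟨-, -, -, hsq, hsqlt, hcj⟩ := xGen_facts hn'
    set x := D.xG n with hx
    have hgx := goodP_xGen hn'
    have hx2 : x * x ∈ D.xSub n := by
      rw [hx, xG, ← D.eG_mul hgx hgx,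
        D.eG_eq (hgx.mul hgx) (goodP_xEl n (by omega) _) hsq]
      exact D.eG_xEl_mem n (by omega) _
    have hxn : x ∈ Subgroup.normalizer (D.xSub n : Set G) := by
      refine mem_normalizer_of_conj fun h hh => ?_
      have : D.xSub n ≤ (D.xSub n).comap (MulAut.conj x).toMonoidHom := by
        refine (Subgroup.closure_le _).2 ?_
        rintro _ ⟨j, hj, rfl⟩
        show x * D.xG j * x⁻¹ ∈ D.xSub n
        obtain ⟨hlt, he⟩ := hcj j hj
        have hgj := goodP_xGen (show j < 10 by omega)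
        have hgw := goodP_xEl n (by omega) ((pcConjs.getD n []).getD j 0)
        have h2 := D.eG_eq (hgx.mul hgj) (hgw.mul hgx) he
        rw [D.eG_mul hgx hgj, D.eG_mul hgw hgx] at h2
        rw [hx, xG, xG, h2, mul_inv_cancel_right]
        exact D.eG_xEl_mem n (by omega) _
      exact this hh
    have key : ∀ y ∈ D.xSub (n + 1), ∃ h ∈ D.xSub n, y = h ∨ y = h * x := by
      intro y hy
      induction hy using Subgroup.closure_induction with
      | mem g hg =>
        obtain ⟨j, hj, rfl⟩ := hg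
        rcases Nat.lt_succ_iff_lt_or_eq.1 hj with hlt | rfl
        · exact ⟨_, D.xG_mem hlt, Or.inl rfl⟩
        · exact ⟨1, one_mem _, Or.inr (one_mul _).symm⟩
      | one => exact ⟨1, one_mem _, Or.inl rfl⟩
      | mul a b _ _ pa pb =>
        obtain ⟨h, hh, ha⟩ := pa
        obtain ⟨k, hk, hb⟩ := pb
        have hxk : x * k * x⁻¹ ∈ D.xSub n := (Subgroup.mem_normalizer_iff.1 hxn k).1 hk
        rcases ha with rfl | rfl <;> rcases hb with rfl | rfl
        · exact ⟨_, mul_mem hh hk, Or.inl rfl⟩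
        · exact ⟨_, mul_mem hh hk, Or.inr (mul_assoc _ _ _).symm⟩
        · exact ⟨_, mul_mem hh hxk, Or.inr (by group)⟩
        · exact ⟨_, mul_mem (mul_mem hh hxk) hx2, Or.inl (by group)⟩
      | inv a _ pa =>
        obtain ⟨h, hh, ha⟩ := pa
        rcases ha with rfl | rfl
        · exact ⟨_, inv_mem hh, Or.inl rfl⟩
        · refine ⟨(x * x)⁻¹ * (x * h⁻¹ * x⁻¹), mul_mem (inv_mem hx2)
            ((Subgroup.mem_normalizer_iff.1 hxn _).1 (inv_mem hh)), Or.inr (by group)⟩
    obtain ⟨h, hh, hy'⟩ := key y hy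
    obtain ⟨c, hc, hce⟩ := ih (by omega) h hh
    rcases hy' with rfl | rfl
    · refine ⟨c, hc.trans (Nat.pow_lt_pow_right (by norm_num) (Nat.lt_succ_self n)), ?_⟩
      rw [xEl, Nat.testBit_eq_false_of_lt hc, cond_false, hce]
    · refine ⟨2 ^ n + c, by rw [pow_succ]; omega, ?_⟩
      rw [xEl, Nat.testBit_two_pow_add_eq, Nat.testBit_eq_false_of_lt hc, Bool.not_false, cond_true,
        D.eG_mul (goodP_xEl n (by omega) _) hgx,
        xEl_congr n (2 ^ n + c) c fun i hi => Nat.testBit_two_pow_add_gt hi c, hce]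
      rfl

omit [Finite G] in
theorem xEl_not_mem {c : ℕ} (hc : c < 1024) (hc0 : c ≠ 0) : D.eG (xEl 10 c) ∉ D.tenA := by
  rintro ⟨a, ha, e⟩
  have hg := goodP_xEl 10 le_rfl c
  obtain ⟨σ, hσ⟩ := hg.2
  rw [eG, perm_eq hσ, tv] at e
  obtain ⟨h1, h2⟩ := D.dec_unique (D.cv_mem _) (D.vm_mem _) e
  have hw : inW (xEl 10 c).1 = true := by
    rw [D.cv_wC (Nat.mod_lt _ (by norm_num))] at h1
    simp only [inW, List.any_eq_true, List.mem_range]
    refine ⟨a % 64, Nat.mod_lt _ (by norm_num), ?_⟩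
    refine D.inCode_of_vm_eq_one (hg.1.xor (ev_wBasis _)) ?_
    rw [D.vm_xor, h1, D.vm_sq]
  have hp : compP idP (xEl 10 c).2 = eOf (a / 64) := by
    rw [← h2] at hσ
    have hb : a / 64 < 16 := by omega
    rw [hσ.compP_idP (eP_rep hb)]
    have h := List.all_eq_true.1 eList_check.2.2.1 _ (eOf_mem hb)
    simp only [Bool.and_eq_true, Nat.beq_eq] at h
    exact h.1.2
  have hchk : outA c = true := by
    rcases lt_or_ge c 512 with h | h
    · have := List.all_eq_true.1 outA_check_0 c (List.mem_range.2 h)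
      simpa [hc0] using this
    · have := List.all_eq_true.1 outA_check_1 (c - 512) (List.mem_range.2 (by omega))
      rwa [Nat.add_sub_cancel' h] at this
  simp only [outA, List.all_eq_true, List.mem_range, Bool.or_eq_true, Bool.not_eq_true'] at hchk
  rcases hchk (a / 64) (by omega) with h | h
  · rw [hp, Nat.beq_refl] at h; exact absurd h (by simp)
  · rw [hw] at h; exact absurd h (by simp)

theorem xSub_inf : D.xSub 10 ⊓ D.tenA = ⊥ := by
  rw [eq_bot_iff]
  rintro y ⟨hy, hyA⟩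
  obtain ⟨c, hc, rfl⟩ := D.exists_xEl 10 le_rfl y hy
  by_cases h0 : c = 0
  · rw [Subgroup.mem_bot, h0, xEl_small 0 10 0 (by norm_num) (by norm_num), xEl, eG, D.vm_zero,
      perm_idP, D.L_one, one_mul]
  · exact absurd hyA (D.xEl_not_mem (by norm_num at hc; exact hc) h0)

theorem xEl_inj : ∀ (n : ℕ), n ≤ 10 → ∀ a < 2 ^ n, ∀ b < 2 ^ n,
    D.eG (xEl n a) = D.eG (xEl n b) → a = b := by
  intro n
  induction n with
  | zero => intro _ a ha b hb _; simp at ha hb; omega
  | succ n ih =>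
    intro hn a ha b hb e
    have hn' : n < 10 := by omega
    -- the new generator lies outside the smaller subgroup
    have hout : D.xG n ∉ D.xSub n := by
      intro hin
      obtain ⟨d, hd, hde⟩ := D.exists_xEl n (by omega) _ (inv_mem hin)
      have hlt : 2 ^ n + d < 2 ^ (n + 1) := by rw [pow_succ]; omega
      refine D.xEl_not_mem (c := 2 ^ n + d) ?_ (by have := Nat.two_pow_pos n; omega) ?_
      · exact lt_of_lt_of_le hlt (Nat.pow_le_pow_right (n := 2) (by norm_num) (by omega : n + 1 ≤ 10))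
      · rw [xEl_small (n + 1) 10 _ hlt (by omega), xEl, Nat.testBit_two_pow_add_eq,
          Nat.testBit_eq_false_of_lt hd, Bool.not_false, cond_true,
          D.eG_mul (goodP_xEl n (by omega) _) (goodP_xGen hn'),
          xEl_congr n (2 ^ n + d) d fun i hi => Nat.testBit_two_pow_add_gt hi d, hde]
        show (D.xG n)⁻¹ * D.xG n ∈ D.tenA
        rw [inv_mul_cancel]
        exact one_mem _
    have hsplit : ∀ c < 2 ^ (n + 1), xEl n c = xEl n (c % 2 ^ n) := fun c _ =>
      xEl_congr n _ _ fun i hi => by rw [Nat.testBit_mod_two_pow]; simp [hi]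
    have hbit : ∀ c < 2 ^ (n + 1), (c.testBit n = true ↔ 2 ^ n ≤ c) := fun c hc =>
      ⟨fun h => Nat.ge_two_pow_of_testBit h, fun h => by
        obtain ⟨d, rfl⟩ := Nat.exists_eq_add_of_le h
        rw [Nat.testBit_two_pow_add_eq, Nat.testBit_eq_false_of_lt (by rw [pow_succ] at hc; omega)]
        rfl⟩
    have hmod : ∀ c, c % 2 ^ n < 2 ^ n := fun c => Nat.mod_lt _ (Nat.two_pow_pos n)
    have hA := D.eG_xEl_mem n (by omega) (a % 2 ^ n)
    have hB := D.eG_xEl_mem n (by omega) (b % 2 ^ n)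
    rw [xEl, xEl] at e
    cases hta : a.testBit n <;> cases htb : b.testBit n <;> rw [hta, htb] at e
    · have hla : a < 2 ^ n := not_le.1 fun h => by rw [(hbit a ha).2 h] at hta; simp at hta
      have hlb : b < 2 ^ n := not_le.1 fun h => by rw [(hbit b hb).2 h] at htb; simp at htb
      exact ih (by omega) a hla b hlb e
    · rw [cond_false, cond_true, D.eG_mul (goodP_xEl n (by omega) b) (goodP_xGen hn'),
        hsplit a ha, hsplit b hb] at e
      refine absurd ?_ hout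
      show D.eG (xGen n) ∈ _
      rw [← inv_mul_eq_iff_eq_mul.2 e]
      exact mul_mem (inv_mem hB) hA
    · rw [cond_false, cond_true, D.eG_mul (goodP_xEl n (by omega) a) (goodP_xGen hn'),
        hsplit a ha, hsplit b hb] at e
      refine absurd ?_ hout
      show D.eG (xGen n) ∈ _
      rw [← inv_mul_eq_iff_eq_mul.2 e.symm]
      exact mul_mem (inv_mem hA) hB
    · rw [cond_true, cond_true, D.eG_mul (goodP_xEl n (by omega) a) (goodP_xGen hn'),
        D.eG_mul (goodP_xEl n (by omega) b) (goodP_xGen hn'), hsplit a ha, hsplit b hb,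
        mul_left_inj] at e
      have h := ih (by omega) _ (hmod a) _ (hmod b) e
      have hga := (hbit a ha).1 hta
      have hgb := (hbit b hb).1 htb
      rw [pow_succ] at ha hb
      rw [Nat.mod_eq_sub_mod hga, Nat.mod_eq_of_lt (by omega), Nat.mod_eq_sub_mod hgb,
        Nat.mod_eq_of_lt (by omega)] at h
      omega

theorem natCard_xSub : Nat.card (D.xSub 10) = 1024 := by
  let f : Fin 1024 → D.xSub 10 := fun c => ⟨_, D.eG_xEl_mem 10 le_rfl c⟩
  have hf : Function.Bijective f := by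
    refine ⟨fun a b e => Fin.ext (D.xEl_inj 10 le_rfl a a.2 b b.2 (congrArg Subtype.val e)), ?_⟩
    rintro ⟨y, hy⟩
    obtain ⟨c, hc, rfl⟩ := D.exists_xEl 10 le_rfl y hy
    exact ⟨⟨c, by norm_num at hc; exact hc⟩, rfl⟩
  rw [← Nat.card_eq_of_bijective f hf, Nat.card_fin]

theorem xSub_le : D.xSub 10 ≤ D.tpG := by
  refine (Subgroup.closure_le _).2 ?_
  rintro _ ⟨i, hi, rfl⟩
  obtain ⟨hm, ⟨c, hc, hce⟩, ⟨k, hk, hke⟩, -⟩ := xGen_facts hi
  obtain ⟨σ, hσ, hr⟩ := listed_mem syl2_listed hk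
  rw [hke] at hr
  refine ⟨D.vm (xGen i).1, ⟨c, hc, (D.vm_eq (goodP_xGen hi).1 (ev_uw c) hce).symm⟩,
    ⟨σ, genGroup_le _ hσ⟩, hσ, ?_⟩
  rw [xG, eG, perm_eq (σ := ⟨σ, genGroup_le _ hσ⟩) hr]

end CfsgLib.Spor.JankoFourCentral.Eleven
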