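import Cfsg.Agent.Lib.Spor.JankoFourTen.FiveCheck

/-!
The linear group of five-space on the exterior square: every symmetry of the two classes comes from
it, faithfully, and six elements generate it once the hyperplane is moved.
-/

set_option autoImplicit false
set_option maxRecDepth 100000

namespace CfsgLib.Spor.JankoFourTen

open CfsgLib.Spor
open Matrix

theorem bit_induction {P : ℕ → Prop} : ∀ (n : ℕ), P 0 → (∀ j < n, P (2 ^ j)) →
    (∀ a b, a < 2 ^ n → b < 2 ^ n → P a → P b → P (a ^^^ b)) → ∀ c < 2 ^ n, P c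
  | 0, h0, _, _, c, hc => by
    obtain rfl : c = 0 := by simpa using hc
    exact h0
  | n + 1, h0, hb, hx, c, hc => by
    have hlt : 2 ^ n < 2 ^ (n + 1) := Nat.pow_lt_pow_right (by norm_num) (by omega)
    have hr : c % 2 ^ n < 2 ^ n := Nat.mod_lt _ (Nat.two_pow_pos n)
    have hP : P (c % 2 ^ n) := bit_induction n h0 (fun j hj => hb j (by omega))
      (fun a b ha hb' => hx a b (by omega) (by omega)) _ hr
    by_cases hcn : c < 2 ^ n
    · rwa [Nat.mod_eq_of_lt hcn] at hP
    have e : c = c % 2 ^ n ^^^ 2 ^ n := by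
      refine Nat.eq_of_testBit_eq fun i => ?_
      rw [Nat.testBit_xor, Nat.testBit_mod_two_pow, Nat.testBit_two_pow]
      rcases lt_trichotomy i n with h | rfl | h
      · simp [h, (Nat.ne_of_lt h).symm]
      · simp only [lt_irrefl, decide_false, Bool.false_and, decide_true, Bool.false_xor]
        rw [Nat.testBit, Nat.shiftRight_eq_div_pow]
        have : c / 2 ^ i = 1 := Nat.div_eq_of_lt_le (by omega) (by rw [pow_succ] at hc; omega)
        simp [this]
      · rw [Nat.testBit_eq_false_of_lt (lt_of_lt_of_le hc (Nat.pow_le_pow_right (by norm_num) h))]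
        simp [Nat.not_lt.2 h.le, Nat.ne_of_lt h]
    rw [e]
    exact hx _ _ (by omega) hlt hP (hb n (by omega))

theorem enc_two_pow : ∀ (l : List ℕ) (j : ℕ), j < l.length → enc l (2 ^ j) = l.getD j 0
  | [], j, h => absurd h (Nat.not_lt_zero j)
  | x :: r, 0, _ => by
    have : ∀ r : List ℕ, enc r 0 = 0 := fun r => by
      induction r with
      | nil => rfl
      | cons b s ih => simp [enc, ih]
    simp [enc, this]
  | x :: r, j + 1, h => by
    have h1 : (2 ^ (j + 1)).testBit 0 = false := by rw [Nat.testBit_two_pow]; simp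
    rw [enc, h1, show 2 ^ (j + 1) / 2 = 2 ^ j by rw [pow_succ]; omega,
      enc_two_pow r j (by simpa using h)]
    simp

theorem encX : ∀ (l : List ℕ) (a b : ℕ), enc l (a ^^^ b) = enc l a ^^^ enc l b
  | [], _, _ => by simp [enc]
  | x :: r, a, b => by
    have h2 : (a ^^^ b) / 2 = a / 2 ^^^ b / 2 := by
      refine Nat.eq_of_testBit_eq fun i => ?_
      rw [Nat.testBit_div_two, Nat.testBit_xor, Nat.testBit_xor, Nat.testBit_div_two,
        Nat.testBit_div_two]
    simp only [enc, h2, encX r, Nat.testBit_xor]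
    cases a.testBit 0 <;> cases b.testBit 0 <;>
      simp [Nat.xor_assoc, Nat.xor_left_comm]

theorem encZ (l : List ℕ) : enc l 0 = 0 := by
  induction l with
  | nil => rfl
  | cons b r ih => simp [enc, ih]

theorem enc_lt {n : ℕ} : ∀ {l : List ℕ}, (∀ x ∈ l, x < 2 ^ n) → ∀ c, enc l c < 2 ^ n
  | [], _, _ => Nat.two_pow_pos n
  | x :: r, h, c => by
    unfold enc
    refine Nat.xor_lt_two_pow ?_ (enc_lt (fun y hy => h y (List.mem_cons_of_mem _ hy)) _)
    split
    · exact h x List.mem_cons_self
    · exact Nat.two_pow_pos n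

/-- five by five matrices over the field with two elements -/
abbrev M5 := Matrix (Fin 5) (Fin 5) (ZMod 2)

/-- their special linear group -/
abbrev SL5 := Matrix.SpecialLinearGroup (Fin 5) (ZMod 2)

theorem zmod2_cases (a : ZMod 2) : a = 0 ∨ a = 1 := by revert a; decide

/-- the vector with given bits -/
def bitV (x : ℕ) : Fin 5 → ZMod 2 := fun i => if x.testBit i then 1 else 0

/-- a column as a number -/
def colN (M : M5) (j : Fin 5) : ℕ := Nat.ofBits fun i : Fin 5 => decide (M i j = 1)

/-- the columns as numbers -/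
def colsN (M : M5) : List ℕ := List.ofFn (colN M)

/-- the matrix with given columns -/
def ofCols (g : List ℕ) : M5 := Matrix.of fun i j => bitV (g.getD j 0) i

theorem bitV_colN (M : M5) (j i : Fin 5) : bitV (colN M j) i = M i j := by
  rw [bitV, colN, Nat.testBit_ofBits_lt _ _ i.2]
  rcases zmod2_cases (M i j) with h | h <;> simp [h]

theorem colN_lt (M : M5) (j : Fin 5) : colN M j < 32 := Nat.ofBits_lt_two_pow _

theorem bitV_inj {x y : ℕ} (hx : x < 32) (hy : y < 32) (h : bitV x = bitV y) : x = y := by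
  refine Nat.eq_of_testBit_eq fun i => ?_
  by_cases hi : i < 5
  · have := congrFun h ⟨i, hi⟩
    simp only [bitV] at this
    revert this
    cases x.testBit i <;> cases y.testBit i <;> simp
  · have h5 : (2 : ℕ) ^ 5 ≤ 2 ^ i := Nat.pow_le_pow_right (by norm_num) (by omega)
    rw [Nat.testBit_eq_false_of_lt (by omega), Nat.testBit_eq_false_of_lt (by omega)]

theorem bitV_xor (x y : ℕ) : bitV (x ^^^ y) = bitV x + bitV y := by
  funext i
  simp only [bitV, Pi.add_apply, Nat.testBit_xor]
  cases x.testBit i <;> cases y.testBit i <;> simp <;> decide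

theorem bitV_zero : bitV 0 = 0 := by funext i; simp [bitV]

theorem bitV_two_pow (j : Fin 5) : bitV (2 ^ (j : ℕ)) = Pi.single j 1 := by
  funext i
  simp only [bitV, Nat.testBit_two_pow, decide_eq_true_eq, Pi.single_apply, Fin.ext_iff]
  by_cases h : (i : ℕ) = j
  · simp [h]
  · simp [h, Ne.symm h]

theorem colsN_length (M : M5) : (colsN M).length = 5 := by simp [colsN]

theorem colsN_getD (M : M5) (j : Fin 5) : (colsN M).getD j 0 = colN M j := by
  rw [List.getD_eq_getElem _ _ (by rw [colsN_length]; exact j.2)]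
  simp only [colsN, List.getElem_ofFn, Fin.eta]

theorem colsN_lt (M : M5) : ∀ x ∈ colsN M, x < 2 ^ 5 := by
  intro x hx
  obtain ⟨j, rfl⟩ := List.mem_ofFn.1 hx
  exact colN_lt M j

theorem mulVec_bitV (M : M5) {x : ℕ} (hx : x < 32) :
    M *ᵥ bitV x = bitV (enc (colsN M) x) := by
  refine bit_induction (P := fun x => M *ᵥ bitV x = bitV (enc (colsN M) x)) 5 ?_ ?_ ?_ x hx
  · rw [encZ, bitV_zero, Matrix.mulVec_zero]
  · intro j hj
    rw [enc_two_pow _ _ (by rw [colsN_length]; exact hj), colsN_getD M ⟨j, hj⟩,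
      bitV_two_pow ⟨j, hj⟩, Matrix.mulVec_single_one]
    funext i
    rw [bitV_colN]; rfl
  · intro a b _ _ pa pb
    rw [encX, bitV_xor, bitV_xor, Matrix.mulVec_add, pa, pb]

theorem colN_mul (M N : M5) (j : Fin 5) : colN (M * N) j = enc (colsN M) (colN N j) := by
  refine bitV_inj (colN_lt _ _) (enc_lt (colsN_lt M) _) ?_
  rw [← mulVec_bitV M (colN_lt N j)]
  funext i
  rw [bitV_colN, Matrix.mul_apply]
  simp [Matrix.mulVec, dotProduct, bitV_colN]

theorem colsN_ofCols {g : List ℕ} (hl : g.length = 5) (hg : ∀ x ∈ g, x < 32) :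
    colsN (ofCols g) = g := by
  refine List.ext_getElem (by rw [colsN_length, hl]) fun j h1 h2 => ?_
  have hj : j < 5 := hl ▸ h2
  have := colsN_getD (ofCols g) ⟨j, hj⟩
  rw [List.getD_eq_getElem _ _ h1] at this
  rw [this]
  refine bitV_inj (colN_lt _ _) (hg _ (List.getElem_mem h2)) ?_
  funext i
  rw [bitV_colN, ofCols, Matrix.of_apply, List.getD_eq_getElem _ _ h2]

theorem det_eq_one_of_mul_eq_one {M N : M5} (h : M * N = 1) : M.det = 1 := by
  have h1 : M.det * N.det = 1 := by rw [← Matrix.det_mul, h, Matrix.det_one]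
  rcases zmod2_cases M.det with e | e
  · rw [e, zero_mul] at h1; exact absurd h1 zero_ne_one
  · exact e

theorem ofCols_mul_eq_one {g g' : List ℕ} (hl : g.length = 5) (hg : ∀ x ∈ g, x < 32)
    (hg' : ∀ x ∈ g', x < 32) (h : ∀ j < 5, enc g (g'.getD j 0) = 2 ^ j) :
    ofCols g * ofCols g' = 1 := by
  ext i j
  have hlt : g'.getD j 0 < 32 := by
    by_cases hj : (j : ℕ) < g'.length
    · rw [List.getD_eq_getElem _ _ hj]; exact hg' _ (List.getElem_mem _)
    · rw [List.getD_eq_default _ _ (not_lt.1 hj)]; norm_num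
  have h1 : (ofCols g *ᵥ bitV (g'.getD j 0)) i = (1 : M5) i j := by
    rw [mulVec_bitV _ hlt, colsN_ofCols hl hg, h j j.2, bitV_two_pow, Matrix.one_apply,
      Pi.single_apply]
  rw [← h1]
  rfl

/-! ### The exterior square -/

theorem w2_lt {x y : ℕ} (hx : x < 32) (hy : y < 32) : w2 x y < 1024 := by
  have := List.all_eq_true.1 (List.all_eq_true.1 w2_lt_check x (List.mem_range.2 hx)) y
    (List.mem_range.2 hy)
  simpa [Nat.blt_eq] using this

theorem w2_symm {x y : ℕ} (hx : x < 32) (hy : y < 32) : w2 x y = w2 y x := by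
  have := List.all_eq_true.1 (List.all_eq_true.1 w2_symm_check x (List.mem_range.2 hx)) y
    (List.mem_range.2 hy)
  simp only [Bool.and_eq_true, Nat.beq_eq] at this
  exact this.1

theorem w2_self {x : ℕ} (hx : x < 32) : w2 x x = 0 := by
  have := List.all_eq_true.1 (List.all_eq_true.1 w2_symm_check x (List.mem_range.2 hx)) x
    (List.mem_range.2 hx)
  simp only [Bool.and_eq_true, Bool.or_eq_true, Bool.not_eq_true', Nat.beq_refl, Nat.beq_eq,
    Bool.true_eq_false, false_or] at this
  exact this.2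

theorem w2_xor {x x' y : ℕ} (hx : x < 32) (hx' : x' < 32) (hy : y < 32) :
    w2 (x ^^^ x') y = w2 x y ^^^ w2 x' y := by
  have hb : ∀ x < 32, ∀ j < 5, w2 (x ^^^ 2 ^ j) y = w2 x y ^^^ w2 (2 ^ j) y := fun x hx j hj => by
    have := List.all_eq_true.1 (List.all_eq_true.1 (List.all_eq_true.1 w2_add_check x
      (List.mem_range.2 hx)) j (List.mem_range.2 hj)) y (List.mem_range.2 hy)
    exact Nat.eq_of_beq_eq_true this
  have h0 : w2 0 y = 0 := by
    have := hb 1 (by norm_num) 0 (by norm_num)
    simpa using this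
  revert x
  refine bit_induction
    (P := fun x' => ∀ {x : ℕ}, x < 32 → w2 (x ^^^ x') y = w2 x y ^^^ w2 x' y) 5 ?_ ?_ ?_ x' hx'
  · intro x _; simp [h0]
  · exact fun j hj x hx => hb x hx j hj
  · intro a b ha hb' pa pb x hx
    rw [← Nat.xor_assoc, pb (Nat.xor_lt_two_pow (n := 5) hx ha), pa hx, pb ha, Nat.xor_assoc]

theorem pairsI_index {i j : ℕ} (h : i < j) (hj : j < 5) :
    ∃ n < 10, pairsI.getD n (0, 0) = (i, j) := by
  interval_cases j <;> interval_cases i <;> decide

theorem pair_facts {n : ℕ} (hn : n < 10) : (pairsI.getD n (0, 0)).1 < 5 ∧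
    (pairsI.getD n (0, 0)).2 < 5 ∧
    w2 (2 ^ (pairsI.getD n (0, 0)).1) (2 ^ (pairsI.getD n (0, 0)).2) = 2 ^ n := by
  have := List.all_eq_true.1 w2_basis_check n (List.mem_range.2 hn)
  simp only [Bool.and_eq_true, Nat.beq_eq, Nat.blt_eq] at this
  exact ⟨this.1.2, this.2, this.1.1⟩

theorem pg_length (g : List ℕ) : (pg g).length = 10 := by simp [pg, pairsI]

theorem pg_getD (g : List ℕ) {n : ℕ} (hn : n < 10) :
    (pg g).getD n 0 = w2 (g.getD (pairsI.getD n (0, 0)).1 0) (g.getD (pairsI.getD n (0, 0)).2 0) := by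
  have hp : n < pairsI.length := by simpa [pairsI] using hn
  rw [List.getD_eq_getElem _ _ (by rw [pg_length]; exact hn), List.getD_eq_getElem _ _ hp]
  simp [pg]

theorem colsN_getD_lt (M : M5) {i : ℕ} (hi : i < 5) : (colsN M).getD i 0 < 32 :=
  colsN_getD M ⟨i, hi⟩ ▸ colN_lt M _

theorem pg_lt (M : M5) : ∀ x ∈ pg (colsN M), x < 2 ^ 10 := by
  intro x hx
  obtain ⟨n, hn, rfl⟩ := List.getElem_of_mem hx
  rw [← List.getD_eq_getElem _ 0 hn, pg_getD _ (by rwa [pg_length] at hn)]
  have hn' : n < 10 := by rwa [pg_length] at hn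
  exact w2_lt (colsN_getD_lt M (pair_facts hn').1) (colsN_getD_lt M (pair_facts hn').2.1)

theorem w2_map (M : M5) {x y : ℕ} (hx : x < 32) (hy : y < 32) :
    enc (pg (colsN M)) (w2 x y) = w2 (enc (colsN M) x) (enc (colsN M) y) := by
  have hl : ∀ c, enc (colsN M) c < 32 := fun c => enc_lt (colsN_lt M) c
  have hbasis : ∀ i j, i < j → j < 5 → enc (pg (colsN M)) (w2 (2 ^ i) (2 ^ j)) =
      w2 ((colsN M).getD i 0) ((colsN M).getD j 0) := fun i j hij hj => by
    obtain ⟨n, hn, e⟩ := pairsI_index hij hj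
    have h := (pair_facts hn).2.2
    rw [e] at h
    rw [h, enc_two_pow _ _ (by rw [pg_length]; exact hn), pg_getD _ hn, e]
  have h1 : ∀ j < 5, ∀ x < 32, enc (pg (colsN M)) (w2 x (2 ^ j)) =
      w2 (enc (colsN M) x) ((colsN M).getD j 0) := by
    intro j hj x hx
    refine bit_induction (P := fun x => enc (pg (colsN M)) (w2 x (2 ^ j)) =
      w2 (enc (colsN M) x) ((colsN M).getD j 0)) 5 ?_ ?_ ?_ x hx
    · have hz : ∀ y < 32, w2 0 y = 0 := fun y hy => by
        have h := w2_xor (x := 0) (x' := 0) (y := y) (by norm_num) (by norm_num) hy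
        simpa using h
      rw [encZ, hz _ (Nat.pow_lt_pow_right (a := 2) (n := 5) (by norm_num) hj),
        hz _ (colsN_getD_lt M hj), encZ]
    · intro i hi
      have hi' : 2 ^ i < 32 := Nat.pow_lt_pow_right (a := 2) (n := 5) (by norm_num) hi
      have hj' : 2 ^ j < 32 := Nat.pow_lt_pow_right (a := 2) (n := 5) (by norm_num) hj
      rw [enc_two_pow _ _ (by rw [colsN_length]; exact hi)]
      rcases lt_trichotomy i j with h | rfl | h
      · exact hbasis i j h hj
      · rw [w2_self hi', encZ, w2_self (colsN_getD_lt M hi)]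
      · rw [w2_symm hi' hj', hbasis j i h hi, w2_symm (colsN_getD_lt M hj) (colsN_getD_lt M hi)]
    · intro a b ha hb pa pb
      rw [w2_xor ha hb (Nat.pow_lt_pow_right (a := 2) (n := 5) (by norm_num) hj), encX, pa, pb,
        encX, w2_xor (hl a) (hl b) (colsN_getD_lt M hj)]
  refine bit_induction (P := fun y => enc (pg (colsN M)) (w2 x y) =
    w2 (enc (colsN M) x) (enc (colsN M) y)) 5 ?_ ?_ ?_ y hy
  · have hz : ∀ y < 32, w2 y 0 = 0 := fun y hy => by
      rw [w2_symm hy (by norm_num)]
      simpa using w2_xor (x := 0) (x' := 0) (y := y) (by norm_num) (by norm_num) hy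
    rw [encZ (colsN M), hz x hx, hz _ (hl x), encZ]
  · intro j hj
    rw [enc_two_pow (colsN M) _ (by rw [colsN_length]; exact hj)]
    exact h1 j hj x hx
  · intro a b ha hb pa pb
    rw [w2_symm hx (Nat.xor_lt_two_pow ha hb), w2_xor ha hb hx, encX, w2_symm ha hx,
      w2_symm hb hx, pa, pb, encX, w2_symm (hl x) (Nat.xor_lt_two_pow (n := 5) (hl a) (hl b)),
      w2_xor (hl a) (hl b) (hl x), w2_symm (hl a) (hl x), w2_symm (hl b) (hl x)]

theorem phiN_lt (c : ℕ) : phiN c < 1024 := by
  refine enc_lt (n := 10) (fun x hx => ?_) c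
  simpa [Nat.blt_eq] using List.all_eq_true.1 wedge_check.2.2.1 x hx

theorem psiN_lt (c : ℕ) : psiN c < 1024 := by
  refine enc_lt (n := 10) (fun x hx => ?_) c
  simpa [Nat.blt_eq] using List.all_eq_true.1 wedge_check.2.2.2.1 x hx

theorem phi_psi {a : ℕ} (ha : a < 1024) : phiN (psiN a) = a ∧ psiN (phiN a) = a := by
  refine bit_induction (P := fun a => phiN (psiN a) = a ∧ psiN (phiN a) = a) 10 ?_ ?_ ?_ a ha
  · simp [phiN, psiN, encZ]
  · intro j hj
    have := List.all_eq_true.1 wedge_check.2.2.2.2 j (List.mem_range.2 hj)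
    simp only [Bool.and_eq_true, Nat.beq_eq] at this
    exact this.1
  · intro a b _ _ pa pb
    simp only [phiN, psiN, encX] at pa pb ⊢
    exact ⟨by rw [pa.1, pb.1], by rw [pa.2, pb.2]⟩

/-- the action of a matrix on the ten-dimensional space -/
def rho (M : M5) (a : ℕ) : ℕ := rhoN (colsN M) a

theorem rho_lt (M : M5) (a : ℕ) : rho M a < 1024 := phiN_lt _

theorem rho_xor (M : M5) (a b : ℕ) : rho M (a ^^^ b) = rho M a ^^^ rho M b := by
  simp only [rho, rhoN, phiN, psiN, encX]

theorem rho_zero (M : M5) : rho M 0 = 0 := by simp only [rho, rhoN, phiN, psiN, encZ]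

theorem rho_wedge (M : M5) {x y : ℕ} (hx : x < 32) (hy : y < 32) :
    rho M (phiN (w2 x y)) = phiN (w2 (enc (colsN M) x) (enc (colsN M) y)) := by
  rw [rho, rhoN, (phi_psi (w2_lt hx hy)).2, w2_map M hx hy]

theorem rho_mul (M N : M5) {a : ℕ} (ha : a < 1024) : rho (M * N) a = rho M (rho N a) := by
  have key : ∀ c < 1024, enc (pg (colsN (M * N))) c = enc (pg (colsN M)) (enc (pg (colsN N)) c) := by
    intro c hc
    refine bit_induction (P := fun c => enc (pg (colsN (M * N))) c =
      enc (pg (colsN M)) (enc (pg (colsN N)) c)) 10 ?_ ?_ ?_ c hc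
    · simp only [encZ]
    · intro n hn
      obtain ⟨h1, h2, -⟩ := pair_facts hn
      rw [enc_two_pow _ _ (by rw [pg_length]; exact hn), enc_two_pow _ _ (by rw [pg_length]; exact hn),
        pg_getD _ hn, pg_getD _ hn, w2_map M (colsN_getD_lt N h1) (colsN_getD_lt N h2),
        colsN_getD (M * N) ⟨_, h1⟩, colsN_getD (M * N) ⟨_, h2⟩, colsN_getD N ⟨_, h1⟩,
        colsN_getD N ⟨_, h2⟩, colN_mul, colN_mul]
    · intro a b _ _ pa pb
      simp only [encX, pa, pb]
  simp only [rho, rhoN]
  rw [(phi_psi (enc_lt (pg_lt N) _)).2, key _ (psiN_lt a)]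

theorem colsN_one : colsN (1 : M5) = idCols := by decide +kernel

theorem rho_one {a : ℕ} (ha : a < 1024) : rho 1 a = a := by
  refine bit_induction (P := fun a => rho 1 a = a) 10 (rho_zero 1) ?_ ?_ a ha
  · intro j hj
    have := List.all_eq_true.1 wedge_check.2.2.2.2 j (List.mem_range.2 hj)
    simp only [Bool.and_eq_true, Nat.beq_eq] at this
    rw [rho, colsN_one]; exact this.2
  · intro a b _ _ pa pb
    rw [rho_xor, pa, pb]

theorem eq_one_of_rho {M : M5} (h : ∀ a < 1024, rho M a = a) : M = 1 := by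
  have key : ∀ i : Fin 5, colN M i = 2 ^ (i : ℕ) := by
    intro i
    have hc := List.all_eq_true.1 (List.all_eq_true.1 faith_check (colN M i)
      (List.mem_range.2 (colN_lt M i))) i (List.mem_range.2 i.2)
    simp only [Bool.or_eq_true, Nat.beq_eq, List.any_eq_true, List.mem_range, Bool.and_eq_true,
      Bool.not_eq_true'] at hc
    refine hc.resolve_right fun ⟨j, hj, _, hs⟩ => ?_
    have hi' : 2 ^ (i : ℕ) < 32 := Nat.pow_lt_pow_right (a := 2) (n := 5) (by norm_num) i.2
    have hj' : 2 ^ j < 32 := Nat.pow_lt_pow_right (a := 2) (n := 5) (by norm_num) hj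
    have h1 := h _ (phiN_lt (w2 (2 ^ (i : ℕ)) (2 ^ j)))
    rw [rho_wedge M hi' hj'] at h1
    have h2 := congrArg psiN h1
    rw [(phi_psi (w2_lt (enc_lt (colsN_lt M) _) (enc_lt (colsN_lt M) _))).2,
      (phi_psi (w2_lt hi' hj')).2, enc_two_pow _ _ (by rw [colsN_length]; exact i.2),
      enc_two_pow _ _ (by rw [colsN_length]; exact hj), colsN_getD M i] at h2
    rw [← Bool.not_eq_true, solv, List.any_eq_true] at hs
    exact hs ⟨_, List.mem_range.2 (colsN_getD_lt M hj), by rw [Nat.beq_eq]; exact h2⟩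
  ext i j
  rw [← bitV_colN M j i, key j, bitV_two_pow, Matrix.one_apply, Pi.single_apply]

theorem rho_inj {M N : SL5} (h : ∀ a < 1024, rho M.1 a = rho N.1 a) : M = N := by
  have h1 : (N⁻¹ * M).1 = 1 := eq_one_of_rho fun a ha => by
    rw [Matrix.SpecialLinearGroup.coe_mul, rho_mul _ _ ha, h a ha, ← rho_mul _ _ ha,
      ← Matrix.SpecialLinearGroup.coe_mul, inv_mul_cancel, Matrix.SpecialLinearGroup.coe_one,
      rho_one ha]
  have h2 : N⁻¹ * M = 1 := Subtype.ext h1
  calc M = N * (N⁻¹ * M) := (mul_inv_cancel_left N M).symm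
    _ = N := by rw [h2, mul_one]

theorem rho_inS (M : SL5) {a : ℕ} (ha : a < 1024) : inS (rho M.1 a) = inS a := by
  have fwd : ∀ (M : SL5) (a : ℕ), a < 1024 → inS a = true → inS (rho M.1 a) = true := by
    intro M a ha hS
    obtain ⟨hd, hp, h0⟩ := dec_check
    have h := List.all_eq_true.1 hd a (List.mem_range.2 ha)
    simp only [hS, Bool.not_true, Bool.false_or, List.any_eq_true, Bool.and_eq_true, Nat.blt_eq,
      Nat.beq_eq] at h
    obtain ⟨⟨_, x, y⟩, -, ⟨⟨-, hx⟩, hy⟩, hw⟩ := h
    have e : rho M.1 a = phiN (w2 (enc (colsN M.1) x) (enc (colsN M.1) y)) := by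
      rw [← rho_wedge M.1 hx hy, hw, (phi_psi ha).1]
    have hx' : enc (colsN M.1) x < 32 := enc_lt (colsN_lt _) _
    have hy' : enc (colsN M.1) y < 32 := enc_lt (colsN_lt _) _
    have hp' := List.all_eq_true.1 (List.all_eq_true.1 hp _ (List.mem_range.2 hx')) _
      (List.mem_range.2 hy')
    simp only [Bool.or_eq_true, Nat.beq_eq] at hp'
    rw [e]
    refine hp'.resolve_left fun hz => ?_
    have hz' : rho M.1 a = 0 := by rw [e, hz]; exact encZ _
    have : a = 0 := by
      rw [← rho_one ha, ← Matrix.SpecialLinearGroup.coe_one (R := ZMod 2), ← inv_mul_cancel M,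
        Matrix.SpecialLinearGroup.coe_mul, rho_mul _ _ ha, hz', rho_zero]
    rw [this, h0] at hS
    exact Bool.false_ne_true hS
  cases hS : inS a
  · rw [← Bool.not_eq_true]
    intro h
    have := fwd M⁻¹ _ (rho_lt _ _) h
    rw [← rho_mul _ _ ha, ← Matrix.SpecialLinearGroup.coe_mul, inv_mul_cancel,
      Matrix.SpecialLinearGroup.coe_one, rho_one ha, hS] at this
    exact Bool.false_ne_true this
  · exact fwd M a ha hS

/-- a linear symmetry of the two classes -/
structure Sym (f : ℕ → ℕ) : Prop where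
  lt : ∀ a < 1024, f a < 1024
  add : ∀ a < 1024, ∀ b < 1024, f (a ^^^ b) = f a ^^^ f b
  ker : ∀ a < 1024, f a = 0 → a = 0
  cls : ∀ a < 1024, inS (f a) = inS a

theorem Sym.zero {f : ℕ → ℕ} (h : Sym f) : f 0 = 0 := by
  simpa using h.add 0 (by norm_num) 0 (by norm_num)

theorem cert_check (k : ℕ) (hk : k < 10) : certOK k = true := by
  rcases lt_or_ge k 8 with h | h
  · exact List.all_eq_true.1 cert_check_0 k (List.mem_range.2 h)
  · interval_cases k
    exacts [cert_check_1, cert_check_2]

/-- every symmetry of the two classes comes from the linear group -/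
theorem exists_rho {f : ℕ → ℕ} (hf : Sym f) : ∃ M : SL5, ∀ a < 1024, rho M.1 a = f a := by
  obtain ⟨hblen, hbspan, hbind⟩ := cert_base_check
  have hb : ∀ j < 10, certBase.getD j 0 < 1024 := fun j hj => by
    have := List.all_eq_true.1 hbspan j (List.mem_range.2 hj)
    simp only [Bool.and_eq_true, Nat.blt_eq] at this
    exact this.1
  have hfix : ∀ (k : ℕ) (f : ℕ → ℕ), k ≤ 10 → Sym f →
      (∀ i < k, f (certBase.getD i 0) = certBase.getD i 0) →
      ∀ v < 2 ^ k, f (enc (certBase.take k) v) = enc (certBase.take k) v ∧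
        enc (certBase.take k) v < 1024 := by
    intro k f hk hf h v hv
    have hl : (certBase.take k).length = k := by rw [List.length_take, hblen]; omega
    have hget : ∀ i < k, (certBase.take k).getD i 0 = certBase.getD i 0 := fun i hi => by
      rw [List.getD_eq_getElem _ _ (by rw [hl]; exact hi), List.getElem_take,
        List.getD_eq_getElem]
    have hlt : ∀ c, enc (certBase.take k) c < 1024 := enc_lt (n := 10) fun x hx => by
      obtain ⟨i, hi, rfl⟩ := List.getElem_of_mem hx
      rw [hl] at hi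
      rw [← List.getD_eq_getElem _ 0, hget i hi]
      exact hb i (by omega)
    refine ⟨?_, hlt v⟩
    refine bit_induction (P := fun v => f (enc (certBase.take k) v) = enc (certBase.take k) v) k
      ?_ ?_ ?_ v hv
    · rw [encZ]; exact hf.zero
    · intro i hi
      rw [enc_two_pow _ _ (by rw [hl]; exact hi), hget i hi]; exact h i hi
    · intro a b _ _ pa pb
      rw [encX, hf.add _ (hlt a) _ (hlt b), pa, pb]
  have key : ∀ n k, k + n = 10 → ∀ f, Sym f →
      (∀ i < k, f (certBase.getD i 0) = certBase.getD i 0) →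
      ∃ M : SL5, ∀ a < 1024, rho M.1 a = f a := by
    intro n
    induction n with
    | zero =>
      intro k hk f hf h
      obtain rfl : k = 10 := by omega
      refine ⟨1, fun a ha => ?_⟩
      rw [Matrix.SpecialLinearGroup.coe_one, rho_one ha]
      refine (bit_induction (P := fun a => f a = a) 10 hf.zero ?_ ?_ a ha).symm
      · intro j hj
        have := List.all_eq_true.1 hbspan j (List.mem_range.2 hj)
        simp only [Bool.and_eq_true, List.any_eq_true, List.mem_range, Nat.beq_eq] at this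
        obtain ⟨-, d, hd, hde⟩ := this
        have h2 := (hfix 10 f le_rfl hf h d hd).1
        rwa [List.take_of_length_le hblen.le, hde] at h2
      · intro a b ha hb' pa pb
        rw [hf.add a ha b hb', pa, pb]
    | succ n ih =>
      intro k hk f hf h
      have hk10 : k < 10 := by omega
      have hbk := hb k hk10
      set c := f (certBase.getD k 0) with hc
      have hc1 : c < 1024 := hf.lt _ hbk
      have hcert := List.all_eq_true.1 (cert_check k hk10) c (List.mem_range.2 hc1)
      simp only [Bool.or_eq_true, List.any_eq_true, List.mem_range, bne_iff_ne,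
        Bool.and_eq_true, Nat.beq_eq, Nat.blt_eq, List.all_eq_true] at hcert
      rcases hcert with (⟨v, hv, hne⟩ | ⟨v, hv, hve⟩) | ⟨e, -, hcase⟩
      · obtain ⟨hv1, hv2⟩ := hfix k f hk10.le hf h v hv
        refine absurd ?_ hne
        rw [hc]
        conv_lhs => rw [← hv1, ← hf.add _ hv2 _ hbk]
        exact hf.cls _ (Nat.xor_lt_two_pow (n := 10) hv2 hbk)
      · exfalso
        obtain ⟨hv1, hv2⟩ := hfix k f hk10.le hf h v hv
        have e0 : f (enc (certBase.take k) v ^^^ certBase.getD k 0) = 0 := by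
          rw [hf.add _ hv2 _ hbk, hv1, hve, ← hc, Nat.xor_self]
        have e1 := Nat.xor_eq_zero_iff.1 (hf.ker _ (Nat.xor_lt_two_pow (n := 10) hv2 hbk) e0)
        have := List.all_eq_true.1 (List.all_eq_true.1 hbind k (List.mem_range.2 hk10)) v
          (List.mem_range.2 hv)
        rw [e1, Nat.beq_refl] at this
        exact Bool.false_ne_true this
      · obtain ⟨⟨⟨⟨⟨⟨⟨rfl', hmap⟩, hprev⟩, hlen⟩, hlt⟩, hlt'⟩, -⟩, hinv⟩ := hcase
        have hmul := ofCols_mul_eq_one hlen hlt hlt' hinv
        let M : SL5 := ⟨ofCols e.1.2, det_eq_one_of_mul_eq_one hmul⟩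
        have hM : ∀ a, rho M.1 a = rhoN e.1.2 a := fun a => by
          show rhoN (colsN (ofCols e.1.2)) a = _
          rw [colsN_ofCols hlen hlt]
        have hg : Sym fun a => rho M.1 (f a) :=
          ⟨fun a _ => rho_lt _ _, fun a ha b hb' => by rw [hf.add a ha b hb', rho_xor],
            fun a ha h0 => hf.ker a ha (by
              rw [← rho_one (hf.lt a ha), ← Matrix.SpecialLinearGroup.coe_one (R := ZMod 2),
                ← inv_mul_cancel M, Matrix.SpecialLinearGroup.coe_mul, rho_mul _ _ (hf.lt a ha), h0,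
                rho_zero]),
            fun a ha => by rw [rho_inS M (hf.lt a ha), hf.cls a ha]⟩
        obtain ⟨N, hN⟩ := ih (k + 1) (by omega) _ hg (fun i hi => by
          show rho M.1 (f (certBase.getD i 0)) = _
          rcases Nat.lt_succ_iff_lt_or_eq.1 hi with hi' | rfl
          · rw [h i hi', hM]
            refine hprev _ ?_
            have hl : i < (certBase.take k).length := by rw [List.length_take, hblen]; omega
            have := List.getElem_mem hl
            rwa [List.getElem_take, ← List.getD_eq_getElem _ 0] at this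
          · rw [← hc, hM]; exact hmap)
        refine ⟨M⁻¹ * N, fun a ha => ?_⟩
        rw [Matrix.SpecialLinearGroup.coe_mul, rho_mul _ _ ha, hN a ha, ← rho_mul _ _ (hf.lt a ha),
          ← Matrix.SpecialLinearGroup.coe_mul, inv_mul_cancel, Matrix.SpecialLinearGroup.coe_one,
          rho_one (hf.lt a ha)]
  exact key 10 0 rfl f hf fun i hi => absurd hi (Nat.not_lt_zero i)

/-! ### The six elements -/

theorem pre_facts {g : ℕ} (hg : g < 6) : (normPre.getD g []).length = 5 ∧
    (∀ x ∈ normPre.getD g [], x < 32) ∧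
    ofCols (normPre.getD g []) * ofCols (normPreInv.getD g []) = 1 := by
  have h := List.all_eq_true.1 pre_check.2.2.2 g (List.mem_range.2 hg)
  simp only [Bool.and_eq_true, Nat.beq_eq, List.all_eq_true, List.mem_range, Nat.blt_eq] at h
  obtain ⟨⟨⟨h1, h2⟩, h3⟩, h4⟩ := h
  exact ⟨h1, h2, ofCols_mul_eq_one h1 h2 h3 h4⟩

/-- the linear map of a normaliser element -/
def slPre (g : ℕ) : SL5 :=
  ⟨if g < 6 then ofCols (normPre.getD g []) else 1, by
    split
    · exact det_eq_one_of_mul_eq_one (pre_facts (by assumption)).2.2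
    · exact Matrix.det_one⟩

theorem slPre_val {g : ℕ} (hg : g < 6) : (slPre g).1 = ofCols (normPre.getD g []) :=
  if_pos hg

theorem rho_slPre {g : ℕ} (hg : g < 6) {a : ℕ} (ha : a < 1024) :
    rho (slPre g).1 a = enc (actMats.getD g []) a := by
  refine bit_induction (P := fun a => rho (slPre g).1 a = enc (actMats.getD g []) a) 10
    (by rw [rho_zero, encZ]) ?_ ?_ a ha
  · intro j hj
    rw [rho, slPre_val hg, colsN_ofCols (pre_facts hg).1 (pre_facts hg).2.1]
    exact (Nat.eq_of_beq_eq_true (List.all_eq_true.1 (List.all_eq_true.1 pre_check.2.2.1 g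
      (List.mem_range.2 hg)) j (List.mem_range.2 hj))).symm
  · intro a b _ _ pa pb
    rw [rho_xor, encX, pa, pb]

/-- the hyperplane is preserved exactly when the fixed space is -/
theorem rho_small {M : M5} (h : ∀ j : Fin 5, (j : ℕ) < 4 → M 4 j = 0) {a : ℕ} (ha : a < 64) :
    rho M a < 64 := by
  have hcol : ∀ j < 4, (colsN M).getD j 0 < 16 := by
    intro j hj
    rw [colsN_getD M ⟨j, by omega⟩]
    refine Nat.lt_pow_two_of_testBit (n := 4) _ fun i hi => ?_
    rcases Nat.lt_or_ge i 5 with h5 | h5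
    · have hb := bitV_colN M ⟨j, by omega⟩ ⟨i, h5⟩
      have h4 : (⟨i, h5⟩ : Fin 5) = 4 := Fin.ext (by simp; omega)
      rw [h4, h ⟨j, by omega⟩ hj] at hb
      simp only [bitV] at hb
      have : ((4 : Fin 5) : ℕ) = i := by simp; omega
      rw [this] at hb
      revert hb
      cases (colN M ⟨j, by omega⟩).testBit i <;> simp
    · exact Nat.testBit_eq_false_of_lt (lt_of_lt_of_le (colN_lt M _)
        (Nat.pow_le_pow_right (n := 2) (by norm_num) h5))
  have key : ∀ c < 1024, (∀ n < 10, c.testBit n = true →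
      (pairsI.getD n (0, 0)).1 < 4 ∧ (pairsI.getD n (0, 0)).2 < 4) →
      phiN (enc (pg (colsN M)) c) < 64 := by
    suffices h : ∀ k ≤ 10, ∀ c < 2 ^ k, (∀ n < 10, c.testBit n = true →
        (pairsI.getD n (0, 0)).1 < 4 ∧ (pairsI.getD n (0, 0)).2 < 4) →
        phiN (enc (pg (colsN M)) c) < 64 from h 10 le_rfl
    intro k
    induction k with
    | zero =>
      intro _ c hc _
      obtain rfl : c = 0 := by simpa using hc
      simp [phiN, encZ]
    | succ k ih =>
      intro hk c hc hbits
      by_cases hck : c < 2 ^ k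
      · exact ih (by omega) c hck hbits
      have hck2 : c ^^^ 2 ^ k < 2 ^ k := by
        refine Nat.lt_pow_two_of_testBit _ fun i hi => ?_
        rw [Nat.testBit_xor, Nat.testBit_two_pow]
        rcases Nat.lt_or_eq_of_le hi with h | rfl
        · rw [Nat.testBit_eq_false_of_lt (lt_of_lt_of_le hc (Nat.pow_le_pow_right (by norm_num) h))]
          simp [Nat.ne_of_lt h]
        · have : c / 2 ^ k = 1 := Nat.div_eq_of_lt_le (by omega) (by rw [pow_succ] at hc; omega)
          simp [Nat.testBit, Nat.shiftRight_eq_div_pow, this]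
      have hbit : c.testBit k = true := by
        have : c / 2 ^ k = 1 := Nat.div_eq_of_lt_le (by omega) (by rw [pow_succ] at hc; omega)
        simp [Nat.testBit, Nat.shiftRight_eq_div_pow, this]
      have h1 := ih (by omega) _ hck2 fun n hn hb => by
        refine hbits n hn ?_
        rw [Nat.testBit_xor, Nat.testBit_two_pow] at hb
        by_cases e : k = n
        · exact e ▸ hbit
        · simpa [e] using hb
      obtain ⟨hp1, hp2⟩ := hbits k (by omega) hbit
      have h2 : phiN (enc (pg (colsN M)) (2 ^ k)) < 64 := by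
        rw [enc_two_pow _ _ (by rw [pg_length]; omega), pg_getD _ (by omega)]
        have := List.all_eq_true.1 (List.all_eq_true.1 hyper_check.1 _
          (List.mem_range.2 (hcol _ hp1))) _ (List.mem_range.2 (hcol _ hp2))
        simpa [Nat.blt_eq] using this
      have e : c = c ^^^ 2 ^ k ^^^ 2 ^ k := by rw [Nat.xor_assoc, Nat.xor_self, Nat.xor_zero]
      rw [e, encX, phiN, encX, ← phiN, ← phiN]
      exact Nat.xor_lt_two_pow (n := 6) h1 h2
  refine key _ (psiN_lt a) fun n hn hb => ?_
  have := List.all_eq_true.1 (List.all_eq_true.1 hyper_check.2 a (List.mem_range.2 ha)) n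
    (List.mem_range.2 hn)
  simpa [hb, Nat.blt_eq] using this

theorem dot_bitV : ∀ a < 32, ∀ b < 32,
    (∑ i : Fin 5, bitV a i * bitV b i) = ((pop (a &&& b) % 2 : ℕ) : ZMod 2) := by
  decide +kernel

theorem testBit_bitsOf : ∀ (l : List Bool) (j : ℕ), (bitsOf l).testBit j = l.getD j false
  | [], j => by simp [bitsOf]
  | b :: r, 0 => by cases b <;> simp [bitsOf, Nat.testBit_zero]
  | b :: r, j + 1 => by
    rw [bitsOf, Nat.testBit_succ, show (b.toNat + 2 * bitsOf r) / 2 = bitsOf r by
      cases b <;> simp <;> omega, testBit_bitsOf r j]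
    rfl

theorem row_mul_slPre {M : M5} {φ g : ℕ} (hφ : φ < 32) (hg : g < 6)
    (h : (fun j => M 4 j) = bitV φ) :
    (fun j => (M * (slPre g).1) 4 j) = bitV (rowAct φ (normPre.getD g [])) := by
  funext j
  have hlt : (normPre.getD g []).getD j 0 < 32 := by
    have hl : (j : ℕ) < (normPre.getD g []).length := (pre_facts hg).1.symm ▸ j.2
    rw [List.getD_eq_getElem _ 0 hl]
    exact (pre_facts hg).2.1 _ (List.getElem_mem _)
  rw [Matrix.mul_apply, Finset.sum_congr rfl fun i _ => by
    rw [show M 4 i = bitV φ i from congrFun h i, slPre_val hg, ofCols, Matrix.of_apply],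
    dot_bitV φ hφ _ hlt, bitV, rowAct, testBit_bitsOf, List.getD_eq_getElem _ false (by simp),
    List.getElem_map, List.getElem_range]
  rcases Nat.mod_two_eq_zero_or_one (pop (φ &&& (normPre.getD g []).getD (↑j) 0)) with e | e <;>
    simp only [e] <;> decide

/-- the six elements generate once the hyperplane is moved -/
theorem eq_top_of_pre (I : Subgroup SL5) (hI : ∀ g < 6, slPre g ∈ I)
    (hmove : ∃ M ∈ I, ∃ j : Fin 5, (j : ℕ) < 4 ∧ M.1 4 j ≠ 0) : I = ⊤ := by
  let R : ℕ → Prop := fun φ => ∃ M ∈ I, (fun j => M.1 4 j) = bitV φ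
  obtain ⟨htree, hcov⟩ := axis_check
  set fT : ℕ → ℕ := fun i => (axisTree.getD i (0, 0, 0)).1 with hfT
  have hT : ∀ i < axisTree.length, R (fT i) ↔ R 1 := by
    intro i
    induction i using Nat.strong_induction_on with
    | _ i ih =>
      intro hi
      have h := List.all_eq_true.1 htree i (List.mem_range.2 hi)
      cases hb : Nat.beq i 0
      · rw [hb] at h
        simp only [cond_false, Bool.and_eq_true, Nat.blt_eq, Nat.beq_eq] at h
        obtain ⟨⟨hp, hg⟩, he⟩ := h
        have hlt : ∀ i, fT i < 32 := by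
          intro i
          have key : (axisTree.all fun e => Nat.blt e.1 32) = true := by decide +kernel
          by_cases hi : i < axisTree.length
          · simp only [hfT]
            rw [List.getD_eq_getElem _ _ hi]
            simpa [Nat.blt_eq] using List.all_eq_true.1 key _ (List.getElem_mem hi)
          · simp only [hfT]
            rw [List.getD_eq_default _ _ (not_lt.1 hi)]; norm_num
        rw [← ih _ hp (hp.trans hi)]
        set g := (axisTree.getD i (0, 0, 0)).2.2
        constructor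
        · rintro ⟨M, hM, hrow⟩
          refine ⟨M * (slPre g)⁻¹, mul_mem hM (inv_mem (hI g hg)), ?_⟩
          have h1 : Matrix.vecMul (bitV (fT (axisTree.getD i (0, 0, 0)).2.1)) (slPre g).1 =
              fun j => M.1 4 j := by
            rw [hrow]
            show _ = bitV (fT i)
            simp only [hfT]
            rw [← he]
            have hM0 := row_mul_slPre
              (M := Matrix.of fun _ j => bitV (fT (axisTree.getD i (0, 0, 0)).2.1) j)
              (hlt _) hg rfl
            exact hM0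
          funext j
          rw [Matrix.SpecialLinearGroup.coe_mul]
          show Matrix.vecMul (fun j => M.1 4 j) ((slPre g)⁻¹ : SL5).1 j = _
          rw [← h1, Matrix.vecMul_vecMul, ← Matrix.SpecialLinearGroup.coe_mul, mul_inv_cancel,
            Matrix.SpecialLinearGroup.coe_one, Matrix.vecMul_one]
        · rintro ⟨M, hM, hrow⟩
          refine ⟨M * slPre g, mul_mem hM (hI g hg), ?_⟩
          rw [Matrix.SpecialLinearGroup.coe_mul, row_mul_slPre (hlt _) hg hrow]
          simp only [hfT]
          rw [← he]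
      · rw [hb] at h
        simp only [cond_true, Nat.beq_eq] at h
        simp only [hfT, h]
  have hR : ∀ φ < 32, φ ≠ 0 → φ ≠ 16 → (R φ ↔ R 1) := by
    intro φ hφ h0 h16
    have h := List.all_eq_true.1 hcov φ (List.mem_range.2 hφ)
    simp only [Bool.or_eq_true, Nat.beq_eq, List.any_eq_true, List.mem_range] at h
    rcases h with (h | h) | ⟨i, hi, h⟩
    · exact absurd h h0
    · exact absurd h h16
    · rw [← h]; exact hT i hi
  have hR1 : R 1 := by
    obtain ⟨M, hM, j, hj, hne⟩ := hmove
    set φ := colN M.1.transpose 4 with hφd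
    have hrow : (fun j => M.1 4 j) = bitV φ := funext fun i => by
      rw [hφd, bitV_colN, Matrix.transpose_apply]
    have hv := congrFun hrow j
    refine (hR φ (colN_lt _ _) ?_ ?_).1 ⟨M, hM, hrow⟩
    · intro e; rw [e, bitV_zero] at hv; exact hne hv
    · intro e
      rw [e, bitV, show (16 : ℕ) = 2 ^ 4 by norm_num, Nat.testBit_two_pow] at hv
      simp [Nat.ne_of_gt hj] at hv
      exact hne hv
  -- the transvections with the standard axis
  have hstd : ∀ i : Fin 5, (i : ℕ) < 4 →
      (slPre i).1 = 1 + vecMulVec (bitV (2 ^ (i : ℕ))) (bitV 16) := by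
    intro i hi
    have key : ∀ i : Fin 5, (i : ℕ) < 4 → ofCols (normPre.getD i []) =
        1 + vecMulVec (bitV (2 ^ (i : ℕ))) (bitV 16) := by decide +kernel
    rw [slPre_val (by omega), key i hi]
  have hTh : ∀ x < 16, ∃ M ∈ I, M.1 = 1 + vecMulVec (bitV x) (bitV 16) := by
    intro x hx
    refine bit_induction (P := fun x => ∃ M ∈ I, M.1 = 1 + vecMulVec (bitV x) (bitV 16)) 4
      ⟨1, one_mem _, by simp [bitV_zero]⟩ ?_ ?_ x hx
    · intro i hi
      exact ⟨slPre i, hI i (by omega), hstd ⟨i, by omega⟩ hi⟩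
    · rintro a b - hb ⟨M, hM, ea⟩ ⟨N, hN, eb⟩
      refine ⟨M * N, mul_mem hM hN, ?_⟩
      have hdot : bitV 16 ⬝ᵥ bitV b = 0 := by
        rw [dotProduct, dot_bitV 16 (by norm_num) b (by omega)]
        have : 16 &&& b = 0 := by
          refine Nat.eq_of_testBit_eq fun i => ?_
          rw [Nat.testBit_and, show (16 : ℕ) = 2 ^ 4 by norm_num, Nat.testBit_two_pow]
          by_cases e : 4 = i
          · subst e; simp [Nat.testBit_eq_false_of_lt hb]
          · simp [e]
        rw [this]; decide
      rw [Matrix.SpecialLinearGroup.coe_mul, ea, eb, add_mul, one_mul, mul_add, mul_one,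
        vecMulVec_mul_vecMulVec, hdot, zero_smul, Matrix.vecMulVec_zero, add_zero, bitV_xor,
        Matrix.add_vecMulVec]
      abel
  have htrans : ∀ i j : Fin 5, i ≠ j → ∀ c : ZMod 2, ∃ M ∈ I, M.1 = Matrix.transvection i j c := by
    intro i j hij c
    rcases zmod2_cases c with rfl | rfl
    · exact ⟨1, one_mem _, by rw [Matrix.transvection_zero]; rfl⟩
    obtain ⟨M, hM, hrow⟩ : R (2 ^ (j : ℕ)) := by
      by_cases hj : (j : ℕ) = 4
      · exact ⟨1, one_mem _, funext fun k => by
          rw [bitV_two_pow, Matrix.SpecialLinearGroup.coe_one, Pi.single_apply, Matrix.one_apply,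
            show j = 4 from Fin.ext hj]
          simp [eq_comm]⟩
      · refine (hR _ (Nat.pow_lt_pow_right (a := 2) (n := 5) (by norm_num) j.2) (by positivity)
          fun e => hj ?_).2 hR1
        exact Nat.pow_right_injective le_rfl (e.trans (by norm_num : (16 : ℕ) = 2 ^ 4))
    have hM4 : M.1 4 i = 0 := by
      rw [congrFun hrow i, bitV_two_pow, Pi.single_apply, if_neg hij]
    have hx : colN M.1 i < 16 := by
      refine Nat.lt_pow_two_of_testBit (n := 4) _ fun k hk => ?_
      rcases Nat.lt_or_ge k 5 with h5 | h5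
      · obtain rfl : k = 4 := by omega
        have := bitV_colN M.1 i 4
        rw [hM4] at this
        simp only [bitV] at this
        revert this
        cases h : (colN M.1 i).testBit 4
        · simp
        · simp [h]
      · exact Nat.testBit_eq_false_of_lt (lt_of_lt_of_le (colN_lt _ _)
          (Nat.pow_le_pow_right (n := 2) (by norm_num) h5))
    obtain ⟨T, hT', eT⟩ := hTh _ hx
    refine ⟨M⁻¹ * T * M, mul_mem (mul_mem (inv_mem hM) hT') hM, ?_⟩
    have e1 : (M⁻¹).1 *ᵥ bitV (colN M.1 i) = Pi.single i 1 := by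
      have : bitV (colN M.1 i) = M.1 *ᵥ Pi.single i 1 := funext fun k => by
        rw [bitV_colN, Matrix.mulVec_single_one]; rfl
      rw [this, Matrix.mulVec_mulVec, ← Matrix.SpecialLinearGroup.coe_mul, inv_mul_cancel,
        Matrix.SpecialLinearGroup.coe_one, Matrix.one_mulVec]
    have e2 : Matrix.vecMul (bitV 16) M.1 = Pi.single j 1 := by
      rw [show (16 : ℕ) = 2 ^ ((4 : Fin 5) : ℕ) by norm_num, bitV_two_pow,
        Matrix.single_one_vecMul, ← bitV_two_pow j, ← hrow]
      rfl
    rw [Matrix.SpecialLinearGroup.coe_mul, Matrix.SpecialLinearGroup.coe_mul, eT, mul_add, add_mul,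
      mul_one, ← Matrix.SpecialLinearGroup.coe_mul, inv_mul_cancel,
      Matrix.SpecialLinearGroup.coe_one, Matrix.mul_vecMulVec, Matrix.vecMulVec_mul, e1, e2,
      Matrix.transvection, Matrix.single_eq_single_vecMulVec_single]
  rw [eq_top_iff]
  intro N _
  have : ∃ M ∈ I, M.1 = N.1 := by
    refine Matrix.diagonal_transvection_induction_of_det_ne_zero
      (fun X => ∃ M ∈ I, M.1 = X) N.1 (by rw [N.2]; exact one_ne_zero) ?_ ?_ ?_
    · intro D hD
      have hD1 : D = fun _ => 1 := funext fun k => by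
        rw [Matrix.det_diagonal, Finset.prod_ne_zero_iff] at hD
        exact (zmod2_cases (D k)).resolve_left (hD k (Finset.mem_univ k))
      exact ⟨1, one_mem _, by rw [hD1]; simp⟩
    · intro t
      exact htrans t.i t.j t.hij t.c
    · rintro A B - - ⟨M, hM, rfl⟩ ⟨M', hM', rfl⟩
      exact ⟨M * M', mul_mem hM hM', rfl⟩
  obtain ⟨M, hM, e⟩ := this
  exact Subtype.ext e ▸ hM

end CfsgLib.Spor.JankoFourTen
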