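import Cfsg.Agent.Lib.Spor.GolayCode
import Cfsg.Agent.Lib.Spor.JankoFourTen.Data
import Cfsg.Agent.Lib.Spor.JankoFourTen.ActData

/-!
Kernel checks identifying the symmetries of the two classes of the ten-dimensional space with the
linear group of five-space acting on the exterior square.
-/

set_option autoImplicit false
set_option maxRecDepth 100000

namespace CfsgLib.Spor.JankoFourTen

open CfsgLib.Spor

/-- the pairs below five in lexicographic order -/
def pairsI : List (ℕ × ℕ) :=
  [(0, 1), (0, 2), (0, 3), (0, 4), (1, 2), (1, 3), (1, 4), (2, 3), (2, 4), (3, 4)]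

/-- one coordinate of a wedge -/
def wBit (x y : ℕ) (p : ℕ × ℕ) : Bool :=
  (x.testBit p.1 && y.testBit p.2) != (x.testBit p.2 && y.testBit p.1)

/-- assemble bits -/
def bitsOf : List Bool → ℕ
  | [] => 0
  | b :: r => b.toNat + 2 * bitsOf r

/-- the wedge of two vectors of five-space -/
def w2 (x y : ℕ) : ℕ := bitsOf (pairsI.map (wBit x y))

/-- the second compound of a list of columns -/
def pg (g : List ℕ) : List ℕ := pairsI.map fun p => w2 (g.getD p.1 0) (g.getD p.2 0)

/-- from wedge coordinates to the subgroup -/
def phiN (c : ℕ) : ℕ := enc wedgeIm c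

/-- from the subgroup to wedge coordinates -/
def psiN (a : ℕ) : ℕ := enc wedgeInv a

/-- the action of a list of columns on the subgroup -/
def rhoN (g : List ℕ) (a : ℕ) : ℕ := phiN (enc (pg g) (psiN a))

/-- the membership test of the first class -/
def inS (a : ℕ) : Bool := zMask.testBit a

/-- the standard basis -/
def idCols : List ℕ := [1, 2, 4, 8, 16]

theorem w2_lt_check : ((List.range 32).all fun x => (List.range 32).all fun y =>
    Nat.blt (w2 x y) 1024) = true := by decide +kernel

theorem w2_symm_check : ((List.range 32).all fun x => (List.range 32).all fun y =>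
    Nat.beq (w2 x y) (w2 y x) && (!Nat.beq x y || Nat.beq (w2 x y) 0)) = true := by decide +kernel

theorem w2_add_check : ((List.range 32).all fun x => (List.range 5).all fun j =>
    (List.range 32).all fun y =>
      Nat.beq (w2 (x ^^^ 2 ^ j) y) (w2 x y ^^^ w2 (2 ^ j) y)) = true := by decide +kernel

theorem w2_basis_check : ((List.range 10).all fun n =>
    Nat.beq (w2 (2 ^ (pairsI.getD n (0, 0)).1) (2 ^ (pairsI.getD n (0, 0)).2)) (2 ^ n) &&
      Nat.blt (pairsI.getD n (0, 0)).1 5 && Nat.blt (pairsI.getD n (0, 0)).2 5) = true := by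
  decide +kernel

theorem wedge_check : wedgeIm.length = 10 ∧ wedgeInv.length = 10 ∧
    (wedgeIm.all fun a => Nat.blt a 1024) = true ∧ (wedgeInv.all fun a => Nat.blt a 1024) = true ∧
    ((List.range 10).all fun j => Nat.beq (phiN (psiN (2 ^ j))) (2 ^ j) &&
      Nat.beq (psiN (phiN (2 ^ j))) (2 ^ j) && Nat.beq (rhoN idCols (2 ^ j)) (2 ^ j)) = true := by
  decide +kernel

/-- a wedge equation is solvable -/
def solv (x e : ℕ) : Bool := (List.range 32).any fun y => Nat.beq (w2 x y) e

theorem faith_check : ((List.range 32).all fun x => (List.range 5).all fun i =>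
    Nat.beq x (2 ^ i) || (List.range 5).any fun j =>
      !Nat.beq i j && !solv x (w2 (2 ^ i) (2 ^ j))) = true := by
  decide +kernel

/-- one step of the certificate -/
def certOK (k : ℕ) : Bool :=
  let prev := certBase.take k
  let b := certBase.getD k 0
  let steps := (certSteps.getD k []).zip (certInvs.getD k [])
  (List.range 1024).all fun c =>
    (List.range (2 ^ k)).any (fun v => inS (enc prev v ^^^ c) != inS (enc prev v ^^^ b)) ||
    (List.range (2 ^ k)).any (fun v => Nat.beq (enc prev v) c) ||
    steps.any fun e => Nat.beq e.1.1 c && Nat.beq (rhoN e.1.2 c) b &&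
      (prev.all fun p => Nat.beq (rhoN e.1.2 p) p) && Nat.beq e.1.2.length 5 &&
      (e.1.2.all fun x => Nat.blt x 32) && (e.2.all fun x => Nat.blt x 32) && Nat.beq e.2.length 5 &&
      (List.range 5).all fun j => Nat.beq (enc e.1.2 (e.2.getD j 0)) (2 ^ j)

theorem cert_check_0 : ((List.range 8).all certOK) = true := by decide +kernel

theorem cert_check_1 : certOK 8 = true := by decide +kernel

theorem cert_check_2 : certOK 9 = true := by decide +kernel

theorem cert_base_check : certBase.length = 10 ∧
    ((List.range 10).all fun j => Nat.blt (certBase.getD j 0) 1024 &&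
      (List.range 1024).any fun d => Nat.beq (enc certBase d) (2 ^ j)) = true ∧
    ((List.range 10).all fun k => (List.range (2 ^ k)).all fun v =>
      !Nat.beq (enc (certBase.take k) v) (certBase.getD k 0)) = true := by
  decide +kernel

theorem dec_check :
    ((List.range 1024).all fun a => !inS a || decTbl.any fun e => Nat.beq e.1 a &&
      Nat.blt e.2.1 32 && Nat.blt e.2.2 32 && Nat.beq (w2 e.2.1 e.2.2) (psiN a)) = true ∧
    ((List.range 32).all fun x => (List.range 32).all fun y =>
      Nat.beq (w2 x y) 0 || inS (phiN (w2 x y))) = true ∧ inS 0 = false := by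
  decide +kernel

theorem pre_check : actMats.length = 6 ∧ normPre.length = 6 ∧
    ((List.range 6).all fun g => (List.range 10).all fun k =>
      Nat.beq (enc (actMats.getD g []) (2 ^ k)) (rhoN (normPre.getD g []) (2 ^ k))) = true ∧
    ((List.range 6).all fun g => Nat.beq (normPre.getD g []).length 5 &&
      ((normPre.getD g []).all fun x => Nat.blt x 32) &&
      ((normPreInv.getD g []).all fun x => Nat.blt x 32) &&
      (List.range 5).all fun j =>
        Nat.beq (enc (normPre.getD g []) ((normPreInv.getD g []).getD j 0)) (2 ^ j)) = true := by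
  decide +kernel

theorem shift_check : ((List.range 4).all fun i =>
    Nat.beq ((normPre.getD i []).getD 4 0) (16 ^^^ 2 ^ i) &&
      (List.range 4).all fun j => Nat.beq ((normPre.getD i []).getD j 0) (2 ^ j)) = true := by
  decide +kernel

theorem hyper_check : ((List.range 16).all fun x => (List.range 16).all fun y =>
      Nat.blt (phiN (w2 x y)) 64) = true ∧
    ((List.range 64).all fun a => (List.range 10).all fun n =>
      !(psiN a).testBit n || (Nat.blt (pairsI.getD n (0, 0)).1 4 && Nat.blt (pairsI.getD n (0, 0)).2 4)) = true := by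
  decide +kernel

/-- the functional composed with a linear map -/
def rowAct (φ : ℕ) (g : List ℕ) : ℕ :=
  bitsOf ((List.range 5).map fun j => Nat.beq (pop (φ &&& g.getD j 0) % 2) 1)

theorem axis_check :
    ((List.range axisTree.length).all fun i =>
      bif Nat.beq i 0 then Nat.beq (axisTree.getD i (0, 0, 0)).1 1 else
        Nat.blt (axisTree.getD i (0, 0, 0)).2.1 i && Nat.blt (axisTree.getD i (0, 0, 0)).2.2 6 &&
        Nat.beq (rowAct (axisTree.getD (axisTree.getD i (0, 0, 0)).2.1 (0, 0, 0)).1
          (normPre.getD (axisTree.getD i (0, 0, 0)).2.2 [])) (axisTree.getD i (0, 0, 0)).1) = true ∧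
    ((List.range 32).all fun φ => Nat.beq φ 0 || Nat.beq φ 16 ||
      (List.range axisTree.length).any fun i => Nat.beq (axisTree.getD i (0, 0, 0)).1 φ) = true := by
  decide +kernel

end CfsgLib.Spor.JankoFourTen
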