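import Cfsg.Agent.Lib.Spor.JankoFourTen.Normalizer
import Cfsg.Agent.Lib.Spor.LargeJ4.Assembly
import Cfsg.Agent.Lib.Spor.JankoFourCentral.Local

/-!
The self-centralising elementary abelian subgroups of order `2^10` in a group of Janko-four type.
-/

set_option autoImplicit false
set_option maxRecDepth 100000

universe u

namespace CfsgLib.Spor.JankoFourTen

open Cfsg CfsgLib.Spor CfsgLib.Spor.JankoFourCentral

variable {G : Type u} [Group G] [Finite G]

/-- transport of the normaliser properties along an automorphism -/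
theorem map_map_symm (e : G ≃* G) (H : Subgroup G) :
    (H.map e.toMonoidHom).map e.symm.toMonoidHom = H := by
  rw [Subgroup.map_map]
  conv_rhs => rw [← Subgroup.map_id H]
  congr 1
  ext x; simp

/-- the structure of the normaliser of a self-centralising elementary abelian subgroup of order
`2^10` -/
theorem ten_structure [IsSimpleGroup G] (hG : ¬ IsMulCommutative G)
    (hJ : Cfsg.IsOfJankoFourType G) :
    ∃ A0 : Subgroup G, Cfsg.IsElementaryAbelian 2 A0 ∧ Nat.card ↥A0 = 2 ^ 10 ∧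
      Subgroup.centralizer (A0 : Set G) = A0 ∧
      (∀ A : Subgroup G, Cfsg.IsElementaryAbelian 2 A → Nat.card ↥A = 2 ^ 10 →
        Subgroup.centralizer (A : Set G) = A → ∃ g : G, A.map (MulAut.conj g).toMonoidHom = A0) ∧
      (∃ B : Subgroup G, B ≤ Subgroup.normalizer (A0 : Set G) ∧ B ⊓ A0 = ⊥ ∧
        B ⊔ A0 = Subgroup.normalizer (A0 : Set G) ∧
        Nonempty (↥B ≃* Matrix.SpecialLinearGroup (Fin 5) (ZMod 2))) ∧
      (∀ W : Subgroup G, W ≤ A0 → Subgroup.normalizer (A0 : Set G) ≤ Subgroup.normalizer (W : Set G) →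
        W = ⊥ ∨ W = A0) ∧
      ∃ a b : G, a ∈ A0 ∧ b ∈ A0 ∧
        Set.ncard {v : G | ∃ n ∈ Subgroup.normalizer (A0 : Set G), n * a * n⁻¹ = v} = 155 ∧
        Set.ncard {v : G | ∃ n ∈ Subgroup.normalizer (A0 : Set G), n * b * n⁻¹ = v} = 868 := by
  obtain ⟨z, hz⟩ : ∃ z : G, Cfsg.IsOfJankoFourTypeAt z := hJ
  obtain ⟨A, _, ⟨D⟩⟩ := CfsgLib.Spor.LargeFi.J4.exists_eleven hG hz
  have hord : orderOf z = 2 := hz.choose_spec.1
  have hconj : ∀ u : G, u * u = 1 → ∃ g : G, g * u * g⁻¹ ∈ D.V := fun u hu =>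
    D.exists_conj_mem hord (D.E₀_nonabelian hz) (D.core_fusion hz) hu
  have hcent := D.cent_le hz
  exact ⟨D.tenA, D.tenA_elem, D.natCard_tenA, D.tenA_centralizer hcent,
    fun A he hc hs => D.exists_conj_tenA he hc hs, D.exists_complement hconj hcent hz,
    fun W hW hN => D.irreducible hconj hcent hz hW hN, D.orbit_lengths hconj hcent hz⟩

/-- existence, conjugacy, complement and irreducibility -/
theorem ten_main [IsSimpleGroup G] (hG : ¬ IsMulCommutative G) (hJ : Cfsg.IsOfJankoFourType G) :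
    (∃ A : Subgroup G, Cfsg.IsElementaryAbelian 2 A ∧ Nat.card ↥A = 2 ^ 10 ∧
      Subgroup.centralizer (A : Set G) = A) ∧
    (∀ A A' : Subgroup G, Cfsg.IsElementaryAbelian 2 A → Nat.card ↥A = 2 ^ 10 →
      Subgroup.centralizer (A : Set G) = A → Cfsg.IsElementaryAbelian 2 A' →
      Nat.card ↥A' = 2 ^ 10 → Subgroup.centralizer (A' : Set G) = A' →
      ∃ g : G, A' = A.map (MulAut.conj g).toMonoidHom) ∧
    ∀ A : Subgroup G, Cfsg.IsElementaryAbelian 2 A → Nat.card ↥A = 2 ^ 10 →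
      Subgroup.centralizer (A : Set G) = A →
      (∃ B : Subgroup G, B ≤ Subgroup.normalizer (A : Set G) ∧ B ⊓ A = ⊥ ∧
        B ⊔ A = Subgroup.normalizer (A : Set G) ∧
        Nonempty (↥B ≃* Matrix.SpecialLinearGroup (Fin 5) (ZMod 2))) ∧
      ∀ W : Subgroup G, W ≤ A → Subgroup.normalizer (A : Set G) ≤ Subgroup.normalizer (W : Set G) →
        W = ⊥ ∨ W = A := by
  obtain ⟨A0, h1, h2, h3, hconjA, ⟨B, hB1, hB2, hB3, ⟨eB⟩⟩, hirr, -⟩ := ten_structure hG hJ
  refine ⟨⟨A0, h1, h2, h3⟩, ?_, ?_⟩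
  · intro A A' hA hAc hAs hA' hA'c hA's
    obtain ⟨g, hg⟩ := hconjA A hA hAc hAs
    obtain ⟨h, hh⟩ := hconjA A' hA' hA'c hA's
    refine ⟨h⁻¹ * g, ?_⟩
    have e := map_map_symm (MulAut.conj h) A'
    rw [hh, ← hg, Subgroup.map_map] at e
    conv_lhs => rw [← e]
    congr 1
    ext x
    simp [MulAut.conj_symm_apply, mul_assoc]
  · intro A hA hAc hAs
    obtain ⟨g, hg⟩ := hconjA A hA hAc hAs
    set e : G ≃* G := MulAut.conj g
    have hA0 : A0.map e.symm.toMonoidHom = A := by rw [← hg]; exact map_map_symm e A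
    have hN : (Subgroup.normalizer (A0 : Set G)).map e.symm.toMonoidHom =
        Subgroup.normalizer (A : Set G) := by
      rw [Subgroup.map_equiv_normalizer_eq, hA0]
    refine ⟨⟨B.map e.symm.toMonoidHom, ?_, ?_, ?_,
      ⟨(B.equivMapOfInjective e.symm.toMonoidHom e.symm.injective).symm.trans eB⟩⟩, ?_⟩
    · rw [← hN]; exact Subgroup.map_mono hB1
    · rw [← hA0, ← Subgroup.map_inf _ _ _ e.symm.injective, hB2, Subgroup.map_bot]
    · conv_lhs => rw [← hA0, ← Subgroup.map_sup, hB3]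
      exact hN
    · intro W hW hWN
      have hmm : ∀ H : Subgroup G, (H.map e.toMonoidHom).map e.symm.toMonoidHom = H :=
        map_map_symm e
      have hWle : W.map e.toMonoidHom ≤ A0 := hg ▸ Subgroup.map_mono hW
      have hWn : Subgroup.normalizer (A0 : Set G) ≤
          Subgroup.normalizer (W.map e.toMonoidHom : Set G) := by
        rw [← hg, ← Subgroup.map_equiv_normalizer_eq, ← Subgroup.map_equiv_normalizer_eq]
        exact Subgroup.map_mono hWN
      rcases hirr _ hWle hWn with h | h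
      · left
        rw [← hmm W, h, Subgroup.map_bot]
      · right
        rw [← hmm W, h, hA0]

/-- the two orbits of the normaliser -/
theorem ten_orbits [IsSimpleGroup G] (hG : ¬ IsMulCommutative G) (hJ : Cfsg.IsOfJankoFourType G)
    (A : Subgroup G) (hA : Cfsg.IsElementaryAbelian 2 A) (hcard : Nat.card ↥A = 2 ^ 10)
    (hself : Subgroup.centralizer (A : Set G) = A) :
    ∃ a b : G, a ∈ A ∧ b ∈ A ∧
      Set.ncard {v : G | ∃ n ∈ Subgroup.normalizer (A : Set G), n * a * n⁻¹ = v} = 155 ∧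
      Set.ncard {v : G | ∃ n ∈ Subgroup.normalizer (A : Set G), n * b * n⁻¹ = v} = 868 := by
  obtain ⟨A0, -, -, -, hconjA, -, -, a, b, ha, hb, hna, hnb⟩ := ten_structure hG hJ
  obtain ⟨g, hg⟩ := hconjA A hA hcard hself
  set e : G ≃* G := MulAut.conj g
  have hA0 : A0.map e.symm.toMonoidHom = A := by rw [← hg]; exact map_map_symm e A
  have hN : (Subgroup.normalizer (A0 : Set G)).map e.symm.toMonoidHom =
      Subgroup.normalizer (A : Set G) := by
    rw [Subgroup.map_equiv_normalizer_eq, hA0]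
  have horb : ∀ x : G,
      {v : G | ∃ n ∈ Subgroup.normalizer (A : Set G), n * e.symm x * n⁻¹ = v} =
        e.symm '' {v : G | ∃ n ∈ Subgroup.normalizer (A0 : Set G), n * x * n⁻¹ = v} := by
    intro x
    ext v
    simp only [Set.mem_ofPred_eq, Set.mem_image]
    constructor
    · rintro ⟨n, hn, rfl⟩
      rw [← hN] at hn
      obtain ⟨m, hm, rfl⟩ := Subgroup.mem_map.1 hn
      exact ⟨_, ⟨m, hm, rfl⟩, by simp⟩
    · rintro ⟨_, ⟨m, hm, rfl⟩, rfl⟩
      exact ⟨e.symm m, hN ▸ ⟨m, hm, rfl⟩, by simp⟩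
  refine ⟨e.symm a, e.symm b, hA0 ▸ ⟨a, ha, rfl⟩, hA0 ▸ ⟨b, hb, rfl⟩, ?_, ?_⟩
  · rw [horb, Set.ncard_image_of_injective _ e.symm.injective, hna]
  · rw [horb, Set.ncard_image_of_injective _ e.symm.injective, hnb]

end CfsgLib.Spor.JankoFourTen
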