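import Mathlib

/-!
Numerical data for the normaliser of the subgroup of order `2^10`: power and commutation words in a
complement of order `2^10`, and orbit bit sets.
-/

set_option autoImplicit false
set_option maxRecDepth 100000

namespace CfsgLib.Spor.JankoFourTen

/-- squares of the complement generators -/
def pcSquares : List ℕ := [0, 0, 0, 0, 7, 25, 2, 49, 0, 218]

/-- conjugates among the complement generators -/
def pcConjs : List (List ℕ) := [
  [],
  [1],
  [3, 2],
  [6, 2, 3],
  [4, 2, 3, 13],
  [6, 2, 1, 22, 11],
  [48, 2, 43, 10, 35, 59],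
  [48, 2, 41, 17, 63, 39, 115],
  [241, 2, 232, 8, 231, 57, 66, 67],
  [243, 2, 41, 440, 404, 379, 91, 90, 283]]

/-- the orbit of length 35 as a bit set -/
def o35Mask : ℕ := 0x177e7ee87ee8e880

/-- the orbit of length 120 as a bit set -/
def o120Mask : ℕ := 0x210400804802001012008404008200101402008082040010024420018000081100408200280400110080240042080010018240042000081024004201008800102041080402008010410028020084001004218002400008104022040108008010108402020400801042010080240800110020480084020010000000000000000

/-- the orbit of length 840 as a bit set -/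
def o840Mask : ℕ := 0xfdefbff7fb7fdffefedff7bfbff7dffefebfdff7f7dfbffeffdbbdffe7ffff7eeffbf7dffd7fbffeeff7fdbffbdf7ffeffe7dbffbdffff7efdbffbdfeff77ffefdfbef7fbfdff7fefbeffd7fdff7bffeffbde7ffdbffff7efbfddfbfef7ff7fefef7bfdfdfbff7fefbdfeff7fdbf7ffeeffdfb7ff7bfdffe0000000000000000

end CfsgLib.Spor.JankoFourTen
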