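import Cfsg.Agent.Lib.Spor.Census
import Cfsg.Agent.Lib.Spor.JankoFourCentral.Checks
import Cfsg.Agent.Lib.Spor.JankoFourTen.Data

/-!
Kernel checks for the pointwise stabiliser of the octad, its fixed space and its lifts.
-/

set_option autoImplicit false
set_option maxRecDepth 100000

namespace CfsgLib.Spor.JankoFourTen

open CfsgLib.Spor CfsgLib.Spor.JankoFourCentral

/-- a packed element of the pointwise stabiliser -/
def eOf (b : ℕ) : ℕ := eList.getD b 0

/-- the coordinates of a vector of the fixed space -/
def wC (a : ℕ) : ℕ := enc wCodes a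

/-- two masks are congruent modulo the fixed space -/
def inW (m : ℕ) : Bool := (List.range 64).any fun a => inCode (m ^^^ enc wBasis a)

/-- a code is fixed by a packed permutation -/
def fixC (e c : ℕ) : Bool := inCode (enc evBasis c ^^^ actP e (enc evBasis c))

/-- two lifts commute -/
def commC (e f r r' : ℕ) : Bool :=
  inCode ((enc evBasis r ^^^ actP e (enc evBasis r')) ^^^ (enc evBasis r' ^^^ actP f (enc evBasis r)))

/-- the lift is the conjugate of the standard one by a vector -/
def absorb (e r u : ℕ) : Bool :=
  inW (enc evBasis r ^^^ (enc evBasis u ^^^ actP e (enc evBasis u)))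

theorem eList_check : eList.length = 16 ∧ Nat.beq (eOf 0) idP = true ∧
    (eList.all fun e => isM24P e && Nat.beq (compP idP e) e &&
      (List.range 24).all fun i => !octO.testBit i || Nat.beq (getP e i) i) = true ∧
    eList.Nodup ∧
    ((List.range 16).all fun a => (List.range 16).all fun b =>
      Nat.beq (compP (eOf a) (eOf b)) (compP (eOf (a ^^^ b)) idP)) = true := by
  decide +kernel

theorem wC_check : ((List.range 64).all fun a => Nat.blt (wC a) 2048 && wMask.testBit (wC a) &&
    (Nat.beq a 0 || !Nat.beq (wC a) 0) && inCode (enc evBasis (wC a) ^^^ enc wBasis a) &&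
    eList.all fun e => fixC e (wC a)) = true ∧
    (wBasis.all fun m => Nat.blt m 16777216 && Nat.beq (pop m % 2) 0) = true := by
  decide +kernel

theorem wBasis_head : enc wBasis 1 = 3 ∧ pop 3 = 2 := by decide +kernel

theorem fixE_check : ((List.range 2048).all fun c => wMask.testBit c ||
    [1, 2, 4, 8].any fun b => !fixC (eOf b) c) = true := by
  decide +kernel

theorem qReps_check : ((List.range 2048).all fun c => (List.range 32).any fun r =>
    wMask.testBit (c ^^^ r)) = true := by
  decide +kernel

theorem cocycle_check : ((List.range 32).all fun r₀ => !fixC (eOf 1) r₀ ||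
    (List.range 32).all fun r₁ => !fixC (eOf 2) r₁ || !commC (eOf 1) (eOf 2) r₀ r₁ ||
      (List.range 32).all fun r₂ => !fixC (eOf 4) r₂ || !commC (eOf 1) (eOf 4) r₀ r₂ ||
        !commC (eOf 2) (eOf 4) r₁ r₂ ||
        (List.range 32).all fun r₃ => !fixC (eOf 8) r₃ || !commC (eOf 1) (eOf 8) r₀ r₃ ||
          !commC (eOf 2) (eOf 8) r₁ r₃ || !commC (eOf 4) (eOf 8) r₂ r₃ ||
          (List.range 32).any fun u => absorb (eOf 1) r₀ u && absorb (eOf 2) r₁ u &&
            absorb (eOf 4) r₂ u && absorb (eOf 8) r₃ u) = true := by
  decide +kernel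

theorem octO_check : inCode octO = true ∧ Nat.beq (pop octO) 8 = true ∧
    Nat.blt octO 16777216 = true ∧
    ((List.range 24).all fun i => (List.range 24).all fun j =>
      !octO.testBit i || !octO.testBit j || Nat.beq i j || inW (2 ^ i ^^^ 2 ^ j)) = true ∧
    ((List.range 24).all fun i => !octO.testBit i || (List.range 24).any fun j =>
      octO.testBit j && !Nat.beq i j && (List.range 24).any fun k =>
        octO.testBit k && !Nat.beq i k && !Nat.beq j k) = true := by
  decide +kernel

end CfsgLib.Spor.JankoFourTen
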