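import Cfsg.Agent.Lib.Spor.Syl2
import Cfsg.Agent.Lib.Spor.JankoFourTen.TenCheck
import Cfsg.Agent.Lib.Spor.JankoFourTen.ActData
import Cfsg.Agent.Lib.Spor.JankoFourTen.NormData

/-!
Kernel checks for the normaliser of the subgroup of order `2^10`: generators, orbits, class
separation and a complement inside a 2-subgroup of order `2^20`.
-/

set_option autoImplicit false
set_option maxRecDepth 100000

namespace CfsgLib.Spor.JankoFourTen

open CfsgLib.Spor CfsgLib.Spor.JankoFourCentral

/-- a row of an action matrix -/
def actRow (g j : ℕ) : ℕ := (actMats.getD g []).getD j 0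

theorem uAct_check : uReps.length = 4 ∧
    (uReps.all fun m => Nat.blt m 16777216 && Nat.beq (pop m % 2) 0) = true ∧
    ((List.range 4).all fun g => Nat.beq (actMats.getD g []).length 10 &&
      ((List.range 6).all fun j => Nat.beq (actRow g j) (2 ^ j)) &&
      (List.range 4).all fun i => Nat.beq (actRow g (6 + i) / 64) (2 ^ i) &&
        inCode ((uReps.getD g 0 ^^^ actP (eOf (2 ^ i)) (uReps.getD g 0)) ^^^
          enc wBasis (actRow g (6 + i) % 64))) = true := by
  decide +kernel

theorem gAct_check : gList.length = 2 ∧
    ((List.range 2).all fun g => isM24P (gList.getD g 0) &&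
      Nat.beq (actMats.getD (4 + g) []).length 10 &&
      ((List.range 6).all fun j => Nat.blt (actRow (4 + g) j) 64 &&
        inCode (actP (gList.getD g 0) (enc wBasis (2 ^ j)) ^^^ enc wBasis (actRow (4 + g) j))) &&
      (List.range 4).all fun i => Nat.beq (actRow (4 + g) (6 + i) % 64) 0 &&
        Nat.blt (actRow (4 + g) (6 + i)) 1024 &&
        Nat.beq (compP (gList.getD g 0) (eOf (2 ^ i)))
          (compP (eOf (actRow (4 + g) (6 + i) / 64)) (gList.getD g 0))) = true := by
  decide +kernel

/-- a spanning tree check -/
def treeOK (t : List (ℕ × ℕ × ℕ)) (r : ℕ) : Bool :=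
  (List.range t.length).all fun i =>
    bif Nat.beq i 0 then Nat.beq (t.getD i (0, 0, 0)).1 r else
      Nat.blt (t.getD i (0, 0, 0)).2.1 i && Nat.blt (t.getD i (0, 0, 0)).2.2 6 &&
      Nat.beq (enc (actMats.getD (t.getD i (0, 0, 0)).2.2 [])
        (t.getD (t.getD i (0, 0, 0)).2.1 (0, 0, 0)).1) (t.getD i (0, 0, 0)).1

theorem tree_check : treeOK orbTree28 1 = true ∧ treeOK orbTree35 7 = true ∧
    treeOK orbTree120 64 = true ∧ treeOK orbTree840 65 = true := by
  decide +kernel

/-- whether a point occurs in a tree -/
def inTree (t : List (ℕ × ℕ × ℕ)) (a : ℕ) : Bool := t.any fun e => Nat.beq e.1 a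

theorem cover_check : ((List.range 1024).all fun a => Nat.beq a 0 ||
    (inTree orbTree28 a && !o35Mask.testBit a && !o120Mask.testBit a && !o840Mask.testBit a &&
      !zMask.testBit a && Nat.blt a 64) ||
    (inTree orbTree35 a && o35Mask.testBit a && !o120Mask.testBit a && !o840Mask.testBit a &&
      zMask.testBit a && Nat.blt a 64) ||
    (inTree orbTree120 a && !o35Mask.testBit a && o120Mask.testBit a && !o840Mask.testBit a &&
      zMask.testBit a && Nat.ble 64 a) ||
    (inTree orbTree840 a && !o35Mask.testBit a && !o120Mask.testBit a && o840Mask.testBit a &&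
      !zMask.testBit a && Nat.ble 64 a)) = true := by
  decide +kernel

/-- the candidate first class -/
def zCand (b120 b840 : Bool) : ℕ :=
  o35Mask ||| (bif b120 then o120Mask else 0) ||| (bif b840 then o840Mask else 0)

/-- the number of ways a point is a sum inside a set -/
def sumDeg (X a : ℕ) : ℕ :=
  ((List.range 1024).filter fun b => X.testBit b && X.testBit (a ^^^ b)).length

theorem deg_check :
    ((List.range 64).all fun w => Nat.beq w 0 ||
      (!Nat.beq (sumDeg (zCand false false) w) (sumDeg (zCand false false) 64) &&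
       !Nat.beq (sumDeg (zCand false true) w) (sumDeg (zCand false true) 64) &&
       !Nat.beq (sumDeg (zCand true true) w) (sumDeg (zCand true true) 64))) = true := by
  decide +kernel

theorem class_count_check :
    ((List.range 1024).filter fun a => zMask.testBit a).length = 155 ∧
    ((List.range 1024).filter fun a => !zMask.testBit a && !Nat.beq a 0).length = 868 ∧
    ((List.range 10).all fun j =>
      ((List.range 1024).any fun a => zMask.testBit a && zMask.testBit (a ^^^ 2 ^ j)) &&
      (List.range 1024).any fun a => !zMask.testBit a && !Nat.beq a 0 &&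
        !zMask.testBit (a ^^^ 2 ^ j) && !Nat.beq (a ^^^ 2 ^ j) 0) = true := by
  decide +kernel

/-- the small representative of a vector of the fixed space -/
def wNorm (a : ℕ) : ℕ :=
  bif Nat.beq (pop (enc wBasis a)) 6 then enc wBasis a ^^^ octO else enc wBasis a

theorem wNorm_check : ((List.range 64).all fun a => Nat.beq a 0 ||
    (inCode (enc wBasis a ^^^ wNorm a) && Nat.blt (wNorm a) 16777216 &&
      Nat.beq (pop (wNorm a)) (bif zMask.testBit a then 4 else 2))) = true := by
  decide +kernel

/-- a basis of the subspace of vectors in the 2-subgroup of order `2^20` -/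
def uwBasis : List ℕ := wBasis ++ uReps

theorem tp_check :
    Nat.beq (pop 29) 4 = true ∧
    (syl2Gens.all fun a => inCode (29 ^^^ actP a 29) &&
      ((List.range 10).all fun j => (List.range 1024).any fun c =>
        inCode (actP a (uwBasis.getD j 0) ^^^ enc uwBasis c)) &&
      ((List.range 6).all fun j => inW (actP a (enc wBasis (2 ^ j)))) &&
      (List.range 4).all fun i => (List.range 16).any fun b =>
        Nat.beq (compP a (eOf (2 ^ i))) (compP (eOf b) a)) = true ∧
    ((List.range 1024).all fun c => Nat.beq c 0 || !inCode (enc uwBasis c)) = true ∧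
    ((List.range 64).all fun c => Nat.beq (enc uwBasis c) (enc wBasis c)) = true ∧
    uwBasis.length = 10 := by
  decide +kernel

/-- a complement generator -/
def xGen (i : ℕ) : ℕ × ℕ := (enc evBasis (pcGens.getD i (0, 0)).1, (pcGens.getD i (0, 0)).2)

/-- the product of a mask-permutation pair with another -/
def pMul (x y : ℕ × ℕ) : ℕ × ℕ := (x.1 ^^^ actP x.2 y.1, compP x.2 y.2)

/-- a word in the complement generators -/
def xEl : ℕ → ℕ → ℕ × ℕ
  | 0, _ => (0, idP)
  | n + 1, c => bif c.testBit n then pMul (xEl n c) (xGen n) else xEl n c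

/-- equality of pairs as elements -/
def pEq (x y : ℕ × ℕ) : Bool :=
  inCode (x.1 ^^^ y.1) && Nat.beq (compP idP x.2) (compP idP y.2)

theorem pc_check :
    ((List.range 10).all fun i => isM24P (xGen i).2 &&
      ((List.range 1024).any fun c => inCode ((xGen i).1 ^^^ enc uwBasis c)) &&
      ((List.range 1024).any fun k => Nat.beq (getT 120 syl2Tbl k) (xGen i).2) &&
      pEq (pMul (xGen i) (xGen i)) (xEl i (pcSquares.getD i 0)) &&
      Nat.blt (pcSquares.getD i 0) (2 ^ i) &&
      (List.range i).all fun j => Nat.blt ((pcConjs.getD i []).getD j 0) (2 ^ i) &&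
        pEq (pMul (xGen i) (xGen j)) (pMul (xEl i ((pcConjs.getD i []).getD j 0)) (xGen i))) = true := by
  decide +kernel

/-- a word lies outside the subgroup -/
def outA (c : ℕ) : Bool :=
  let x := xEl 10 c
  (List.range 16).all fun b => !Nat.beq (compP idP x.2) (eOf b) || !inW x.1

theorem outA_check_0 : ((List.range 512).all fun c => Nat.beq c 0 || outA c) = true := by
  decide +kernel

theorem outA_check_1 : ((List.range 512).all fun c => outA (512 + c)) = true := by
  decide +kernel

end CfsgLib.Spor.JankoFourTen
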