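import Cfsg.Agent.Lib.Spor.JankoFourTen.Complement
import Cfsg.Agent.Lib.Coprime.Gaschutz

/-!
The normaliser of the subgroup of order `2^10`: it induces the linear group of five-space, splits,
and has two orbits of lengths 155 and 868 on the involutions.
-/

set_option autoImplicit false
set_option maxRecDepth 100000

namespace CfsgLib.Spor.JankoFourTen

open Cfsg CfsgLib.Spor CfsgLib.Spor.JankoFourCentral
open scoped Pointwise

/-- over a field with two elements the special linear group is the general linear group -/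
theorem natCard_SL_five {F : Type*} [Field F] [Fintype F] [DecidableEq F]
    (h : Fintype.card F = 2) : Nat.card (Matrix.SpecialLinearGroup (Fin 5) F) = 9999360 := by
  have hone : ∀ x : F, x ≠ 0 → x = 1 := by
    intro x hx
    by_contra h1
    have h3 : ({0, 1, x} : Finset F).card = 3 := by
      rw [Finset.card_insert_of_notMem (by simp [hx.symm]), Finset.card_pair (Ne.symm h1)]
    have := Finset.card_le_univ ({0, 1, x} : Finset F)
    omega
  have hb : Function.Bijective
      (Matrix.SpecialLinearGroup.toGL : Matrix.SpecialLinearGroup (Fin 5) F → GL (Fin 5) F) := by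
    constructor
    · intro a b e
      exact Subtype.ext (congrArg Units.val e)
    · intro g
      refine ⟨⟨g.val, hone _ ?_⟩, Units.ext rfl⟩
      exact (Matrix.GeneralLinearGroup.det g).ne_zero
  rw [Nat.card_eq_of_bijective _ hb, Matrix.card_GL_field, Fin.prod_univ_five, h]
  norm_num

theorem natCard_SL5 : Nat.card SL5 = 9999360 := natCard_SL_five (ZMod.card 2)

end CfsgLib.Spor.JankoFourTen

namespace CfsgLib.Spor.JankoFourCentral.Eleven

open Cfsg CfsgLib.Spor CfsgLib.Spor.JankoFourCentral CfsgLib.Spor.JankoFourTen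
open scoped Pointwise

variable {G : Type*} [Group G] [Finite G] {z : G} {A : Type*} [AddCommGroup A] (D : Eleven z A)
  (hconj : ∀ u : G, u * u = 1 → ∃ g : G, g * u * g⁻¹ ∈ D.V)
  (hcent : ∀ t ∈ D.V, t ≠ 1 → ¬ IsConj z t →
    Subgroup.centralizer ({t} : Set G) ≤ Subgroup.normalizer (D.V : Set G))
  (hJ : Cfsg.IsOfJankoFourTypeAt z)

include hconj hcent hJ

/-- every element of the normaliser acts through the linear group of five-space -/
theorem exists_act (n : Subgroup.normalizer (D.tenA : Set G)) : ∃ M : SL5, ∀ a < 1024,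
    (n : G) * D.tv a * (n : G)⁻¹ = D.tv (rho M.1 a) := by
  classical
  have h : ∀ b, ∃ c, b < 1024 → c < 1024 ∧ (n : G) * D.tv b * (n : G)⁻¹ = D.tv c := by
    intro b
    by_cases hb : b < 1024
    · obtain ⟨c, hc, e⟩ := (Subgroup.mem_normalizer_iff.1 n.2 _).1 (D.tv_mem hb)
      exact ⟨c, fun _ => ⟨hc, e.symm⟩⟩
    · exact ⟨0, fun h => absurd h hb⟩
  choose f hf using h
  have hadd : ∀ b < 1024, ∀ c < 1024, f (b ^^^ c) = f b ^^^ f c := by
    intro b hb c hc
    have hbc : b ^^^ c < 1024 := Nat.xor_lt_two_pow (n := 10) hb hc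
    refine D.tv_inj (hf _ hbc).1 (Nat.xor_lt_two_pow (n := 10) (hf b hb).1 (hf c hc).1) ?_
    rw [← (hf _ hbc).2, ← D.tv_mul hb hc, ← D.tv_mul (hf b hb).1 (hf c hc).1, ← (hf b hb).2,
      ← (hf c hc).2]
    group
  have hf0 : f 0 = 0 := by simpa using hadd 0 (by norm_num) 0 (by norm_num)
  have hker : ∀ b < 1024, f b = 0 → b = 0 := by
    intro b hb e
    have h := (hf b hb).2
    rw [e, D.tv_zero, conj_eq_one_iff, ← D.tv_zero] at h
    exact D.tv_inj hb (by norm_num) h
  obtain ⟨M, hM⟩ := exists_rho (f := f) ⟨fun b hb => (hf b hb).1, hadd, hker, fun b hb => by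
    rcases Nat.eq_zero_or_pos b with rfl | hb0
    · rw [hf0]
    · have hfb : f b ≠ 0 := fun e => by have := hker b hb e; omega
      rw [Bool.eq_iff_iff, ← D.isConj_tv hconj hcent hJ (hf b hb).1 hfb,
        ← D.isConj_tv hconj hcent hJ hb (by omega), ← (hf b hb).2]
      exact isConj_conj⟩
  exact ⟨M, fun a ha => by rw [hM a ha]; exact (hf a ha).2⟩

/-- the action on the exterior square -/
noncomputable def theta : Subgroup.normalizer (D.tenA : Set G) →* SL5 :=
  MonoidHom.mk' (fun n => Classical.choose (D.exists_act hconj hcent hJ n)) fun m n => by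
    refine rho_inj fun a ha => D.tv_inj (rho_lt _ _) (rho_lt _ _) ?_
    have h1 := Classical.choose_spec (D.exists_act hconj hcent hJ (m * n)) a ha
    have h2 := Classical.choose_spec (D.exists_act hconj hcent hJ n) a ha
    have h3 := fun b hb => Classical.choose_spec (D.exists_act hconj hcent hJ m) b hb
    rw [← h1, Matrix.SpecialLinearGroup.coe_mul, rho_mul _ _ ha, ← h3 _ (rho_lt _ _), ← h2,
      Subgroup.coe_mul]
    group

theorem theta_spec (n : Subgroup.normalizer (D.tenA : Set G)) {a : ℕ} (ha : a < 1024) :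
    (n : G) * D.tv a * (n : G)⁻¹ = D.tv (rho (D.theta hconj hcent hJ n).1 a) :=
  Classical.choose_spec (D.exists_act hconj hcent hJ n) a ha

theorem theta_ker : (D.theta hconj hcent hJ).ker =
    D.tenA.subgroupOf (Subgroup.normalizer (D.tenA : Set G)) := by
  ext n
  rw [MonoidHom.mem_ker, Subgroup.mem_subgroupOf]
  constructor
  · intro h
    refine (D.tenA_centralizer hcent).le (Subgroup.mem_centralizer_iff.2 ?_)
    rintro _ ⟨a, ha, rfl⟩
    have h1 := D.theta_spec hconj hcent hJ n ha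
    rw [h, Matrix.SpecialLinearGroup.coe_one, rho_one ha] at h1
    exact (mul_inv_eq_iff_eq_mul.1 h1).symm
  · intro h
    refine rho_inj fun a ha => D.tv_inj (rho_lt _ _) (rho_lt _ _) ?_
    rw [Matrix.SpecialLinearGroup.coe_one, rho_one ha, ← D.theta_spec hconj hcent hJ n ha,
      mul_inv_eq_iff_eq_mul]
    exact congrArg Subtype.val (D.tenA_elem.1.1.comm ⟨(n : G), h⟩ ⟨D.tv a, D.tv_mem ha⟩)

theorem theta_surjective : Function.Surjective (D.theta hconj hcent hJ) := by
  rw [← MonoidHom.range_eq_top]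
  refine eq_top_of_pre _ (fun g hg => ?_) ?_
  · obtain ⟨n, hn, hn'⟩ := D.exists_gen hg
    refine ⟨⟨n, hn⟩, rho_inj fun a ha => D.tv_inj (rho_lt _ _) (rho_lt _ _) ?_⟩
    rw [← D.theta_spec hconj hcent hJ ⟨n, hn⟩ ha, rho_slPre hg ha]
    exact hn' a ha
  · obtain ⟨w, hw, -, h⟩ := D.exists_nconj_low hconj hcent hJ (a := 64) (by norm_num) (by norm_num)
    obtain ⟨n, hn, hne⟩ := NConj.symm h
    refine ⟨D.theta hconj hcent hJ ⟨n, hn⟩, ⟨_, rfl⟩, ?_⟩
    by_contra hno
    push Not at hno
    have h2 := D.theta_spec hconj hcent hJ ⟨n, hn⟩ (a := w) (by omega)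
    rw [hne] at h2
    have h3 := D.tv_inj (by norm_num) (rho_lt _ _) h2
    have h4 := rho_small hno hw
    omega

theorem natCard_normalizer :
    Nat.card (Subgroup.normalizer (D.tenA : Set G)) = 2 ^ 10 * 9999360 := by
  have h := (D.theta hconj hcent hJ).ker.card_mul_index
  rw [Subgroup.index_ker, MonoidHom.range_eq_top.2 (D.theta_surjective hconj hcent hJ),
    Subgroup.card_top, natCard_SL5, D.theta_ker hconj hcent hJ,
    Nat.card_congr (Subgroup.subgroupOfEquivOfLe Subgroup.le_normalizer).toEquiv,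
    D.natCard_tenA] at h
  exact h.symm

/-- the normaliser splits over the subgroup, with a complement isomorphic to the linear group -/
theorem exists_complement :
    ∃ B : Subgroup G, B ≤ Subgroup.normalizer (D.tenA : Set G) ∧ B ⊓ D.tenA = ⊥ ∧
      B ⊔ D.tenA = Subgroup.normalizer (D.tenA : Set G) ∧ Nonempty (↥B ≃* SL5) := by
  set N := Subgroup.normalizer (D.tenA : Set G) with hN
  have hAN : D.tenA ≤ N := Subgroup.le_normalizer
  have hTN : D.tpG ≤ N := D.tpG_le
  have hXN : D.xSub 10 ≤ N := D.xSub_le.trans hTN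
  set K := D.tenA.subgroupOf N with hK
  haveI : K.Normal := by
    rw [hK, ← D.theta_ker hconj hcent hJ]; exact MonoidHom.normal_ker _
  haveI : IsMulCommutative K := ⟨⟨fun x y => by
    refine Subtype.ext (Subtype.ext ?_)
    show ((x : N) : G) * ((y : N) : G) = ((y : N) : G) * ((x : N) : G)
    exact congrArg Subtype.val
      (D.tenA_elem.1.1.comm ⟨((x : N) : G), x.2⟩ ⟨((y : N) : G), y.2⟩)⟩⟩
  have hKc : Nat.card K = 2 ^ 10 := by
    rw [hK, Nat.card_congr (Subgroup.subgroupOfEquivOfLe hAN).toEquiv, D.natCard_tenA]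
  have hUc : Nat.card (D.tpG.subgroupOf N) = 2 ^ 20 := by
    rw [Nat.card_congr (Subgroup.subgroupOfEquivOfLe hTN).toEquiv, D.natCard_tpG]
  have hidx : (D.tpG.subgroupOf N).index = 9765 := by
    have h := (D.tpG.subgroupOf N).card_mul_index
    rw [hUc, D.natCard_normalizer hconj hcent hJ] at h
    omega
  have hKU : K ≤ D.tpG.subgroupOf N := fun x hx => D.tenA_le_tpG hx
  have hXU : (D.xSub 10).subgroupOf N ≤ D.tpG.subgroupOf N := fun x hx => D.xSub_le hx
  have hinf : (D.xSub 10).subgroupOf N ⊓ K = ⊥ := by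
    rw [eq_bot_iff]
    rintro x ⟨hx1, hx2⟩
    rw [Subgroup.mem_bot]
    refine Subtype.ext ?_
    have : (x : G) ∈ D.xSub 10 ⊓ D.tenA := ⟨hx1, hx2⟩
    rwa [D.xSub_inf, Subgroup.mem_bot] at this
  have hsup : K ⊔ (D.xSub 10).subgroupOf N = D.tpG.subgroupOf N := by
    refine Subgroup.eq_of_le_of_card_ge (sup_le hKU hXU) ?_
    have hXc : Nat.card ((D.xSub 10).subgroupOf N) = 1024 := by
      rw [Nat.card_congr (Subgroup.subgroupOfEquivOfLe hXN).toEquiv, D.natCard_xSub]
    have hinj : Function.Injective fun p : K × (D.xSub 10).subgroupOf N =>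
        (⟨(p.1 : N) * p.2, mul_mem (Subgroup.mem_sup_left p.1.2) (Subgroup.mem_sup_right p.2.2)⟩ :
          ↥(K ⊔ (D.xSub 10).subgroupOf N)) := by
      rintro ⟨a, x⟩ ⟨b, y⟩ e
      have e' : (a : N) * x = b * y := congrArg Subtype.val e
      have h1 : (x : N) * (y : N)⁻¹ ∈ (D.xSub 10).subgroupOf N ⊓ K := by
        refine ⟨Subgroup.mul_mem _ x.2 (Subgroup.inv_mem _ y.2), ?_⟩
        have : (x : N) * (y : N)⁻¹ = (a : N)⁻¹ * b := by
          rw [eq_inv_mul_iff_mul_eq, ← mul_assoc, e', mul_inv_cancel_right]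
        rw [this]
        exact Subgroup.mul_mem K (Subgroup.inv_mem K a.2) b.2
      rw [hinf, Subgroup.mem_bot, mul_inv_eq_one] at h1
      rw [h1, mul_left_inj] at e'
      exact Prod.ext (Subtype.ext e') (Subtype.ext h1)
    have h := Nat.card_le_card_of_injective _ hinj
    rw [Nat.card_prod, hKc, hXc] at h
    rw [hUc]
    calc (2 : ℕ) ^ 20 = 2 ^ 10 * 1024 := by norm_num
      _ ≤ _ := h
  obtain ⟨H, hH⟩ := CfsgLib.Coprime.gaschutz_exists K (D.tpG.subgroupOf N) hKU
    (by rw [hKc, hidx]; norm_num) ((D.xSub 10).subgroupOf N) hXU hinf hsup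
  refine ⟨H.map N.subtype, Subgroup.map_subtype_le H, ?_, ?_, ?_⟩
  · rw [eq_bot_iff]
    rintro x ⟨⟨y, hy, rfl⟩, hx⟩
    rw [Subgroup.mem_bot]
    have h1 : y ∈ K ⊓ H := ⟨hx, hy⟩
    rw [hH.disjoint.eq_bot, Subgroup.mem_bot] at h1
    rw [h1]; rfl
  · have : K.map N.subtype = D.tenA := by
      rw [hK, Subgroup.map_subgroupOf_eq_of_le hAN]
    rw [sup_comm, ← this, ← Subgroup.map_sup, hH.sup_eq_top, ← MonoidHom.range_eq_map,
      Subgroup.range_subtype]
  · have hb : Function.Bijective ((D.theta hconj hcent hJ).comp H.subtype) := by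
      constructor
      · rw [injective_iff_map_eq_one]
        intro h hh
        have h1 : (h : N) ∈ K ⊓ H := ⟨by
          rw [hK, ← D.theta_ker hconj hcent hJ]; exact hh, h.2⟩
        rw [hH.disjoint.eq_bot, Subgroup.mem_bot] at h1
        exact Subtype.ext h1
      · intro M
        obtain ⟨n, hn⟩ := D.theta_surjective hconj hcent hJ M
        have hmem : n ∈ K ⊔ H := by rw [hH.sup_eq_top]; trivial
        obtain ⟨k, hk, h, hh, rfl⟩ := Subgroup.mem_sup_of_normal_left.1 hmem
        refine ⟨⟨h, hh⟩, ?_⟩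
        rw [← hn, map_mul]
        rw [hK, ← D.theta_ker hconj hcent hJ, MonoidHom.mem_ker] at hk
        rw [hk, one_mul]
        rfl
    exact ⟨(H.equivMapOfInjective N.subtype Subtype.val_injective).symm.trans
      (MulEquiv.ofBijective _ hb)⟩

/-- the orbit of an element is its class -/
theorem orbit_eq {a : ℕ} (ha : a < 1024) (ha0 : a ≠ 0) :
    {v : G | ∃ n ∈ Subgroup.normalizer (D.tenA : Set G), n * D.tv a * n⁻¹ = v} =
      D.tv '' ↑((Finset.range 1024).filter fun b => b ≠ 0 ∧ inS b = inS a) := by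
  ext v
  simp only [Set.mem_ofPred_eq, Set.mem_image, Finset.coe_filter, Finset.mem_range]
  constructor
  · rintro ⟨n, hn, rfl⟩
    obtain ⟨b, hb, e⟩ := (Subgroup.mem_normalizer_iff.1 hn _).1 (D.tv_mem ha)
    have hb0 : b ≠ 0 := by
      rintro rfl
      rw [D.tv_zero] at e
      exact ha0 (D.tv_inj ha (by norm_num) ((conj_eq_one_iff.1 e.symm).trans D.tv_zero.symm))
    exact ⟨b, ⟨hb, hb0, ((D.nconj_iff_class hconj hcent hJ ha ha0 hb hb0).1 ⟨n, hn, e.symm⟩).symm⟩, e⟩
  · rintro ⟨b, ⟨hb, hb0, hS⟩, rfl⟩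
    exact (D.nconj_iff_class hconj hcent hJ ha ha0 hb hb0).2 hS.symm

/-- the two orbits have 155 and 868 elements -/
theorem orbit_lengths : ∃ a b : G, a ∈ D.tenA ∧ b ∈ D.tenA ∧
    Set.ncard {v : G | ∃ n ∈ Subgroup.normalizer (D.tenA : Set G), n * a * n⁻¹ = v} = 155 ∧
    Set.ncard {v : G | ∃ n ∈ Subgroup.normalizer (D.tenA : Set G), n * b * n⁻¹ = v} = 868 := by
  have hcard : ∀ (a : ℕ), a < 1024 → a ≠ 0 →
      Set.ncard {v : G | ∃ n ∈ Subgroup.normalizer (D.tenA : Set G), n * D.tv a * n⁻¹ = v} =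
        ((List.range 1024).filter fun b => !Nat.beq b 0 && (inS b == inS a)).length := by
    intro a ha ha0
    rw [D.orbit_eq hconj hcent hJ ha ha0, Set.InjOn.ncard_image, Set.ncard_coe_finset,
      ← List.toFinset_card_of_nodup (List.nodup_range.filter _)]
    · congr 1
      ext b
      simp only [Finset.mem_filter, Finset.mem_range, List.mem_toFinset, List.mem_filter,
        List.mem_range, Bool.and_eq_true, Bool.not_eq_true', beq_iff_eq]
      refine and_congr_right fun _ => and_congr_left fun _ => ?_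
      rw [← Bool.not_eq_true, Nat.beq_eq]
    · intro b hb c hc e
      simp only [Finset.coe_filter, Finset.mem_range, Set.mem_ofPred_eq] at hb hc
      exact D.tv_inj hb.1 hc.1 e
  refine ⟨D.tv 7, D.tv 1, D.tv_mem (by norm_num), D.tv_mem (by norm_num), ?_, ?_⟩
  · rw [hcard 7 (by norm_num) (by norm_num)]
    decide +kernel
  · rw [hcard 1 (by norm_num) (by norm_num)]
    decide +kernel

/-- no proper nontrivial subgroup is invariant -/
theorem irreducible {W : Subgroup G} (hW : W ≤ D.tenA)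
    (hN : Subgroup.normalizer (D.tenA : Set G) ≤ Subgroup.normalizer (W : Set G)) :
    W = ⊥ ∨ W = D.tenA := by
  by_cases hbot : W = ⊥
  · exact Or.inl hbot
  obtain ⟨x, hx, hx1⟩ := (Subgroup.bot_or_exists_ne_one W).resolve_left hbot
  obtain ⟨a, ha, rfl⟩ := hW hx
  have ha0 : a ≠ 0 := fun e => hx1 (e ▸ D.tv_zero)
  have hmem : ∀ b < 1024, b ≠ 0 → inS b = inS a → D.tv b ∈ W := by
    intro b hb hb0 hS
    obtain ⟨n, hn, e⟩ := (D.nconj_iff_class hconj hcent hJ ha ha0 hb hb0).2 hS.symm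
    rw [← e]
    exact (Subgroup.mem_normalizer_iff.1 (hN hn) _).1 hx
  refine Or.inr (le_antisymm hW ?_)
  rintro _ ⟨b, hb, rfl⟩
  refine bit_induction (P := fun b => D.tv b ∈ W) 10 ?_ ?_ ?_ b hb
  · rw [D.tv_zero]; exact one_mem _
  · intro j hj
    have h := List.all_eq_true.1 class_count_check.2.2 j (List.mem_range.2 hj)
    simp only [Bool.and_eq_true, List.any_eq_true, List.mem_range, Bool.not_eq_true'] at h
    obtain ⟨⟨c, hc, hc1, hc2⟩, d, hd, ⟨⟨hd1, hd0⟩, hd2⟩, hd3⟩ := h
    have hj' : 2 ^ j < 1024 := Nat.pow_lt_pow_right (a := 2) (n := 10) (by norm_num) hj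
    have hx2 : ∀ e, e < 1024 → e ≠ 0 → inS e = inS a → e ^^^ 2 ^ j ≠ 0 →
        inS (e ^^^ 2 ^ j) = inS a → D.tv (2 ^ j) ∈ W := by
      intro e he he0 hS he2 hS2
      have hlt : e ^^^ 2 ^ j < 1024 := Nat.xor_lt_two_pow (n := 10) he hj'
      have := mul_mem (hmem e he he0 hS) (hmem _ hlt he2 hS2)
      rwa [D.tv_mul he hlt, ← Nat.xor_assoc, Nat.xor_self, Nat.zero_xor] at this
    cases hS : inS a
    · rw [← Bool.not_eq_true, Nat.beq_eq] at hd0 hd3
      exact hx2 d hd hd0 (by rw [hS]; exact hd1) hd3 (by rw [hS]; exact hd2)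
    · have h0 : inS 0 = false := dec_check.2.2
      refine hx2 c hc (fun e => ?_) (by rw [hS]; exact hc1) (fun e => ?_) (by rw [hS]; exact hc2)
      · rw [e] at hc1; exact Bool.false_ne_true (h0.symm.trans hc1)
      · rw [e] at hc2; exact Bool.false_ne_true (h0.symm.trans hc2)
  · intro a b ha hb pa pb
    rw [← D.tv_mul ha hb]
    exact mul_mem pa pb

end CfsgLib.Spor.JankoFourCentral.Eleven
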