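import Cfsg.Agent.Lib.Spor.JankoFourTen.Ten
import Cfsg.Agent.Lib.Spor.JankoFourTen.Five
import Cfsg.Agent.Lib.Spor.JankoFourTen.NormCheck

/-!
The two classes of the distinguished subgroup of order `2^10` under its normaliser.
-/

set_option autoImplicit false
set_option maxRecDepth 100000

namespace CfsgLib.Spor.JankoFourTen

open Cfsg CfsgLib.Spor CfsgLib.Spor.JankoFourCentral
open scoped Pointwise symmDiff

theorem actRow_eq {g j : ℕ} (hl : (actMats.getD g []).length = 10) (hj : j < 10) :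
    enc (actMats.getD g []) (2 ^ j) = actRow g j :=
  enc_two_pow _ _ (hl.symm ▸ hj)

theorem ev_uRep {g : ℕ} (hg : g < 4) : Ev (uReps.getD g 0) := by
  have h := List.all_eq_true.1 uAct_check.2.1 (uReps.getD g 0) (by
    rw [List.getD_eq_getElem _ _ (by rw [uAct_check.1]; exact hg)]; exact List.getElem_mem _)
  simp only [Bool.and_eq_true, Nat.blt_eq, Nat.beq_eq] at h
  exact ev_of_check h.1 h.2

theorem mem_normalizer_of_conj {G : Type*} [Group G] [Finite G] {H : Subgroup G} {g : G}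
    (h : ∀ x ∈ H, g * x * g⁻¹ ∈ H) : g ∈ Subgroup.normalizer (H : Set G) := by
  have hle : H.map (MulAut.conj g).toMonoidHom ≤ H := by
    rintro _ ⟨x, hx, rfl⟩; exact h x hx
  have heq : H.map (MulAut.conj g).toMonoidHom = H := Subgroup.eq_of_le_of_card_ge hle
    (le_of_eq (Subgroup.card_map_of_injective (MulAut.conj g).injective).symm)
  refine Subgroup.mem_normalizer_iff.2 fun x => ⟨h x, fun hx => ?_⟩
  rw [← heq] at hx
  obtain ⟨y, hy, e⟩ := Subgroup.mem_map.1 hx
  exact (MulAut.conj g).injective e ▸ hy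

theorem testBit_zCand (b c : Bool) (a : ℕ) : (zCand b c).testBit a =
    (o35Mask.testBit a || (b && o120Mask.testBit a) || (c && o840Mask.testBit a)) := by
  unfold zCand
  generalize o35Mask = p
  generalize o120Mask = q
  generalize o840Mask = r
  cases b <;> cases c <;> simp [Nat.testBit_or]

end CfsgLib.Spor.JankoFourTen

namespace CfsgLib.Spor.JankoFourCentral.Eleven

open Cfsg CfsgLib.Spor CfsgLib.Spor.JankoFourCentral CfsgLib.Spor.JankoFourTen
open scoped Pointwise symmDiff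

variable {G : Type*} [Group G] [Finite G] {z : G} {A : Type*} [AddCommGroup A] (D : Eleven z A)

/-- a conjugation realising a linear map on the distinguished subgroup -/
theorem conj_of_basis {n : G} {M : List ℕ} (hlt : ∀ x ∈ M, x < 2 ^ 10)
    (h : ∀ j < 10, n * D.tv (2 ^ j) * n⁻¹ = D.tv (enc M (2 ^ j))) :
    n ∈ Subgroup.normalizer (D.tenA : Set G) ∧
      ∀ a < 1024, n * D.tv a * n⁻¹ = D.tv (enc M a) := by
  have key : ∀ a < 1024, n * D.tv a * n⁻¹ = D.tv (enc M a) := by
    intro a ha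
    refine bit_induction (P := fun a => n * D.tv a * n⁻¹ = D.tv (enc M a)) 10 ?_ h ?_ a ha
    · rw [enc_zero, D.tv_zero, mul_one, mul_inv_cancel]
    · intro a b ha hb pa pb
      rw [← D.tv_mul ha hb, enc_xor, ← D.tv_mul (enc_lt hlt a) (enc_lt hlt b), ← pa, ← pb]
      group
  refine ⟨mem_normalizer_of_conj ?_, key⟩
  rintro _ ⟨a, ha, rfl⟩
  rw [key a ha]
  exact D.tv_mem (enc_lt hlt a)

omit [Finite G] in
theorem tv_high {b : ℕ} : D.tv (64 * b) = D.L (eP b) := by
  rw [tv, show 64 * b % 64 = 0 by omega, show 64 * b / 64 = b by omega, wC, enc_zero, D.cv_zero,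
    one_mul]

omit [Finite G] in
theorem tv_split {a : ℕ} (ha : a < 1024) : D.tv a = D.tv (a % 64) * D.tv (64 * (a / 64)) := by
  rw [D.tv_high, D.tv_wC (Nat.mod_lt _ (by norm_num)), tv]

omit [Finite G] in
theorem tv_low {a : ℕ} (ha : a < 64) : D.tv a = D.vm (enc wBasis a) := by
  rw [D.tv_wC ha, D.cv_wC ha]

/-- the vectors moving the subgroup inside its normaliser -/
theorem uRep_act {g : ℕ} (hg4 : g < 4) :
    D.vm (uReps.getD g 0) ∈ Subgroup.normalizer (D.tenA : Set G) ∧
      ∀ a < 1024, D.vm (uReps.getD g 0) * D.tv a * (D.vm (uReps.getD g 0))⁻¹ =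
        D.tv (enc (actMats.getD g []) a) := by
  have h := List.all_eq_true.1 uAct_check.2.2 g (List.mem_range.2 hg4)
  simp only [Bool.and_eq_true, Nat.beq_eq, List.all_eq_true, List.mem_range] at h
  obtain ⟨⟨hl, hlow⟩, hhigh⟩ := h
  set u := uReps.getD g 0 with hu
  have hev : Ev u := ev_uRep hg4
  have hlt : ∀ x ∈ actMats.getD g [], x < 2 ^ 10 := by
    intro x hx
    obtain ⟨j, hj, rfl⟩ := List.getElem_of_mem hx
    rw [← List.getD_eq_getElem _ 0 hj]
    show actRow g j < _
    rw [hl] at hj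
    rcases lt_or_ge j 6 with h6 | h6
    · rw [hlow j h6]; exact Nat.pow_lt_pow_right (by norm_num) hj
    · obtain ⟨i, rfl⟩ := Nat.exists_eq_add_of_le h6
      obtain ⟨h1, -⟩ := hhigh i (by omega)
      have : 2 ^ i ≤ 8 := Nat.pow_le_pow_right (n := 2) (by norm_num) (show i ≤ 3 by omega)
      norm_num
      omega
  refine D.conj_of_basis hlt fun j hj => ?_
  rw [actRow_eq hl hj]
  rcases lt_or_ge j 6 with h6 | h6
  · rw [hlow j h6, D.tv_low (Nat.pow_lt_pow_right (a := 2) (n := 6) (by norm_num) h6),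
      D.vm_inv, D.vm_comm u, mul_assoc, D.vm_sq, mul_one]
  · obtain ⟨i, rfl⟩ := Nat.exists_eq_add_of_le h6
    obtain ⟨h1, h2⟩ := hhigh i (by omega)
    have hb : 2 ^ i < 16 := Nat.pow_lt_pow_right (a := 2) (n := 4) (by norm_num) (by omega)
    rw [show 2 ^ (6 + i) = 64 * 2 ^ i by rw [pow_add]; norm_num, D.tv_high,
      D.tv_split (a := actRow g (6 + i)) (by omega), h1, D.tv_high,
      D.tv_low (Nat.mod_lt _ (by norm_num)),
      ← D.vm_eq (hev.xor (ev_of_rep (eP_rep hb) hev)) (ev_wBasis _) h2, D.vm_xor,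
      ← D.L_vm (eP_rep hb) hev, D.vm_inv]
    group

/-- the six normaliser elements -/
theorem exists_gen {g : ℕ} (hg : g < 6) : ∃ n ∈ Subgroup.normalizer (D.tenA : Set G),
    ∀ a < 1024, n * D.tv a * n⁻¹ = D.tv (enc (actMats.getD g []) a) := by
  rcases lt_or_ge g 4 with hg4 | hg4
  · exact ⟨_, D.uRep_act hg4⟩
  · obtain ⟨k, rfl⟩ := Nat.exists_eq_add_of_le hg4
    have hk : k < 2 := by omega
    have h := List.all_eq_true.1 gAct_check.2 k (List.mem_range.2 hk)
    simp only [Bool.and_eq_true, Nat.beq_eq, Nat.blt_eq, List.all_eq_true, List.mem_range] at h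
    obtain ⟨⟨⟨hm, hl⟩, hlow⟩, hhigh⟩ := h
    set s := gList.getD k 0 with hs
    have hr : Rep (perm s : Equiv.Perm GolayPt) s := perm_rep hm
    have hlt : ∀ x ∈ actMats.getD (4 + k) [], x < 2 ^ 10 := by
      intro x hx
      obtain ⟨j, hj, rfl⟩ := List.getElem_of_mem hx
      rw [← List.getD_eq_getElem _ 0 hj]
      show actRow (4 + k) j < _
      rw [hl] at hj
      rcases lt_or_ge j 6 with h6 | h6
      · have := (hlow j h6).1
        norm_num
        omega
      · obtain ⟨i, rfl⟩ := Nat.exists_eq_add_of_le h6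
        exact (hhigh i (by omega)).1.2
    refine ⟨D.L (perm s), D.conj_of_basis hlt fun j hj => ?_⟩
    rw [actRow_eq hl hj]
    rcases lt_or_ge j 6 with h6 | h6
    · obtain ⟨h1, h2⟩ := hlow j h6
      rw [D.tv_low (Nat.pow_lt_pow_right (a := 2) (n := 6) (by norm_num) h6),
        D.L_vm hr (ev_wBasis _), D.tv_low h1]
      exact D.vm_eq (ev_of_rep hr (ev_wBasis _)) (ev_wBasis _) h2
    · obtain ⟨i, rfl⟩ := Nat.exists_eq_add_of_le h6
      obtain ⟨⟨h1, h1'⟩, h2⟩ := hhigh i (by omega)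
      have hb : 2 ^ i < 16 := Nat.pow_lt_pow_right (a := 2) (n := 4) (by norm_num) (by omega)
      have hb' : actRow (4 + k) (6 + i) / 64 < 16 := by omega
      have hmul : perm s * eP (2 ^ i) = eP (actRow (4 + k) (6 + i) / 64) * perm s := by
        refine Subtype.ext ((hr.mul (eP_rep hb)).inj ?_)
        rw [h2]
        exact (eP_rep hb').mul hr
      rw [show 2 ^ (6 + i) = 64 * 2 ^ i by rw [pow_add]; norm_num, D.tv_high,
        D.tv_split h1', h1, D.tv_zero, one_mul, D.tv_high, ← D.L_mul, hmul, D.L_mul]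
      group

/-- conjugacy under the normaliser -/
def NConj (a b : ℕ) : Prop :=
  ∃ n ∈ Subgroup.normalizer (D.tenA : Set G), n * D.tv a * n⁻¹ = D.tv b

omit [Finite G] in
theorem NConj.refl (a : ℕ) : D.NConj a a := ⟨1, one_mem _, by group⟩

variable {D} in
omit [Finite G] in
theorem NConj.trans {a b c : ℕ} (h : D.NConj a b) (h' : D.NConj b c) : D.NConj a c := by
  obtain ⟨n, hn, e⟩ := h
  obtain ⟨m, hm, e'⟩ := h'
  exact ⟨m * n, mul_mem hm hn, by rw [← e', ← e]; group⟩

variable {D} in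
omit [Finite G] in
theorem NConj.symm {a b : ℕ} (h : D.NConj a b) : D.NConj b a := by
  obtain ⟨n, hn, e⟩ := h
  exact ⟨n⁻¹, inv_mem hn, by rw [← e]; group⟩

theorem nconj_tree {t : List (ℕ × ℕ × ℕ)} {r : ℕ} (h : treeOK t r = true)
    (hlt : ∀ i < t.length, (t.getD i (0, 0, 0)).1 < 1024) {a : ℕ} (ha : inTree t a = true) :
    D.NConj r a := by
  have key : ∀ i < t.length, D.NConj r (t.getD i (0, 0, 0)).1 := by
    intro i
    induction i using Nat.strong_induction_on with
    | _ i ih =>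
      intro hi
      have h' := List.all_eq_true.1 h i (List.mem_range.2 hi)
      cases hb : Nat.beq i 0
      · rw [hb] at h'
        simp only [cond_false, Bool.and_eq_true, Nat.blt_eq, Nat.beq_eq] at h'
        obtain ⟨⟨hp, hg⟩, he⟩ := h'
        obtain ⟨n, hn, hn'⟩ := D.exists_gen hg
        refine (ih _ hp (hp.trans hi)).trans ⟨n, hn, ?_⟩
        rw [hn' _ (hlt _ (hp.trans hi)), he]
      · rw [hb] at h'
        simp only [cond_true, Nat.beq_eq] at h'
        rw [h']; exact NConj.refl D r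
  simp only [inTree, List.any_eq_true, Nat.beq_eq] at ha
  obtain ⟨e, he, rfl⟩ := ha
  obtain ⟨i, hi, rfl⟩ := List.getElem_of_mem he
  have := key i hi
  rwa [List.getD_eq_getElem _ _ hi] at this

theorem nconj_roots {a : ℕ} (ha : a < 1024) (ha0 : a ≠ 0) :
    (D.NConj 1 a ∧ o35Mask.testBit a = false ∧ o120Mask.testBit a = false ∧
      o840Mask.testBit a = false ∧ inS a = false ∧ a < 64) ∨
    (D.NConj 7 a ∧ o35Mask.testBit a = true ∧ o120Mask.testBit a = false ∧
      o840Mask.testBit a = false ∧ inS a = true ∧ a < 64) ∨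
    (D.NConj 64 a ∧ o35Mask.testBit a = false ∧ o120Mask.testBit a = true ∧
      o840Mask.testBit a = false ∧ inS a = true ∧ 64 ≤ a) ∨
    (D.NConj 65 a ∧ o35Mask.testBit a = false ∧ o120Mask.testBit a = false ∧
      o840Mask.testBit a = true ∧ inS a = false ∧ 64 ≤ a) := by
  have hlt : ∀ t ∈ [orbTree28, orbTree35, orbTree120, orbTree840], ∀ i < t.length,
      (t.getD i (0, 0, 0)).1 < 1024 := by
    have key : ([orbTree28, orbTree35, orbTree120, orbTree840].all fun t =>
        t.all fun e => Nat.blt e.1 1024) = true := by decide +kernel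
    intro t ht i hi
    rw [List.getD_eq_getElem _ _ hi]
    simpa [Nat.blt_eq] using List.all_eq_true.1 (List.all_eq_true.1 key t ht) _ (List.getElem_mem hi)
  obtain ⟨t1, t2, t3, t4⟩ := tree_check
  have h := List.all_eq_true.1 cover_check a (List.mem_range.2 ha)
  simp only [Bool.or_eq_true, Bool.and_eq_true, Bool.not_eq_true', Nat.beq_eq, Nat.blt_eq,
    Nat.ble_eq] at h
  rcases h with (((h | h) | h) | h) | h
  · exact absurd h ha0
  · obtain ⟨⟨⟨⟨⟨h1, h2⟩, h3⟩, h4⟩, h5⟩, h6⟩ := h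
    exact Or.inl ⟨D.nconj_tree t1 (hlt _ (by simp)) h1, h2, h3, h4, h5, h6⟩
  · obtain ⟨⟨⟨⟨⟨h1, h2⟩, h3⟩, h4⟩, h5⟩, h6⟩ := h
    exact Or.inr (Or.inl ⟨D.nconj_tree t2 (hlt _ (by simp)) h1, h2, h3, h4, h5, h6⟩)
  · obtain ⟨⟨⟨⟨⟨h1, h2⟩, h3⟩, h4⟩, h5⟩, h6⟩ := h
    exact Or.inr (Or.inr (Or.inl ⟨D.nconj_tree t3 (hlt _ (by simp)) h1, h2, h3, h4, h5, h6⟩))
  · obtain ⟨⟨⟨⟨⟨h1, h2⟩, h3⟩, h4⟩, h5⟩, h6⟩ := h
    exact Or.inr (Or.inr (Or.inr ⟨D.nconj_tree t4 (hlt _ (by simp)) h1, h2, h3, h4, h5, h6⟩))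

variable {D} in
omit [Finite G] in
theorem NConj.isConj {a b : ℕ} (h : D.NConj a b) : IsConj z (D.tv a) ↔ IsConj z (D.tv b) := by
  obtain ⟨n, -, e⟩ := h
  rw [← e]
  exact (isConj_conj (g := n)).symm

theorem isConj_low {a : ℕ} (ha : a < 64) (ha0 : a ≠ 0) :
    IsConj z (D.tv a) ↔ inS a = true := by
  have h := List.all_eq_true.1 wNorm_check a (List.mem_range.2 ha)
  simp only [Bool.or_eq_true, Bool.and_eq_true, Nat.beq_eq, Nat.blt_eq] at h
  obtain ⟨⟨h1, h2⟩, h3⟩ := h.resolve_left ha0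
  have hev : Ev (wNorm a) := ⟨by omega, by
    rw [card_toSet, h3]; cases zMask.testBit a <;> decide⟩
  rw [D.tv_low ha, D.vm_eq (ev_wBasis a) hev h1, ← vs_toSet]
  have hcard : (toSet (wNorm a)).card = bif zMask.testBit a then 4 else 2 := by
    rw [card_toSet, h3]
  unfold inS
  cases hz : zMask.testBit a
  · rw [hz] at hcard
    simp only [(D.not_isConj_duad hcard).1, Bool.false_eq_true]
  · rw [hz] at hcard
    simp only [D.isConj_tetrad hcard]

/-- a 2-subgroup of an overgroup of the Sylow subgroup is conjugate into it there -/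
theorem exists_conj_le_sylT_in {C P : Subgroup G} (hT : D.sylT ≤ C) (hPC : P ≤ C)
    (hP : IsPGroup 2 P) : ∃ c ∈ C, ∀ x ∈ P, c * x * c⁻¹ ∈ D.sylT := by
  have hT' : IsPGroup 2 (D.sylT.subgroupOf C) := (IsPGroup.of_card D.natCard_sylT).of_equiv
    (Subgroup.subgroupOfEquivOfLe hT).symm
  have hP' : IsPGroup 2 (P.subgroupOf C) := hP.of_equiv (Subgroup.subgroupOfEquivOfLe hPC).symm
  obtain ⟨S1, hS1⟩ := hT'.exists_le_sylow
  have hS : (S1 : Subgroup C) = D.sylT.subgroupOf C := by
    refine (Subgroup.eq_of_le_of_card_ge hS1 ?_).symm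
    obtain ⟨g, hg⟩ := D.exists_conj_le_sylT (S1.2.map C.subtype)
    rw [Nat.card_congr (Subgroup.subgroupOfEquivOfLe hT).toEquiv]
    refine Nat.card_le_card_of_injective
      (fun x : (S1 : Subgroup C) => (⟨g * ((x : C) : G) * g⁻¹,
        hg _ ⟨(x : C), x.2, rfl⟩⟩ : D.sylT)) fun x y e => ?_
    have e' := congrArg Subtype.val e
    simp only [mul_left_inj, mul_right_inj] at e'
    exact Subtype.ext (Subtype.ext e')
  obtain ⟨S2, hS2⟩ := hP'.exists_le_sylow
  obtain ⟨c, hc⟩ := MulAction.exists_smul_eq C S2 S1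
  refine ⟨c, c.2, fun x hx => ?_⟩
  have : MulAut.conj c • (⟨x, hPC hx⟩ : C) ∈ ((c • S2 : Sylow 2 C) : Subgroup C) :=
    Subgroup.smul_mem_pointwise_smul _ _ _ (hS2 (Subgroup.mem_subgroupOf.2 hx))
  rw [hc, hS, Subgroup.mem_subgroupOf] at this
  simpa using this

omit [Finite G] in
theorem tenA_inf_V {x : G} (hx : x ∈ D.tenA) (hV : x ∈ D.V) : ∃ a < 64, D.tv a = x := by
  obtain ⟨a, ha, rfl⟩ := hx
  refine ⟨a, ?_, rfl⟩
  obtain ⟨v, hv, hve⟩ : ∃ v ∈ D.V, D.cv (wC (a % 64)) * D.L (eP (a / 64)) = v * D.L 1 :=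
    ⟨_, hV, by rw [D.L_one, mul_one]; rfl⟩
  have h := (D.dec_unique (D.cv_mem _) hv hve).2
  rw [← eP_zero] at h
  have := eP_inj (by omega) (by norm_num) h
  omega

/-- every element of the subgroup is conjugate under the normaliser into the fixed space -/
theorem exists_nconj_low (hconj : ∀ u : G, u * u = 1 → ∃ g : G, g * u * g⁻¹ ∈ D.V)
    (hcent : ∀ t ∈ D.V, t ≠ 1 → ¬ IsConj z t →
      Subgroup.centralizer ({t} : Set G) ≤ Subgroup.normalizer (D.V : Set G))
    (hJ : Cfsg.IsOfJankoFourTypeAt z) {a : ℕ} (ha : a < 1024) (ha0 : a ≠ 0) :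
    ∃ w < 64, w ≠ 0 ∧ D.NConj a w := by
  obtain ⟨g, hg⟩ := hconj _ (D.tv_sq ha)
  set u := D.tv a with hu
  have hu1 : u ≠ 1 := fun e => ha0 (D.tv_inj ha (by norm_num) (e.trans D.tv_zero.symm))
  have hv1 : g * u * g⁻¹ ≠ 1 := fun e => hu1 (conj_eq_one_iff.1 e)
  -- reduce to a conjugate of the subgroup inside the Sylow subgroup with the image in the subgroup `V`
  obtain ⟨c, hcu, hcT⟩ : ∃ c : G, c * u * c⁻¹ ∈ D.V ∧ ∀ x ∈ D.tenA, c * x * c⁻¹ ∈ D.sylT := by
    by_cases hz : IsConj z (g * u * g⁻¹)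
    · obtain ⟨T4, hT4, hT4e⟩ := D.exists_tetrad hJ hg hz
      obtain ⟨h29, hfix, -⟩ := tp_check
      have h29' : (toSet 29).card = 4 := by rw [card_toSet]; exact Nat.eq_of_beq_eq_true h29
      let e₁ := T4.equivFinOfCardEq hT4
      let e₂ := (toSet 29).equivFinOfCardEq h29'
      obtain ⟨σ, hσ⟩ := exists_move (k := 4) (by norm_num)
        (f := fun i => (e₁.symm i).1) (fun i j h => e₁.symm.injective (Subtype.ext h))
        (g := fun i => (e₂.symm i).1) (fun i j h => e₂.symm.injective (Subtype.ext h))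
      have hσT : (σ : Equiv.Perm GolayPt) • T4 = toSet 29 := by
        refine Finset.eq_of_subset_of_card_le (fun p hp => ?_)
          (by rw [Finset.card_smul_finset, hT4, h29'])
        obtain ⟨q, hq, rfl⟩ := Finset.mem_smul_finset.1 hp
        have := hσ (e₁ ⟨q, hq⟩)
        simp only [Equiv.symm_apply_apply] at this
        rw [Equiv.Perm.smul_def, this]
        exact (e₂.symm _).2
      set g1 := D.L σ * g with hg1
      have hv0 : g1 * u * g1⁻¹ = D.vm 29 := by
        rw [hg1, show D.L σ * g * u * (D.L σ * g)⁻¹ = D.L σ * (g * u * g⁻¹) * (D.L σ)⁻¹ by group,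
          ← hT4e, D.L_vs σ (by rw [hT4]; decide), hσT, vs_toSet]
      have h29e : Ev 29 := ev_of_check (by norm_num) (by rw [Nat.eq_of_beq_eq_true h29])
      set C := Subgroup.centralizer ({D.vm 29} : Set G) with hC
      have hTC : D.sylT ≤ C := by
        rintro _ ⟨v, hv, τ, hτ, rfl⟩
        rw [hC, Subgroup.mem_centralizer_singleton_iff]
        have hτ' : D.L τ * D.vm 29 = D.vm 29 * D.L τ := by
          let H : Subgroup M24 :=
            (Subgroup.centralizer ({D.vm 29} : Set G)).comap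
              ⟨⟨fun σ => D.L σ, D.L_one⟩, fun a b => D.L_mul a b⟩
          have hmem : ∀ ρ (hρ : ρ ∈ genGroup syl2Gens), (⟨ρ, genGroup_le _ hρ⟩ : M24) ∈ H := by
            intro ρ hρ
            induction hρ using Subgroup.closure_induction with
            | mem x hx =>
              obtain ⟨hxM, a, ha, hr⟩ := hx
              have h := List.all_eq_true.1 hfix a ha
              simp only [Bool.and_eq_true] at h
              show D.L ⟨x, hxM⟩ ∈ Subgroup.centralizer ({D.vm 29} : Set G)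
              rw [Subgroup.mem_centralizer_singleton_iff, ← mul_inv_eq_iff_eq_mul,
                D.L_vm (σ := ⟨x, hxM⟩) hr h29e]
              exact (D.vm_eq h29e (ev_of_rep hr h29e) h.1.1.1).symm
            | one => exact one_mem H
            | mul x y hx hy px py => exact mul_mem px py
            | inv x hx px => exact inv_mem px
          exact Subgroup.mem_centralizer_singleton_iff.1
            (hmem _ hτ : D.L τ ∈ Subgroup.centralizer ({D.vm 29} : Set G))
        rw [mul_assoc, hτ', ← mul_assoc, D.V_comm hv (D.vm_mem 29), mul_assoc]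
      have hPC : D.tenA.map (MulAut.conj g1).toMonoidHom ≤ C := by
        rintro _ ⟨x, hx, rfl⟩
        rw [hC, Subgroup.mem_centralizer_singleton_iff, ← hv0]
        simp only [MulEquiv.coe_toMonoidHom, MulAut.conj_apply]
        exact comm_conj (congrArg Subtype.val (D.tenA_elem.1.1.comm ⟨x, hx⟩ ⟨u, D.tv_mem ha⟩))
      obtain ⟨c, hc, hc'⟩ := D.exists_conj_le_sylT_in hTC hPC
        ((IsPGroup.of_card D.natCard_tenA).map _)
      refine ⟨c * g1, ?_, fun x hx => ?_⟩
      · rw [show c * g1 * u * (c * g1)⁻¹ = c * (g1 * u * g1⁻¹) * c⁻¹ by group, hv0,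
          mul_inv_eq_iff_eq_mul.2 (Subgroup.mem_centralizer_singleton_iff.1 hc)]
        exact D.vm_mem 29
      · rw [show c * g1 * x * (c * g1)⁻¹ = c * (g1 * x * g1⁻¹) * c⁻¹ by group]
        exact hc' _ ⟨x, hx, rfl⟩
    · have hC := hcent _ hg hv1 hz
      have hPC : D.tenA.map (MulAut.conj g).toMonoidHom ≤ Subgroup.normalizer (D.V : Set G) := by
        rintro _ ⟨x, hx, rfl⟩
        refine hC ?_
        rw [Subgroup.mem_centralizer_singleton_iff]
        simp only [MulEquiv.coe_toMonoidHom, MulAut.conj_apply]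
        exact comm_conj (congrArg Subtype.val (D.tenA_elem.1.1.comm ⟨x, hx⟩ ⟨u, D.tv_mem ha⟩))
      obtain ⟨c, hc, hc'⟩ := D.exists_conj_le_sylT_in (D.semi_le _) hPC
        ((IsPGroup.of_card D.natCard_tenA).map _)
      refine ⟨c * g, ?_, fun x hx => ?_⟩
      · rw [show c * g * u * (c * g)⁻¹ = c * (g * u * g⁻¹) * c⁻¹ by group]
        exact (Subgroup.mem_normalizer_iff.1 hc _).1 hg
      · rw [show c * g * x * (c * g)⁻¹ = c * (g * x * g⁻¹) * c⁻¹ by group]
        exact hc' _ ⟨x, hx, rfl⟩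
  -- the census brings it back to the subgroup
  set B := D.tenA.map (MulAut.conj c).toMonoidHom with hB
  have hBT : B ≤ D.sylT := by
    rintro _ ⟨x, hx, rfl⟩; exact hcT x hx
  have hBc : Nat.card B = 2 ^ 10 := by
    rw [hB, Subgroup.card_map_of_injective (MulAut.conj c).injective, D.natCard_tenA]
  have hBe := conj_elementary c D.tenA_elem
  rcases D.census hBT hBe hBc with hV | ⟨-, h2, h3, -⟩
  · exfalso
    have hVB : D.V ≤ B := by
      intro v hv
      have hm : c⁻¹ * v * c ∈ Subgroup.centralizer (D.tenA : Set G) := by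
        refine Subgroup.mem_centralizer_iff.2 fun y hy => ?_
        have := D.V_comm (hV ⟨y, hy, rfl⟩ : (MulAut.conj c).toMonoidHom y ∈ D.V) hv
        simp only [MulEquiv.coe_toMonoidHom, MulAut.conj_apply] at this
        calc y * (c⁻¹ * v * c) = c⁻¹ * (c * y * c⁻¹ * v) * c := by group
          _ = c⁻¹ * (v * (c * y * c⁻¹)) * c := by rw [this]
          _ = _ := by group
      rw [D.tenA_centralizer hcent] at hm
      exact ⟨_, hm, by simp [MulAut.conj_apply]; group⟩
    have := Subgroup.card_le_of_le hVB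
    rw [D.card, hBc] at this
    norm_num at this
  · obtain ⟨n, hn, hne⟩ := D.exists_conj_tenA_of_census hBe hBc h2 h3
    have hnc : ∀ x ∈ D.tenA, n * c * x * (n * c)⁻¹ ∈ D.tenA := fun x hx => by
      refine hne.le ⟨c * x * c⁻¹, ⟨x, hx, rfl⟩, ?_⟩
      simp only [MulEquiv.coe_toMonoidHom, MulAut.conj_apply]
      group
    have hnV : n * c * u * (n * c)⁻¹ ∈ D.V := by
      rw [show n * c * u * (n * c)⁻¹ = n * (c * u * c⁻¹) * n⁻¹ by group]
      exact mul_mem (mul_mem hn hcu) (inv_mem hn)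
    obtain ⟨w, hw, hwe⟩ := D.tenA_inf_V (hnc u (D.tv_mem ha)) hnV
    refine ⟨w, hw, fun h0 => ?_, n * c, mem_normalizer_of_conj hnc, hwe.symm⟩
    rw [h0, D.tv_zero] at hwe
    exact hu1 (conj_eq_one_iff.1 hwe.symm)

/-- the involutions of the subgroup conjugate to `z` form the first class -/
theorem isConj_tv (hconj : ∀ u : G, u * u = 1 → ∃ g : G, g * u * g⁻¹ ∈ D.V)
    (hcent : ∀ t ∈ D.V, t ≠ 1 → ¬ IsConj z t →
      Subgroup.centralizer ({t} : Set G) ≤ Subgroup.normalizer (D.V : Set G))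
    (hJ : Cfsg.IsOfJankoFourTypeAt z) {a : ℕ} (ha : a < 1024) (ha0 : a ≠ 0) :
    IsConj z (D.tv a) ↔ inS a = true := by
  classical
  set b120 := decide (IsConj z (D.tv 64)) with h120
  set b840 := decide (IsConj z (D.tv 65)) with h840
  have hzc : ∀ a < 1024, a ≠ 0 → (IsConj z (D.tv a) ↔ (zCand b120 b840).testBit a = true) := by
    intro a ha ha0
    rw [testBit_zCand]
    rcases D.nconj_roots ha ha0 with ⟨-, e1, e2, e3, e4, e5⟩ | ⟨-, e1, e2, e3, e4, e5⟩ |
        ⟨h, e1, e2, e3, -, -⟩ | ⟨h, e1, e2, e3, -, -⟩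
    · rw [D.isConj_low e5 ha0, e1, e2, e3, e4]
      simp only [Bool.and_false, Bool.or_false]
    · rw [D.isConj_low e5 ha0, e1, e2, e3, e4]
      simp only [Bool.and_false, Bool.or_false]
    · rw [← h.isConj, e1, e2, e3]
      simp only [Bool.and_false, Bool.or_false, Bool.and_true, Bool.false_or]
      exact decide_eq_true_iff.symm
    · rw [← h.isConj, e1, e2, e3]
      simp only [Bool.and_false, Bool.or_false, Bool.and_true, Bool.false_or]
      exact decide_eq_true_iff.symm
  obtain ⟨w, hw, hw0, n, hn, hne⟩ :=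
    D.exists_nconj_low hconj hcent hJ (a := 64) (by norm_num) (by norm_num)
  -- the conjugation is a permutation respecting sums and the class of `z`
  have hf : ∀ b, ∃ c, b < 1024 → c < 1024 ∧ n * D.tv b * n⁻¹ = D.tv c := by
    intro b
    by_cases hb : b < 1024
    · obtain ⟨c, hc, e⟩ := (Subgroup.mem_normalizer_iff.1 hn _).1 (D.tv_mem hb)
      exact ⟨c, fun _ => ⟨hc, e.symm⟩⟩
    · exact ⟨0, fun h => absurd h hb⟩
  choose f hf using hf
  have hf64 : f 64 = w := D.tv_inj (hf 64 (by norm_num)).1 (by omega)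
    ((hf 64 (by norm_num)).2.symm.trans hne)
  have hfadd : ∀ b < 1024, ∀ c < 1024, f (b ^^^ c) = f b ^^^ f c := by
    intro b hb c hc
    have hbc : b ^^^ c < 1024 := Nat.xor_lt_two_pow (n := 10) hb hc
    refine D.tv_inj (hf _ hbc).1 (Nat.xor_lt_two_pow (n := 10) (hf b hb).1 (hf c hc).1) ?_
    rw [← (hf _ hbc).2, ← D.tv_mul hb hc, ← D.tv_mul (hf b hb).1 (hf c hc).1, ← (hf b hb).2,
      ← (hf c hc).2]
    group
  have hfinj : ∀ b < 1024, ∀ c < 1024, f b = f c → b = c := by
    intro b hb c hc e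
    refine D.tv_inj hb hc ?_
    have h := (hf b hb).2
    rw [e, ← (hf c hc).2, mul_left_inj, mul_right_inj] at h
    exact h
  have hfZ : ∀ b < 1024, (zCand b120 b840).testBit (f b) = (zCand b120 b840).testBit b := by
    intro b hb
    rcases Nat.eq_zero_or_pos b with rfl | hb0
    · have := hfadd 0 hb 0 hb
      simp only [Nat.xor_self] at this
      rw [this]
    · have hfb0 : f b ≠ 0 := fun e => by
        have := hfinj b hb 0 (by norm_num) (e.trans (by
          have := hfadd 0 (by norm_num) 0 (by norm_num)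
          simpa using this.symm))
        omega
      rw [Bool.eq_iff_iff, ← hzc _ (hf b hb).1 hfb0, ← hzc b hb (by omega), ← (hf b hb).2]
      exact isConj_conj
  have hdeg : sumDeg (zCand b120 b840) w = sumDeg (zCand b120 b840) 64 := by
    have hS : ∀ X a, sumDeg X a =
        ((Finset.range 1024).filter fun b => (X.testBit b && X.testBit (a ^^^ b)) = true).card := by
      intro X a
      rw [sumDeg, ← List.toFinset_card_of_nodup (List.nodup_range.filter _)]
      congr 1
      ext b; simp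
    rw [hS, hS]
    symm
    refine Finset.card_bij (fun b _ => f b) ?_ ?_ ?_
    · intro b hb
      simp only [Finset.mem_filter, Finset.mem_range, Bool.and_eq_true] at hb ⊢
      refine ⟨(hf b hb.1).1, by rw [hfZ b hb.1]; exact hb.2.1, ?_⟩
      rw [← hf64, ← hfadd 64 (by norm_num) b hb.1,
        hfZ _ (Nat.xor_lt_two_pow (n := 10) (by norm_num) hb.1)]
      exact hb.2.2
    · intro b hb c hc e
      simp only [Finset.mem_filter, Finset.mem_range] at hb hc
      exact hfinj b hb.1 c hc.1 e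
    · intro c hc
      simp only [Finset.mem_filter, Finset.mem_range, Bool.and_eq_true] at hc
      obtain ⟨b, hb, rfl⟩ : ∃ b < 1024, f b = c := by
        have himg : (Finset.range 1024).image f = Finset.range 1024 :=
          Finset.eq_of_subset_of_card_le (fun x hx => by
            obtain ⟨b, hb, rfl⟩ := Finset.mem_image.1 hx
            exact Finset.mem_range.2 (hf b (Finset.mem_range.1 hb)).1) (by
            rw [Finset.card_image_of_injOn fun b hb c hc e => hfinj b (Finset.mem_range.1 hb) c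
              (Finset.mem_range.1 hc) e])
        obtain ⟨b, hb, e⟩ := Finset.mem_image.1 (himg.symm ▸ Finset.mem_range.2 hc.1)
        exact ⟨b, Finset.mem_range.1 hb, e⟩
      refine ⟨b, ?_, rfl⟩
      simp only [Finset.mem_filter, Finset.mem_range, Bool.and_eq_true]
      refine ⟨hb, by rw [← hfZ b hb]; exact hc.2.1, ?_⟩
      rw [← hfZ _ (Nat.xor_lt_two_pow (n := 10) (by norm_num) hb), hfadd 64 (by norm_num) b hb, hf64]
      exact hc.2.2
  have hchk := List.all_eq_true.1 deg_check w (List.mem_range.2 hw)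
  simp only [Bool.or_eq_true, Nat.beq_eq, Bool.and_eq_true, Bool.not_eq_true'] at hchk
  obtain ⟨⟨c1, c2⟩, c3⟩ := hchk.resolve_left hw0
  have hb120 : b120 = true ∧ b840 = false := by
    cases hb : b120 <;> cases hb' : b840 <;> rw [hb, hb'] at hdeg
    · rw [hdeg, Nat.beq_refl] at c1; exact absurd c1 (by simp)
    · rw [hdeg, Nat.beq_refl] at c2; exact absurd c2 (by simp)
    · exact ⟨rfl, rfl⟩
    · rw [hdeg, Nat.beq_refl] at c3; exact absurd c3 (by simp)
  rw [hzc a ha ha0, hb120.1, hb120.2]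
  rcases D.nconj_roots ha ha0 with ⟨-, e1, e2, e3, e4, -⟩ | ⟨-, e1, e2, e3, e4, -⟩ |
      ⟨-, e1, e2, e3, e4, -⟩ | ⟨-, e1, e2, e3, e4, -⟩ <;>
    rw [testBit_zCand, e1, e2, e3, e4] <;> simp only [Bool.and_false, Bool.or_false, Bool.and_true,
      Bool.false_or, Bool.true_or, Bool.false_and]

/-- the two classes are orbits of the normaliser -/
theorem nconj_iff_class (hconj : ∀ u : G, u * u = 1 → ∃ g : G, g * u * g⁻¹ ∈ D.V)
    (hcent : ∀ t ∈ D.V, t ≠ 1 → ¬ IsConj z t →
      Subgroup.centralizer ({t} : Set G) ≤ Subgroup.normalizer (D.V : Set G))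
    (hJ : Cfsg.IsOfJankoFourTypeAt z) {a b : ℕ} (ha : a < 1024) (ha0 : a ≠ 0) (hb : b < 1024)
    (hb0 : b ≠ 0) : D.NConj a b ↔ inS a = inS b := by
  constructor
  · intro h
    rw [Bool.eq_iff_iff, ← D.isConj_tv hconj hcent hJ ha ha0, ← D.isConj_tv hconj hcent hJ hb hb0]
    exact h.isConj
  · intro h
    have hroot : ∀ a < 1024, a ≠ 0 → D.NConj a (bif inS a then 7 else 1) := by
      intro a ha ha0
      obtain ⟨w, hw, hw0, hcw⟩ := D.exists_nconj_low hconj hcent hJ ha ha0
      have hS : inS a = inS w := by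
        rw [Bool.eq_iff_iff, ← D.isConj_tv hconj hcent hJ ha ha0,
          ← D.isConj_tv hconj hcent hJ (by omega) hw0]
        exact hcw.isConj
      rw [hS]
      rcases D.nconj_roots (a := w) (by omega) hw0 with ⟨h, -, -, -, e, -⟩ | ⟨h, -, -, -, e, -⟩ |
          ⟨-, -, -, -, -, e⟩ | ⟨-, -, -, -, -, e⟩
      · rw [e]; exact hcw.trans h.symm
      · rw [e]; exact hcw.trans h.symm
      · omega
      · omega
    have h1 := hroot a ha ha0
    rw [h] at h1
    exact h1.trans (hroot b hb hb0).symm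

end CfsgLib.Spor.JankoFourCentral.Eleven
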