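import Cfsg.Agent.Lib.Spor.JankoFourTen.Census
import Cfsg.Agent.Lib.Spor.JankoFourTen.TenCheck
import Cfsg.Agent.Lib.Spor.JankoFourCentral.Local
import Cfsg.Agent.Lib.Spor.OctadAlt

/-!
The distinguished elementary abelian subgroup of order `2^10`: it is its own centraliser, and every
self-centralising elementary abelian subgroup of that order is conjugate to it.
-/

set_option autoImplicit false
set_option maxRecDepth 100000

namespace CfsgLib.Spor.JankoFourTen

open Cfsg CfsgLib.Spor CfsgLib.Spor.JankoFourCentral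
open scoped Pointwise symmDiff

/-- an element of the pointwise stabiliser of the octad -/
noncomputable def eP (b : ℕ) : M24 := perm (eOf b)

theorem eOf_mem {b : ℕ} (hb : b < 16) : eOf b ∈ eList := by
  rw [eOf, List.getD_eq_getElem _ _ (by rw [eList_check.1]; exact hb)]
  exact List.getElem_mem _

theorem eP_rep {b : ℕ} (hb : b < 16) : Rep (eP b : Equiv.Perm GolayPt) (eOf b) := by
  have h := List.all_eq_true.1 eList_check.2.2.1 _ (eOf_mem hb)
  simp only [Bool.and_eq_true] at h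
  exact perm_rep h.1.1

theorem eP_mul {a b : ℕ} (ha : a < 16) (hb : b < 16) : eP a * eP b = eP (a ^^^ b) := by
  have h := List.all_eq_true.1 (List.all_eq_true.1 eList_check.2.2.2.2 a (List.mem_range.2 ha)) b
    (List.mem_range.2 hb)
  exact Subtype.ext (eq_of_mulOK (eP_rep ha) (eP_rep hb)
    (eP_rep (Nat.xor_lt_two_pow (n := 4) ha hb)) h)

theorem eP_zero : eP 0 = 1 := by
  have h := Nat.eq_of_beq_eq_true eList_check.2.1
  exact perm_eq (show Rep ((1 : M24) : Equiv.Perm GolayPt) (eOf 0) by rw [h]; exact rep_one)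

theorem eP_inj {a b : ℕ} (ha : a < 16) (hb : b < 16) (h : eP a = eP b) : a = b := by
  have hc : ∀ {k}, k < 16 → compP idP (eOf k) = eOf k := fun {k} hk => by
    have h := List.all_eq_true.1 eList_check.2.2.1 _ (eOf_mem hk)
    simp only [Bool.and_eq_true, Nat.beq_eq] at h
    exact h.1.2
  have e : eOf a = eOf b := by
    rw [← hc ha, ← hc hb]
    exact (eP_rep ha).compP_idP (h ▸ eP_rep hb)
  rw [eOf, eOf, List.getD_eq_getElem _ _ (by rw [eList_check.1]; exact ha),
    List.getD_eq_getElem _ _ (by rw [eList_check.1]; exact hb)] at e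
  exact eList_check.2.2.2.1.getElem_inj_iff.1 e

theorem eP_fix {b : ℕ} (hb : b < 16) {p : GolayPt} (hp : p ∈ toSet octO) :
    (eP b : Equiv.Perm GolayPt) p = p := by
  have h := List.all_eq_true.1 eList_check.2.2.1 _ (eOf_mem hb)
  simp only [Bool.and_eq_true, List.all_eq_true, List.mem_range, Bool.or_eq_true,
    Bool.not_eq_true', Nat.beq_eq] at h
  rcases h.2 (idx p) (idx_lt p) with e | e
  · rw [mem_toSet] at hp; rw [hp] at e; exact absurd e (by simp)
  · rw [(eP_rep hb).get] at e; exact idx_injective e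

theorem wC_facts {a : ℕ} (ha : a < 64) : wC a < 2048 ∧ wMask.testBit (wC a) = true ∧
    (wC a = 0 → a = 0) ∧ inCode (code (wC a) ^^^ enc wBasis a) = true ∧
    ∀ b < 16, fixC (eOf b) (wC a) = true := by
  have h := List.all_eq_true.1 wC_check.1 a (List.mem_range.2 ha)
  simp only [Bool.and_eq_true, Bool.or_eq_true, Bool.not_eq_true', Nat.blt_eq, Nat.beq_eq,
    List.all_eq_true] at h
  obtain ⟨⟨⟨⟨h1, h2⟩, h3⟩, h4⟩, h5⟩ := h
  refine ⟨h1, h2, fun e => ?_, h4, fun b hb => h5 _ (eOf_mem hb)⟩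
  rcases h3 with h3 | h3
  · exact h3
  · rw [← Bool.not_eq_true, Nat.beq_eq] at h3; exact absurd e h3

theorem ev_wBasis (a : ℕ) : Ev (enc wBasis a) := by
  refine ev_enc (fun b hb => ?_) a
  have := List.all_eq_true.1 wC_check.2 b hb
  simp only [Bool.and_eq_true, Nat.blt_eq, Nat.beq_eq] at this
  exact ev_of_check this.1 this.2

theorem wMask_exists {c : ℕ} (hc : c < 2048) (h : wMask.testBit c = true) :
    ∃ a < 64, wC a = c := by
  have h' := List.all_eq_true.1 wMask_check.1 c (List.mem_range.2 hc)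
  simp only [Bool.or_eq_true, Bool.not_eq_true', List.any_eq_true, List.mem_range, Nat.beq_eq,
    h, Bool.true_eq_false, false_or] at h'
  exact h'

theorem mod64_xor (a b : ℕ) : (a ^^^ b) % 64 = a % 64 ^^^ b % 64 := by
  rw [show (64 : ℕ) = 2 ^ 6 by norm_num, Nat.xor_mod_two_pow]

theorem div64_xor (a b : ℕ) : (a ^^^ b) / 64 = a / 64 ^^^ b / 64 := by
  have := Nat.shiftRight_xor_distrib (a := a) (b := b) (i := 6)
  simpa [Nat.shiftRight_eq_div_pow] using this

theorem octO_mem : toSet octO ∈ octads := by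
  obtain ⟨h, h8, hlt, -⟩ := octO_check
  exact toSet_mem_octads h (Nat.eq_of_beq_eq_true h8) (by simpa [Nat.blt_eq] using hlt)

/-- the permutations fixing the octad pointwise are the listed ones -/
theorem exists_eP {σ : M24} (h : ∀ p ∈ toSet octO, (σ : Equiv.Perm GolayPt) p = p) :
    ∃ b < 16, eP b = σ := by
  set P := M24 ⊓ fixingSubgroup (Equiv.Perm GolayPt) (↑(toSet octO) : Set GolayPt) with hP
  have hc : Nat.card P = 16 := (octad_pointwise_stabilizer octO_mem).1
  let f : Fin 16 → P := fun b => ⟨eP b, (eP b).2, (mem_fixingSubgroup_iff _).2 fun p hp =>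
    eP_fix b.2 hp⟩
  have hf : Function.Injective f := fun a b e =>
    Fin.ext (eP_inj a.2 b.2 (Subtype.ext (congrArg (fun x : P => (x : Equiv.Perm GolayPt)) e)))
  obtain ⟨b, hb⟩ := ((Nat.bijective_iff_injective_and_card f).2
    ⟨hf, by rw [hc, Nat.card_fin]⟩).2 ⟨σ, σ.2, (mem_fixingSubgroup_iff _).2 h⟩
  exact ⟨b, b.2, Subtype.ext (congrArg Subtype.val hb :)⟩

end CfsgLib.Spor.JankoFourTen

namespace CfsgLib.Spor.JankoFourCentral.Eleven

open Cfsg CfsgLib.Spor CfsgLib.Spor.JankoFourCentral CfsgLib.Spor.JankoFourTen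
open scoped Pointwise symmDiff

variable {G : Type*} [Group G] [Finite G] {z : G} {A : Type*} [AddCommGroup A] (D : Eleven z A)

/-- the element of the distinguished subgroup with given coordinates -/
noncomputable def tv (a : ℕ) : G := D.cv (wC (a % 64)) * D.L (eP (a / 64))

omit [Finite G] in
theorem cv_wC {a : ℕ} (ha : a < 64) : D.cv (wC a) = D.vm (enc wBasis a) :=
  D.vm_eq (ev_code _) (ev_wBasis a) (wC_facts ha).2.2.2.1

omit [Finite G] in
theorem vm_of_inW {m : ℕ} (hm : Ev m) (h : inW m = true) : ∃ a < 64, D.vm m = D.cv (wC a) := by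
  simp only [inW, List.any_eq_true, List.mem_range] at h
  obtain ⟨a, ha, h⟩ := h
  exact ⟨a, ha, by rw [D.cv_wC ha]; exact D.vm_eq hm (ev_wBasis a) h⟩

omit [Finite G] in
theorem eP_conj {b : ℕ} (hb : b < 16) (c : ℕ) :
    D.L (eP b) * D.cv c * (D.L (eP b))⁻¹ = D.vm (actP (eOf b) (code c)) :=
  D.L_vm (eP_rep hb) (ev_code c)

omit [Finite G] in
theorem fixC_iff {b : ℕ} (hb : b < 16) (c : ℕ) :
    fixC (eOf b) c = true ↔ D.L (eP b) * D.cv c * (D.L (eP b))⁻¹ = D.cv c := by
  rw [D.eP_conj hb, fixC, cv]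
  constructor
  · intro h; exact (D.vm_eq (ev_code c) (ev_of_rep (eP_rep hb) (ev_code c)) h).symm
  · intro h
    refine D.inCode_of_vm_eq_one ((ev_code c).xor (ev_of_rep (eP_rep hb) (ev_code c))) ?_
    rw [← code, D.vm_xor, h, D.vm_sq]

omit [Finite G] in
theorem eP_comm_wC {b a : ℕ} (hb : b < 16) (ha : a < 64) :
    D.L (eP b) * D.cv (wC a) = D.cv (wC a) * D.L (eP b) :=
  mul_inv_eq_iff_eq_mul.1 ((D.fixC_iff hb _).1 ((wC_facts ha).2.2.2.2 b hb))

omit [Finite G] in
theorem tv_mul {a b : ℕ} (ha : a < 1024) (hb : b < 1024) :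
    D.tv a * D.tv b = D.tv (a ^^^ b) := by
  have h1 : a / 64 < 16 := by omega
  have h2 : b % 64 < 64 := Nat.mod_lt _ (by norm_num)
  rw [tv, tv, tv, D.mul_L, mul_inv_eq_iff_eq_mul.2 (D.eP_comm_wC h1 h2), mod64_xor, div64_xor,
    eP_mul h1 (by omega), wC, wC, wC, enc_xor, D.cv_xor]

omit [Finite G] in
theorem tv_zero : D.tv 0 = 1 := by
  rw [tv, Nat.zero_mod, Nat.zero_div, wC, enc_zero, D.cv_zero, eP_zero, D.L_one, one_mul]

omit [Finite G] in
theorem tv_sq {a : ℕ} (ha : a < 1024) : D.tv a * D.tv a = 1 := by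
  rw [D.tv_mul ha ha, Nat.xor_self, D.tv_zero]

omit [Finite G] in
theorem tv_inj {a b : ℕ} (ha : a < 1024) (hb : b < 1024) (h : D.tv a = D.tv b) : a = b := by
  obtain ⟨h1, h2⟩ := D.dec_unique (D.cv_mem _) (D.cv_mem _) h
  have e2 : a / 64 = b / 64 := eP_inj (by omega) (by omega) h2
  have ha' : a % 64 < 64 := Nat.mod_lt _ (by norm_num)
  have hb' : b % 64 < 64 := Nat.mod_lt _ (by norm_num)
  have e1 := D.cv_inj (wC_facts ha').1 (wC_facts hb').1 h1
  have e3 : wC (a % 64 ^^^ b % 64) = 0 := by rw [wC, enc_xor]; exact Nat.xor_eq_zero_iff.2 e1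
  have e4 := Nat.xor_eq_zero_iff.1 ((wC_facts (Nat.xor_lt_two_pow (n := 6) ha' hb')).2.2.1 e3)
  omega

omit [Finite G] in
theorem tv_wC {a : ℕ} (ha : a < 64) : D.tv a = D.cv (wC a) := by
  rw [tv, Nat.mod_eq_of_lt ha, Nat.div_eq_of_lt ha, eP_zero, D.L_one, mul_one]

/-- the distinguished elementary abelian subgroup of order `2^10` -/
def tenA : Subgroup G where
  carrier := {x | ∃ a < 1024, D.tv a = x}
  one_mem' := ⟨0, by norm_num, D.tv_zero⟩
  mul_mem' := by
    rintro _ _ ⟨a, ha, rfl⟩ ⟨b, hb, rfl⟩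
    exact ⟨a ^^^ b, Nat.xor_lt_two_pow (n := 10) ha hb, (D.tv_mul ha hb).symm⟩
  inv_mem' := by
    rintro _ ⟨a, ha, rfl⟩
    exact ⟨a, ha, (inv_eq_of_mul_eq_one_right (D.tv_sq ha)).symm⟩

omit [Finite G] in
theorem tv_mem {a : ℕ} (ha : a < 1024) : D.tv a ∈ D.tenA := ⟨a, ha, rfl⟩

omit [Finite G] in
theorem tenA_elem : Cfsg.IsElementaryAbelian 2 D.tenA := by
  refine ⟨⟨⟨?_⟩⟩, ?_⟩
  · rintro ⟨_, a, ha, rfl⟩ ⟨_, b, hb, rfl⟩
    refine Subtype.ext ?_
    show D.tv a * D.tv b = D.tv b * D.tv a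
    rw [D.tv_mul ha hb, D.tv_mul hb ha, Nat.xor_comm]
  · rintro _ ⟨a, ha, rfl⟩
    rw [pow_two, D.tv_sq ha]

omit [Finite G] in
theorem natCard_tenA : Nat.card D.tenA = 2 ^ 10 := by
  let f : Fin 1024 → D.tenA := fun a => ⟨D.tv a, D.tv_mem a.2⟩
  have hf : Function.Bijective f := by
    refine ⟨fun a b e => Fin.ext (D.tv_inj a.2 b.2 (congrArg Subtype.val e)), ?_⟩
    rintro ⟨_, a, ha, rfl⟩
    exact ⟨⟨a, ha⟩, rfl⟩
  rw [← Nat.card_eq_of_bijective f hf, Nat.card_fin]; norm_num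

theorem tenA_le_sylT (hE : ∀ b < 16, eP b ∈ sylM) : D.tenA ≤ D.sylT := by
  rintro _ ⟨a, ha, rfl⟩
  exact ⟨_, D.cv_mem _, _, hE _ (by omega), rfl⟩

/-- an element centralising the distinguished subgroup lies in it -/
theorem tenA_centralizer (hcent : ∀ t ∈ D.V, t ≠ 1 → ¬ IsConj z t →
      Subgroup.centralizer ({t} : Set G) ≤ Subgroup.normalizer (D.V : Set G)) :
    Subgroup.centralizer (D.tenA : Set G) = D.tenA := by
  refine le_antisymm (fun x hx => ?_) fun x hx => Subgroup.mem_centralizer_iff.2 fun y hy =>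
    congrArg Subtype.val (D.tenA_elem.1.1.comm ⟨y, hy⟩ ⟨x, hx⟩)
  have hxc : ∀ a < 1024, x * D.tv a = D.tv a * x := fun a ha =>
    (Subgroup.mem_centralizer_iff.1 hx _ (D.tv_mem ha)).symm
  have hW : ∀ a < 64, x * D.vm (enc wBasis a) = D.vm (enc wBasis a) * x := fun a ha => by
    have := hxc a (by omega)
    rwa [D.tv_wC ha, D.cv_wC ha] at this
  have hN : x ∈ Subgroup.normalizer (D.V : Set G) := by
    have h3 : D.vm 3 = D.vm (enc wBasis 1) := by rw [wBasis_head.1]
    obtain ⟨hz, h1⟩ := D.not_isConj_duad (s := toSet 3) (by rw [card_toSet]; exact wBasis_head.2)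
    rw [D.vs_toSet] at hz h1
    refine hcent _ (D.vm_mem 3) h1 hz ?_
    rw [Subgroup.mem_centralizer_singleton_iff, h3]
    exact hW 1 (by norm_num)
  obtain ⟨v, hv, σ, rfl⟩ := D.decompose hN
  -- the permutation fixes every duad inside the octad
  obtain ⟨-, -, -, hduad, hthird⟩ := octO_check
  simp only [List.all_eq_true, List.mem_range, Bool.or_eq_true, Bool.not_eq_true',
    List.any_eq_true, Bool.and_eq_true, Nat.beq_eq] at hduad hthird
  have hpair : ∀ i j, i < 24 → j < 24 → octO.testBit i = true → octO.testBit j = true → i ≠ j →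
      (σ : Equiv.Perm GolayPt) (pt i) = pt i ∨ (σ : Equiv.Perm GolayPt) (pt i) = pt j := by
    intro i j hi hj bi bj hne
    have hm : inW (2 ^ i ^^^ 2 ^ j) = true := by
      rcases hduad i hi j hj with ((h | h) | h) | h
      · rw [bi] at h; exact absurd h (by simp)
      · rw [bj] at h; exact absurd h (by simp)
      · exact absurd h hne
      · exact h
    have hP : ({pt i, pt j} : Finset GolayPt).card = 2 :=
      Finset.card_pair fun e => hne (pt_inj hi hj e)
    have hev : Ev (2 ^ i ^^^ 2 ^ j) :=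
      ⟨Nat.xor_lt_two_pow (Nat.pow_lt_pow_right (by norm_num) hi)
        (Nat.pow_lt_pow_right (by norm_num) hj), by rw [toSet_pair hi hj hne, hP]; decide⟩
    obtain ⟨a, ha, hae⟩ := D.vm_of_inW hev hm
    rw [D.cv_wC ha] at hae
    have h := hW a ha
    rw [← hae, ← vs_toSet, toSet_pair hi hj hne] at h
    have h2 := D.conj_vs σ hv (s := ({pt i, pt j} : Finset GolayPt)) (by rw [hP]; decide)
    rw [h, mul_inv_cancel_right] at h2
    have h3 := D.C.S_inj (by rw [hP, Finset.card_smul_finset, hP]; decide)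
      (by rw [hP, Finset.card_smul_finset, hP]; norm_num) (D.ι_inj h2)
    have : (σ : Equiv.Perm GolayPt) • pt i ∈
        (σ : Equiv.Perm GolayPt) • ({pt i, pt j} : Finset GolayPt) :=
      Finset.smul_mem_smul_finset (by simp)
    rw [← h3, Finset.mem_insert, Finset.mem_singleton] at this
    exact this
  have hfix : ∀ p ∈ toSet octO, (σ : Equiv.Perm GolayPt) p = p := by
    intro p hp
    rw [mem_toSet] at hp
    rcases hthird (idx p) (idx_lt p) with h | ⟨j, hj, ⟨bj, hij⟩, k, hk, ⟨bk, hik⟩, hjk⟩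
    · rw [hp] at h; exact absurd h (by simp)
    · rw [← Bool.not_eq_true, Nat.beq_eq] at hij hik hjk
      have e1 := hpair (idx p) j (idx_lt p) hj hp bj hij
      have e2 := hpair (idx p) k (idx_lt p) hk hp bk hik
      rw [pt_idx] at e1 e2
      rcases e1 with e1 | e1
      · exact e1
      · rcases e2 with e2 | e2
        · exact e2
        · exact absurd (pt_inj hj hk (e1.symm.trans e2)) hjk
  obtain ⟨b, hb, rfl⟩ := exists_eP hfix
  obtain ⟨c, hc, rfl⟩ := D.exists_cv hv
  suffices h : wMask.testBit c = true by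
    obtain ⟨a, ha, rfl⟩ := wMask_exists hc h
    refine ⟨64 * b + a, by omega, ?_⟩
    rw [tv, show (64 * b + a) % 64 = a by omega, show (64 * b + a) / 64 = b by omega]
  have hE := List.all_eq_true.1 fixE_check c (List.mem_range.2 hc)
  simp only [Bool.or_eq_true, List.any_eq_true, Bool.not_eq_true'] at hE
  refine hE.resolve_right fun ⟨k, hk, hkf⟩ => ?_
  have hk16 : k < 16 := by fin_cases hk <;> norm_num
  have hcom := hxc (64 * k) (by omega)
  rw [tv, show 64 * k % 64 = 0 by omega, show 64 * k / 64 = k by omega, wC, enc_zero, D.cv_zero,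
    one_mul] at hcom
  have h1 : D.cv c * D.L (eP b * eP k) =
      (D.L (eP k) * D.cv c * (D.L (eP k))⁻¹) * D.L (eP k * eP b) := by
    rw [D.L_mul, D.L_mul, ← mul_assoc, hcom]; group
  have h2 := (D.dec_unique (D.cv_mem c) (D.L_conj_mem _ (D.cv_mem c)) h1).1
  rw [(D.fixC_iff hk16 c).2 h2.symm] at hkf
  exact absurd hkf (by simp)

theorem eP_mem_sylM : ∀ b < 16, eP b ∈ sylM := by
  intro b hb
  have key : ((List.range 16).all fun b => (List.range 1024).any fun i =>
      Nat.beq (getT 120 syl2Tbl i) (eOf b)) = true := by decide +kernel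
  have h := List.all_eq_true.1 key b (List.mem_range.2 hb)
  simp only [List.any_eq_true, List.mem_range, Nat.beq_eq] at h
  obtain ⟨i, hi, he⟩ := h
  obtain ⟨σ, hσ, hr⟩ := listed_mem syl2_listed hi
  rw [he] at hr
  have : eP b = ⟨σ, genGroup_le _ hσ⟩ := perm_eq hr
  rw [this]
  exact hσ

/-- the second case of the census is conjugate to the distinguished subgroup -/
theorem exists_conj_tenA_of_census {B : Subgroup G} (he : Cfsg.IsElementaryAbelian 2 B)
    (hc : Nat.card B = 2 ^ 10) (hlift : ∀ b < 16, ∃ v ∈ D.V, v * D.L (eP b) ∈ B)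
    (hW : ∀ a < 64, D.cv (wC a) ∈ B) :
    ∃ n ∈ D.V, B.map (MulAut.conj n).toMonoidHom = D.tenA := by
  obtain ⟨⟨hcm⟩, hexp⟩ := he
  have hred : ∀ b < 16, ∃ r < 32, D.cv r * D.L (eP b) ∈ B := by
    intro b hb
    obtain ⟨v, hv, hvB⟩ := hlift b hb
    obtain ⟨c, hc', rfl⟩ := D.exists_cv hv
    have h := List.all_eq_true.1 qReps_check c (List.mem_range.2 hc')
    simp only [List.any_eq_true, List.mem_range] at h
    obtain ⟨r, hr, h⟩ := h
    obtain ⟨a, ha, hae⟩ := wMask_exists (Nat.xor_lt_two_pow (n := 11) hc' (by omega)) h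
    refine ⟨r, hr, ?_⟩
    have := mul_mem (hW a ha) hvB
    rwa [hae, ← mul_assoc, ← D.cv_xor, Nat.xor_comm c r, Nat.xor_assoc, Nat.xor_self,
      Nat.xor_zero] at this
  obtain ⟨r₀, hr₀, h₀⟩ := hred 1 (by norm_num)
  obtain ⟨r₁, hr₁, h₁⟩ := hred 2 (by norm_num)
  obtain ⟨r₂, hr₂, h₂⟩ := hred 4 (by norm_num)
  obtain ⟨r₃, hr₃, h₃⟩ := hred 8 (by norm_num)
  have hfx : ∀ r b, b < 16 → D.cv r * D.L (eP b) ∈ B → fixC (eOf b) r = true := by
    intro r b hb h
    refine (D.fixC_iff hb r).2 ?_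
    have h2 : D.cv r * D.L (eP b) * (D.cv r * D.L (eP b)) = 1 := by
      rw [← pow_two]; exact hexp _ h
    rw [D.mul_L] at h2
    have h3 := (D.dec_unique (mul_mem (D.cv_mem r) (D.L_conj_mem _ (D.cv_mem r))) (one_mem _)
      (h2.trans (by rw [D.L_one, one_mul] : (1 : G) = 1 * D.L 1))).1
    rwa [mul_eq_one_iff_inv_eq, cv, D.vm_inv, eq_comm] at h3
  have hcc : ∀ r r' b b', b < 16 → b' < 16 → D.cv r * D.L (eP b) ∈ B →
      D.cv r' * D.L (eP b') ∈ B → commC (eOf b) (eOf b') r r' = true := by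
    intro r r' b b' hb hb' h h'
    have h2 : D.cv r * D.L (eP b) * (D.cv r' * D.L (eP b')) =
        D.cv r' * D.L (eP b') * (D.cv r * D.L (eP b)) :=
      congrArg Subtype.val (hcm.comm ⟨_, h⟩ ⟨_, h'⟩)
    rw [D.mul_L, D.mul_L] at h2
    have h3 := (D.dec_unique (mul_mem (D.cv_mem r) (D.L_conj_mem _ (D.cv_mem r')))
      (mul_mem (D.cv_mem r') (D.L_conj_mem _ (D.cv_mem r))) h2).1
    rw [D.eP_conj hb, D.eP_conj hb', cv, cv, ← D.vm_xor, ← D.vm_xor] at h3
    refine D.inCode_of_vm_eq_one (((ev_code r).xor (ev_of_rep (eP_rep hb) (ev_code r'))).xor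
      ((ev_code r').xor (ev_of_rep (eP_rep hb') (ev_code r)))) ?_
    show D.vm ((code r ^^^ actP (eOf b) (code r')) ^^^ (code r' ^^^ actP (eOf b') (code r))) = 1
    rw [D.vm_xor, h3, D.vm_sq]
  have hk := cocycle_check
  simp only [List.all_eq_true, List.mem_range, Bool.or_eq_true, Bool.not_eq_true',
    List.any_eq_true, Bool.and_eq_true] at hk
  have hk0 := (hk r₀ hr₀).resolve_left (by simp [hfx r₀ 1 (by norm_num) h₀]) r₁ hr₁
  have hk1 := hk0.resolve_left (by
    simp [hfx r₁ 2 (by norm_num) h₁, hcc r₀ r₁ 1 2 (by norm_num) (by norm_num) h₀ h₁]) r₂ hr₂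
  have hk2 := hk1.resolve_left (by
    simp [hfx r₂ 4 (by norm_num) h₂, hcc r₀ r₂ 1 4 (by norm_num) (by norm_num) h₀ h₂,
      hcc r₁ r₂ 2 4 (by norm_num) (by norm_num) h₁ h₂]) r₃ hr₃
  obtain ⟨u, hu, ⟨⟨a₀, a₁⟩, a₂⟩, a₃⟩ := hk2.resolve_left (by
    simp [hfx r₃ 8 (by norm_num) h₃, hcc r₀ r₃ 1 8 (by norm_num) (by norm_num) h₀ h₃,
      hcc r₁ r₃ 2 8 (by norm_num) (by norm_num) h₁ h₃,
      hcc r₂ r₃ 4 8 (by norm_num) (by norm_num) h₂ h₃])
  refine ⟨D.cv u, D.cv_mem u, ?_⟩
  set B' := B.map (MulAut.conj (D.cv u)).toMonoidHom with hB'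
  have hinv : (D.cv u)⁻¹ = D.cv u := D.vm_inv _
  have hmemB : ∀ x ∈ B, D.cv u * x * D.cv u ∈ B' := fun x hx =>
    ⟨x, hx, by simp [MulAut.conj_apply, hinv]⟩
  have hWB : ∀ a < 64, D.tv a ∈ B' := fun a ha => by
    have := hmemB _ (hW a ha)
    rwa [cv, cv, ← D.vm_xor, ← D.vm_xor, Nat.xor_comm (code u), Nat.xor_assoc, Nat.xor_self,
      Nat.xor_zero, ← cv, ← D.tv_wC ha] at this
  have hgen : ∀ r b, b < 16 → D.cv r * D.L (eP b) ∈ B → absorb (eOf b) r u = true →
      D.tv (64 * b) ∈ B' := by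
    intro r b hb h ha
    have hev := (ev_code u).xor (ev_of_rep (eP_rep hb) (ev_code u))
    obtain ⟨a, ha', hae⟩ := D.vm_of_inW ((ev_code r).xor hev) ha
    have h1 := mul_mem (hWB a ha') (hmemB _ h)
    have e : D.cv u * (D.cv r * D.L (eP b)) * D.cv u = D.cv (wC a) * D.L (eP b) := by
      rw [show D.cv u * (D.cv r * D.L (eP b)) * D.cv u =
        D.cv u * D.cv r * (D.L (eP b) * D.cv u * (D.L (eP b))⁻¹) * D.L (eP b) by group,
        D.eP_conj hb, ← hae, cv, cv, ← D.vm_xor, ← D.vm_xor]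
      congr 2
      rw [Nat.xor_comm (code u), Nat.xor_assoc]
    rw [e, D.tv_wC ha', ← mul_assoc] at h1
    rw [tv, show 64 * b % 64 = 0 by omega, show 64 * b / 64 = b by omega, wC, enc_zero, D.cv_zero,
      one_mul]
    rwa [cv, ← D.vm_xor, Nat.xor_self, D.vm_zero, one_mul] at h1
  refine (Subgroup.eq_of_le_of_card_ge ?_ ?_).symm
  · have key : ∀ a < 2048, D.tv (a % 1024) ∈ B' := by
      intro a ha
      refine xor_induction (P := fun a => D.tv (a % 1024) ∈ B') ?_ ?_ ?_ ha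
      · simp [D.tv_zero]
      · intro j hj
        rcases lt_or_ge j 6 with h6 | h6
        · have h64 : 2 ^ j < 64 := Nat.pow_lt_pow_right (a := 2) (by norm_num) h6
          show D.tv (2 ^ j % 1024) ∈ B'
          rw [Nat.mod_eq_of_lt (by omega)]
          exact hWB _ h64
        · interval_cases j
          · exact hgen r₀ 1 (by norm_num) h₀ a₀
          · exact hgen r₁ 2 (by norm_num) h₁ a₁
          · exact hgen r₂ 4 (by norm_num) h₂ a₂
          · exact hgen r₃ 8 (by norm_num) h₃ a₃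
          · exact hWB 0 (by norm_num)
      · intro a b _ _ pa pb
        have := mul_mem pa pb
        rw [D.tv_mul (Nat.mod_lt _ (by norm_num)) (Nat.mod_lt _ (by norm_num))] at this
        rwa [show (1024 : ℕ) = 2 ^ 10 by norm_num, Nat.xor_mod_two_pow]
    rintro _ ⟨a, ha, rfl⟩
    simpa [Nat.mod_eq_of_lt ha] using key a (by omega)
  · rw [hB', Subgroup.card_map_of_injective (MulAut.conj (D.cv u)).injective, hc, D.natCard_tenA]

/-- self-centralising elementary abelian subgroups of order `2^10` are conjugate to the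
distinguished one -/
theorem exists_conj_tenA {B : Subgroup G} (he : Cfsg.IsElementaryAbelian 2 B)
    (hc : Nat.card B = 2 ^ 10) (hs : Subgroup.centralizer (B : Set G) = B) :
    ∃ g : G, B.map (MulAut.conj g).toMonoidHom = D.tenA := by
  obtain ⟨g, hg⟩ := D.exists_conj_le_sylT (IsPGroup.of_card hc)
  set B1 := B.map (MulAut.conj g).toMonoidHom with hB1
  have hB1T : B1 ≤ D.sylT := by
    rintro _ ⟨x, hx, rfl⟩; exact hg x hx
  have hc1 : Nat.card B1 = 2 ^ 10 := by
    rw [hB1, Subgroup.card_map_of_injective (MulAut.conj g).injective, hc]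
  have he1 := conj_elementary g he
  rcases D.census hB1T he1 hc1 with h | ⟨-, h2, h3, -⟩
  · exfalso
    have hVB : D.V ≤ B1 := by
      intro v hv
      have hm : g⁻¹ * v * g ∈ Subgroup.centralizer (B : Set G) := by
        refine Subgroup.mem_centralizer_iff.2 fun y hy => ?_
        have := D.V_comm (h ⟨y, hy, rfl⟩ : (MulAut.conj g).toMonoidHom y ∈ D.V) hv
        simp only [MulEquiv.coe_toMonoidHom, MulAut.conj_apply] at this
        calc y * (g⁻¹ * v * g) = g⁻¹ * (g * y * g⁻¹ * v) * g := by group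
          _ = g⁻¹ * (v * (g * y * g⁻¹)) * g := by rw [this]
          _ = _ := by group
      rw [hs] at hm
      exact ⟨_, hm, by simp [MulAut.conj_apply]; group⟩
    have := Subgroup.card_le_of_le hVB
    rw [D.card, hc1] at this
    norm_num at this
  · obtain ⟨n, -, hn⟩ := D.exists_conj_tenA_of_census he1 hc1 h2 h3
    refine ⟨n * g, ?_⟩
    rw [← hn, Subgroup.map_map]
    congr 1
    ext x
    simp [MulAut.conj_apply, mul_assoc]

end CfsgLib.Spor.JankoFourCentral.Eleven
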